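import Cfsg.Agent.Lib.McLChar.Items
import Cfsg.Agent.Lib.McLChar.Bad

/-! Kernel checks of the derivations of relators. -/

set_option autoImplicit false
set_option maxRecDepth 100000
set_option maxHeartbeats 4000000

namespace CfsgMcLChar.Bad

theorem items0_ok : itemsOK rels id [0, 1, 4] items0 = true := by decide +kernel

theorem items1_ok : itemsOK rels id [0, 1, 4] items1 = true := by decide +kernel

theorem items2_ok : itemsOK rels id [0, 1, 4] items2 = true := by decide +kernel

theorem items3_ok : itemsOK rels id [0, 1, 4] items3 = true := by decide +kernel

theorem cover_ok : ((List.range rels.length).all fun n =>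
    (items.any fun it => Nat.beq it.1 n)) = true := by decide +kernel

theorem items_ok : itemsOK rels id [0, 1, 4] items = true := by
  simp only [items, itemsOK, List.all_append, Bool.and_eq_true]
  exact ⟨⟨⟨items0_ok, items1_ok⟩, items2_ok⟩, items3_ok⟩

end CfsgMcLChar.Bad
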