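import Cfsg.Agent.Lib.McLChar.Sub

/-! Kernel checks of an enumeration. -/

set_option autoImplicit false
set_option maxRecDepth 100000
set_option maxHeartbeats 4000000

namespace CfsgMcLChar.Sub

theorem facts0 : cert.okFacts 0 400 = true := by decide +kernel

theorem facts400 : cert.okFacts 400 393 = true := by decide +kernel

theorem rows_ok : cert.okRows 0 77 = true := by decide +kernel

end CfsgMcLChar.Sub
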