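import Cfsg.Agent.Lib.McLChar.Top

/-! Kernel checks of an enumeration. -/

set_option autoImplicit false
set_option maxRecDepth 100000
set_option maxHeartbeats 4000000

namespace CfsgMcLChar.Top

theorem facts0 : cert.okFacts 0 500 = true := by decide +kernel

theorem facts500 : cert.okFacts 500 500 = true := by decide +kernel

theorem facts1000 : cert.okFacts 1000 500 = true := by decide +kernel

theorem facts1500 : cert.okFacts 1500 500 = true := by decide +kernel

theorem facts2000 : cert.okFacts 2000 500 = true := by decide +kernel

theorem facts2500 : cert.okFacts 2500 500 = true := by decide +kernel

theorem facts3000 : cert.okFacts 3000 500 = true := by decide +kernel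

theorem facts3500 : cert.okFacts 3500 500 = true := by decide +kernel

end CfsgMcLChar.Top
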