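import Cfsg.Agent.Lib.McLChar.Top

/-! Kernel checks of an enumeration. -/

set_option autoImplicit false
set_option maxRecDepth 100000
set_option maxHeartbeats 4000000

namespace CfsgMcLChar.Top

theorem facts4000 : cert.okFacts 4000 500 = true := by decide +kernel

theorem facts4500 : cert.okFacts 4500 500 = true := by decide +kernel

theorem facts5000 : cert.okFacts 5000 500 = true := by decide +kernel

theorem facts5500 : cert.okFacts 5500 500 = true := by decide +kernel

theorem facts6000 : cert.okFacts 6000 500 = true := by decide +kernel

theorem facts6500 : cert.okFacts 6500 500 = true := by decide +kernel

theorem facts7000 : cert.okFacts 7000 500 = true := by decide +kernel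

theorem facts7500 : cert.okFacts 7500 500 = true := by decide +kernel

end CfsgMcLChar.Top
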