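import Cfsg.Agent.Lib.McLChar.Top

/-! Kernel checks of an enumeration. -/

set_option autoImplicit false
set_option maxRecDepth 100000
set_option maxHeartbeats 4000000

namespace CfsgMcLChar.Top

theorem facts8000 : cert.okFacts 8000 500 = true := by decide +kernel

theorem facts8500 : cert.okFacts 8500 500 = true := by decide +kernel

theorem facts9000 : cert.okFacts 9000 500 = true := by decide +kernel

theorem facts9500 : cert.okFacts 9500 500 = true := by decide +kernel

theorem facts10000 : cert.okFacts 10000 500 = true := by decide +kernel

theorem facts10500 : cert.okFacts 10500 500 = true := by decide +kernel

theorem facts11000 : cert.okFacts 11000 500 = true := by decide +kernel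

theorem facts11500 : cert.okFacts 11500 500 = true := by decide +kernel

end CfsgMcLChar.Top
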