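import Cfsg.Agent.Lib.McLChar.Top

/-! Kernel checks of an enumeration. -/

set_option autoImplicit false
set_option maxRecDepth 100000
set_option maxHeartbeats 4000000

namespace CfsgMcLChar.Top

theorem facts12000 : cert.okFacts 12000 500 = true := by decide +kernel

theorem facts12500 : cert.okFacts 12500 500 = true := by decide +kernel

theorem facts13000 : cert.okFacts 13000 500 = true := by decide +kernel

theorem facts13500 : cert.okFacts 13500 500 = true := by decide +kernel

theorem facts14000 : cert.okFacts 14000 500 = true := by decide +kernel

theorem facts14500 : cert.okFacts 14500 500 = true := by decide +kernel

theorem facts15000 : cert.okFacts 15000 500 = true := by decide +kernel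

theorem facts15500 : cert.okFacts 15500 500 = true := by decide +kernel

theorem facts16000 : cert.okFacts 16000 441 = true := by decide +kernel

theorem rows_ok : cert.okRows 0 2025 = true := by decide +kernel

end CfsgMcLChar.Top
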