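import Cfsg.Agent.Lib.McLChar.BadChecks
import Cfsg.Agent.Lib.McLChar.SubChecks
import Cfsg.Agent.Lib.McLChar.TopChecks0
import Cfsg.Agent.Lib.McLChar.TopChecks1
import Cfsg.Agent.Lib.McLChar.TopChecks2
import Cfsg.Agent.Lib.McLChar.TopChecks3

/-! The enumerations are right. -/

set_option autoImplicit false

namespace CfsgMcLChar

theorem Bad.okAll {j : ℕ} (hj : j < Bad.cert.nf) : Bad.cert.okFact j = true := by
  replace hj : j < 897 := hj
  rcases Nat.lt_or_ge j 450 with h | h
  · exact Enum.okFacts_spec Bad.facts0 (by omega) (by omega)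
  exact Enum.okFacts_spec Bad.facts450 (by omega) (by omega)

theorem Sub.okAll {j : ℕ} (hj : j < Sub.cert.nf) : Sub.cert.okFact j = true := by
  replace hj : j < 793 := hj
  rcases Nat.lt_or_ge j 400 with h | h
  · exact Enum.okFacts_spec Sub.facts0 (by omega) (by omega)
  exact Enum.okFacts_spec Sub.facts400 (by omega) (by omega)

theorem Top.okAll {j : ℕ} (hj : j < Top.cert.nf) : Top.cert.okFact j = true := by
  replace hj : j < 16441 := hj
  rcases Nat.lt_or_ge j 500 with h | h
  · exact Enum.okFacts_spec Top.facts0 (by omega) (by omega)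
  rcases Nat.lt_or_ge j 1000 with h | h
  · exact Enum.okFacts_spec Top.facts500 (by omega) (by omega)
  rcases Nat.lt_or_ge j 1500 with h | h
  · exact Enum.okFacts_spec Top.facts1000 (by omega) (by omega)
  rcases Nat.lt_or_ge j 2000 with h | h
  · exact Enum.okFacts_spec Top.facts1500 (by omega) (by omega)
  rcases Nat.lt_or_ge j 2500 with h | h
  · exact Enum.okFacts_spec Top.facts2000 (by omega) (by omega)
  rcases Nat.lt_or_ge j 3000 with h | h
  · exact Enum.okFacts_spec Top.facts2500 (by omega) (by omega)
  rcases Nat.lt_or_ge j 3500 with h | h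
  · exact Enum.okFacts_spec Top.facts3000 (by omega) (by omega)
  rcases Nat.lt_or_ge j 4000 with h | h
  · exact Enum.okFacts_spec Top.facts3500 (by omega) (by omega)
  rcases Nat.lt_or_ge j 4500 with h | h
  · exact Enum.okFacts_spec Top.facts4000 (by omega) (by omega)
  rcases Nat.lt_or_ge j 5000 with h | h
  · exact Enum.okFacts_spec Top.facts4500 (by omega) (by omega)
  rcases Nat.lt_or_ge j 5500 with h | h
  · exact Enum.okFacts_spec Top.facts5000 (by omega) (by omega)
  rcases Nat.lt_or_ge j 6000 with h | h
  · exact Enum.okFacts_spec Top.facts5500 (by omega) (by omega)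
  rcases Nat.lt_or_ge j 6500 with h | h
  · exact Enum.okFacts_spec Top.facts6000 (by omega) (by omega)
  rcases Nat.lt_or_ge j 7000 with h | h
  · exact Enum.okFacts_spec Top.facts6500 (by omega) (by omega)
  rcases Nat.lt_or_ge j 7500 with h | h
  · exact Enum.okFacts_spec Top.facts7000 (by omega) (by omega)
  rcases Nat.lt_or_ge j 8000 with h | h
  · exact Enum.okFacts_spec Top.facts7500 (by omega) (by omega)
  rcases Nat.lt_or_ge j 8500 with h | h
  · exact Enum.okFacts_spec Top.facts8000 (by omega) (by omega)
  rcases Nat.lt_or_ge j 9000 with h | h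
  · exact Enum.okFacts_spec Top.facts8500 (by omega) (by omega)
  rcases Nat.lt_or_ge j 9500 with h | h
  · exact Enum.okFacts_spec Top.facts9000 (by omega) (by omega)
  rcases Nat.lt_or_ge j 10000 with h | h
  · exact Enum.okFacts_spec Top.facts9500 (by omega) (by omega)
  rcases Nat.lt_or_ge j 10500 with h | h
  · exact Enum.okFacts_spec Top.facts10000 (by omega) (by omega)
  rcases Nat.lt_or_ge j 11000 with h | h
  · exact Enum.okFacts_spec Top.facts10500 (by omega) (by omega)
  rcases Nat.lt_or_ge j 11500 with h | h
  · exact Enum.okFacts_spec Top.facts11000 (by omega) (by omega)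
  rcases Nat.lt_or_ge j 12000 with h | h
  · exact Enum.okFacts_spec Top.facts11500 (by omega) (by omega)
  rcases Nat.lt_or_ge j 12500 with h | h
  · exact Enum.okFacts_spec Top.facts12000 (by omega) (by omega)
  rcases Nat.lt_or_ge j 13000 with h | h
  · exact Enum.okFacts_spec Top.facts12500 (by omega) (by omega)
  rcases Nat.lt_or_ge j 13500 with h | h
  · exact Enum.okFacts_spec Top.facts13000 (by omega) (by omega)
  rcases Nat.lt_or_ge j 14000 with h | h
  · exact Enum.okFacts_spec Top.facts13500 (by omega) (by omega)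
  rcases Nat.lt_or_ge j 14500 with h | h
  · exact Enum.okFacts_spec Top.facts14000 (by omega) (by omega)
  rcases Nat.lt_or_ge j 15000 with h | h
  · exact Enum.okFacts_spec Top.facts14500 (by omega) (by omega)
  rcases Nat.lt_or_ge j 15500 with h | h
  · exact Enum.okFacts_spec Top.facts15000 (by omega) (by omega)
  rcases Nat.lt_or_ge j 16000 with h | h
  · exact Enum.okFacts_spec Top.facts15500 (by omega) (by omega)
  exact Enum.okFacts_spec Top.facts16000 (by omega) (by omega)

end CfsgMcLChar
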