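import Cfsg.Agent.Lib.McLChar.Items
import Cfsg.Agent.Lib.McLChar.Top

/-! Kernel checks of the derivations of relators. -/

set_option autoImplicit false
set_option maxRecDepth 100000
set_option maxHeartbeats 4000000

namespace CfsgMcLChar.Top

theorem items0_ok : itemsOK rels id [0, 1, 2] items0 = true := by decide +kernel

theorem items1_ok : itemsOK rels id [0, 1, 2] items1 = true := by decide +kernel

theorem items2_ok : itemsOK rels id [0, 1, 2] items2 = true := by decide +kernel

theorem items3_ok : itemsOK rels id [0, 1, 2] items3 = true := by decide +kernel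

theorem items4_ok : itemsOK rels id [0, 1, 2] items4 = true := by decide +kernel

theorem items5_ok : itemsOK rels id [0, 1, 2] items5 = true := by decide +kernel

theorem items6_ok : itemsOK rels id [0, 1, 2] items6 = true := by decide +kernel

theorem items7_ok : itemsOK rels id [0, 1, 2] items7 = true := by decide +kernel

theorem items8_ok : itemsOK rels id [0, 1, 2] items8 = true := by decide +kernel

theorem items9_ok : itemsOK rels id [0, 1, 2] items9 = true := by decide +kernel

theorem items10_ok : itemsOK rels id [0, 1, 2] items10 = true := by decide +kernel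

theorem items11_ok : itemsOK rels id [0, 1, 2] items11 = true := by decide +kernel

theorem items12_ok : itemsOK rels id [0, 1, 2] items12 = true := by decide +kernel

theorem items13_ok : itemsOK rels id [0, 1, 2] items13 = true := by decide +kernel

theorem cover_ok : ((List.range rels.length).all fun n =>
    (items.any fun it => Nat.beq it.1 n) ||
    (List.range 4).any fun i => decide (Enum.unp (rels.getD n 0) = (9 + 2 * i) :: Dat.subWords.getD i [])) = true := by decide +kernel

theorem model_ok : (rels.all fun u => eqW (Enum.expW ([[0], [2], [4], [6]] ++ Dat.subWords.take 4) (Enum.unp u)) []) = true := by decide +kernel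

theorem items_ok : itemsOK rels id [0, 1, 2] items = true := by
  simp only [items, itemsOK, List.all_append, Bool.and_eq_true]
  exact ⟨⟨⟨⟨⟨⟨⟨⟨⟨⟨⟨⟨⟨items0_ok, items1_ok⟩, items2_ok⟩, items3_ok⟩, items4_ok⟩, items5_ok⟩, items6_ok⟩, items7_ok⟩, items8_ok⟩, items9_ok⟩, items10_ok⟩, items11_ok⟩, items12_ok⟩, items13_ok⟩

end CfsgMcLChar.Top
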