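import Cfsg.Agent.Lib.McLChar.Local
import Cfsg.Agent.Lib.McLChar.Tables
import Cfsg.Agent.Lib.McLChar.TopItems
import Cfsg.Agent.Lib.McLChar.BadItems
import Cfsg.Agent.Lib.McLChar.SubItems
import Cfsg.Agent.Lib.Leech.Conway
import Mathlib.Algebra.Group.Pointwise.Set.Card

/-!
A group with the hypotheses contains a copy of McL through the model centraliser.
-/

set_option autoImplicit false
set_option maxRecDepth 100000

namespace CfsgMcLChar

open scoped Pointwise
open Subgroup Equiv CfsgLib.McLInvol CfsgPC CfsgLeech CfsgLeech.Models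
open CfsgMcLChar.Enum (evW letG LocalOK)

theorem mclP_simple : IsSimpleGroup McLP := by
  obtain ⟨-, -, ⟨e⟩⟩ := mcl_model
  haveI := CfsgLeech.mcl_simple
  haveI : Nontrivial McLP := e.toEquiv.symm.nontrivial
  exact IsSimpleGroup.isSimpleGroup_of_surjective (G := _) (H := McLP) e.toMonoidHom e.surjective

attribute [local irreducible] fixChain invT centGens sylGens sylChain mclRigid Top.items Bad.items Sub.items
  Top.rels Bad.rels Sub.rels Top.cert Bad.cert Sub.cert

/-- The named subwords generating the group with the four further letters. -/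
def topA : List (List ℕ) := [[0], [2], [4], [6]] ++ Dat.subWords.take 4

/-- A relator is derived or trivial. -/
def covB (rels : List ℕ) (items : List (ℕ × ℕ × Bool × ℕ × List Enum.Step)) (A : List (List ℕ)) : Bool :=
  (List.range rels.length).all fun n =>
    (items.any fun it => Nat.beq it.1 n) || (Enum.red (Enum.expW A (Enum.unp (rels.getD n 0)))).isEmpty

/-- The translation of the sources. -/
def subB (items : List (ℕ × ℕ × Bool × ℕ × List Enum.Step)) (sub : List ℕ → List ℕ) (A : List (List ℕ)) : Bool :=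
  items.all fun it => decide (Enum.red (sub (Enum.unp it.2.2.2.1)) = Enum.red (Enum.expW A (Enum.unp it.2.2.2.1)))

set_option maxHeartbeats 4000000 in
theorem top_extra : covB Top.rels Top.items topA = true ∧ subB Top.items id topA = true ∧ topA.length = 8 := by
  decide +kernel

set_option maxHeartbeats 4000000 in
theorem bad_extra : covB Bad.rels Bad.items [[0], [2], [4], [6]] = true ∧
    subB Bad.items id [[0], [2], [4], [6]] = true := by decide +kernel

set_option maxHeartbeats 4000000 in
theorem sub_extra : covB Sub.rels Sub.items Dat.subWords = true ∧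
    subB Sub.items subM Dat.subWords = true ∧ (Dat.six.all fun l => l.all fun p => Nat.blt p 275) = true := by
  decide +kernel

variable {G : Type*} [Group G]

/-- Relators hold when they are derived. -/
theorem rels_true {rels : List ℕ} {sub : List ℕ → List ℕ} {groups : List ℕ}
    {items : List (ℕ × ℕ × Bool × ℕ × List Enum.Step)} {A : List (List ℕ)} {LG : List G}
    (hok : itemsOK rels sub groups items = true) (hcov : covB rels items A = true)
    (hsub : subB items sub A = true) (hloc : ∀ k ∈ groups, LocalOK LG gM (atG k) (atM k)) :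
    ∀ u ∈ rels, evW (A.map (evW LG)) (Enum.unp u) = 1 := by
  intro u hu
  obtain ⟨n, hn, rfl⟩ := List.getElem_of_mem hu
  have h := List.all_eq_true.mp hcov n (List.mem_range.mpr hn)
  rw [Bool.or_eq_true, List.getD_eq_getElem _ _ hn] at h
  rcases h with h | h
  · obtain ⟨it, hit, e⟩ := List.any_eq_true.mp h
    have e1 : it.1 = n := Nat.eq_of_beq_eq_true e
    have hi := List.all_eq_true.mp hok it hit
    simp only [itemOK, Bool.and_eq_true, decide_eq_true_eq, List.all_eq_true, List.contains_iff_mem] at hi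
    obtain ⟨⟨h1, h2⟩, h3⟩ := hi
    have hs := of_decide_eq_true (List.all_eq_true.mp hsub it hit)
    have hv : evW (A.map (evW LG)) (Enum.unp it.2.2.2.1) = 1 := by
      rw [← Enum.evW_exp, ← Enum.evW_eq_of_red LG hs, ← Enum.evW_red]
      exact Enum.derivB_sound (fun u v h => eqW_iff.mp h) (fun s hs' => hloc _ (h2 s hs')) h3
    rw [e1, List.getD_eq_getElem _ _ hn] at h1
    rw [← Enum.evW_eq_of_red _ h1, Enum.evW_append, Enum.evW_append, Enum.evW_winv]
    split <;> simp [Enum.evW_winv, hv]
  · rw [← Enum.evW_exp, ← Enum.evW_red, List.isEmpty_iff.mp h, Enum.evW_nil]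

/-- Relators hold in the model. -/
theorem rels_model {rels : List ℕ} {A : List (List ℕ)}
    (h : (rels.all fun u => eqW (Enum.expW A (Enum.unp u)) []) = true) :
    ∀ u ∈ rels, evW (A.map (evW gM)) (Enum.unp u) = 1 := fun u hu => by
  rw [← Enum.evW_exp, eqW_iff.mp (List.all_eq_true.mp h u hu), Enum.evW_nil]

/-- A word is evaluated in each component. -/
theorem evW_pair {Γ : Type*} [Group Γ] (P : List (G × Γ)) (w : List ℕ) :
    evW P w = (evW (P.map Prod.fst) w, evW (P.map Prod.snd) w) := by
  refine Prod.ext ?_ ?_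
  · exact (Enum.evW_map (MonoidHom.fst G Γ) P w).symm
  · exact (Enum.evW_map (MonoidHom.snd G Γ) P w).symm

/-- The order bound given by an enumeration inside a group. -/
theorem card_le_enum {Γ : Type*} [Group Γ] [Finite Γ] {L : List Γ} {C : Enum.Cert} {K H : Subgroup Γ}
    (hL : L.length ≤ 8) (hmem : ∀ g ∈ L, g ∈ K) (hK : K ≤ Subgroup.closure {g | ∃ i < C.gens, g = letG L (2 * i)})
    (hHK : H ≤ K) (hsub : ∀ x ∈ C.sub, letG L x ∈ H) (hR : ∀ u ∈ C.rels, evW L (Enum.unp u) = 1)
    (hok : ∀ j < C.nf, C.okFact j = true) (hrow : C.okRows 0 C.size = true) (h0 : C.rep.get 0 = 0)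
    (hpos : 0 < C.size) : Nat.card K ≤ C.size * Nat.card H := by
  let L' : List K := L.attach.map fun g => ⟨g.1, hmem g.1 g.2⟩
  have hmap : L'.map K.subtype = L := by simp [L', List.map_map, Function.comp_def]
  have hlet : ∀ x, ((letG L' x : K) : Γ) = letG L x := fun x => by
    show K.subtype (letG L' x) = _
    rw [← Enum.evW_one, ← Enum.evW_one, ← hmap, Enum.evW_map]
  have hidx := Enum.index_le (L := L') (H.subgroupOf K) (by simpa [L'] using hL)
    (fun x hx => Subgroup.mem_subgroupOf.mpr (hlet x ▸ hsub x hx))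
    (fun u hu => K.subtype_injective (by rw [← Enum.evW_map K.subtype, hmap, hR u hu, map_one]))
    hok hrow h0 hpos ?_
  · calc Nat.card K = Nat.card (H.subgroupOf K) * (H.subgroupOf K).index := (Subgroup.card_mul_index _).symm
      _ ≤ Nat.card (H.subgroupOf K) * C.size := Nat.mul_le_mul_left _ hidx
      _ = _ := by rw [Nat.card_congr (Subgroup.subgroupOfEquivOfLe hHK).toEquiv, mul_comm]
  · refine Subgroup.map_injective K.subtype_injective ?_
    rw [MonoidHom.map_closure, ← MonoidHom.range_eq_map, Subgroup.range_subtype]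
    have e : K.subtype '' {g | ∃ i < C.gens, g = letG L' (2 * i)} = {g | ∃ i < C.gens, g = letG L (2 * i)} := by
      ext g
      constructor
      · rintro ⟨_, ⟨i, hi, rfl⟩, rfl⟩; exact ⟨i, hi, hlet _⟩
      · rintro ⟨i, hi, rfl⟩; exact ⟨_, ⟨i, hi, rfl⟩, hlet _⟩
    rw [e]
    refine le_antisymm ((Subgroup.closure_le _).mpr ?_) hK
    rintro _ ⟨i, -, rfl⟩
    rw [← hlet]; exact SetLike.coe_mem _

variable [Finite G] {t : G} {ψ : Cent →* G} {o : G}

theorem gG_eq (ψ : Cent →* G) (o : G) : gG ψ o = [ψ (gC.getD 0 1), ψ (gC.getD 1 1), ψ (gC.getD 2 1), o] := by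
  simp [gG, gC]

theorem plain_eq {M : Type*} [Group M] {L : List M} {a b c d : M} (h : L = [a, b, c, d]) :
    ([[0], [2], [4], [6]] : List (List ℕ)).map (evW L) = L := by
  subst h
  simp [Enum.evW_one, letG]

/-- The wrong gluing does not occur. -/
theorem good (S : Setting t ψ) (D : LocalData t ψ o) :
    LocalOK (gG ψ o) gM (atG 2) (atM 2) ∧ LocalOK (gG ψ o) gM (atG 3) (atM 3) := by
  refine D.rest.resolve_left fun h4 => D.move ?_
  have hloc : ∀ k ∈ ([0, 1, 4] : List ℕ), LocalOK (gG ψ o) gM (atG k) (atM k) := fun k hk => by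
    rcases List.mem_cons.mp hk with rfl | hk
    · exact D.zero
    rcases List.mem_cons.mp hk with rfl | hk
    · exact D.one
    rcases List.mem_singleton.mp hk with rfl
    exact h4
  have hR := rels_true Bad.items_ok bad_extra.1 bad_extra.2 hloc
  rw [plain_eq (gG_eq ψ o)] at hR
  have hcs : Bad.cert.rels = Bad.rels ∧ Bad.cert.sub = [0, 1, 2, 3, 4, 5] := by
    unfold Bad.cert; exact ⟨rfl, rfl⟩
  obtain ⟨-, hx, ha, hb, hj⟩ := bad_root
  have h := Enum.mem_of_fact (L := gG ψ o) (Subgroup.centralizer ({t} : Set G)) (by rw [gG_eq]; simp)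
    (fun x hx => ?_) (by rw [hcs.1]; exact hR) (fun j hj => Bad.okAll hj) hj hx ha hb
  · rw [← Enum.evW_one, gG_o, Subgroup.mem_centralizer_singleton_iff] at h
    rw [h, mul_inv_cancel_right]
  · rw [← Enum.evW_one, evG_cWord ψ o]
    · exact S.le ⟨_, rfl⟩
    · rw [hcs.2] at hx
      simp only [cWord, List.all_cons, List.all_nil, Bool.and_true, Nat.blt_eq]
      simp only [List.mem_cons, List.not_mem_nil, or_false] at hx
      omega

theorem LocalData.loc (S : Setting t ψ) (D : LocalData t ψ o) :
    ∀ k ∈ ([0, 1, 2, 3] : List ℕ), LocalOK (gG ψ o) gM (atG k) (atM k) := fun k hk => by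
  rcases List.mem_cons.mp hk with rfl | hk
  · exact D.zero
  rcases List.mem_cons.mp hk with rfl | hk
  · exact D.one
  rcases List.mem_cons.mp hk with rfl | hk
  · exact (good S D).1
  rcases List.mem_singleton.mp hk with rfl
  exact (good S D).2

/-- The generators of the two groups. -/
noncomputable def gP (ψ : Cent →* G) (o : G) : List (G × McLP) := List.zip (gG ψ o) gM

theorem gP_fst (ψ : Cent →* G) (o : G) : (gP ψ o).map Prod.fst = gG ψ o :=
  List.map_fst_zip (by simp [gG, gC, gM])

theorem gP_snd (ψ : Cent →* G) (o : G) : (gP ψ o).map Prod.snd = gM :=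
  List.map_snd_zip (by simp [gG, gC, gM])

theorem pair_eval (ψ : Cent →* G) (o : G) (A : List (List ℕ)) (w : List ℕ) :
    evW (A.map (evW (gP ψ o))) w = (evW (A.map (evW (gG ψ o))) w, evW (A.map (evW gM)) w) := by
  rw [← Enum.evW_exp, evW_pair, gP_fst, gP_snd, Enum.evW_exp, Enum.evW_exp]

theorem map_map_evW (A : List (List ℕ)) (ψ : Cent →* G) (o : G) :
    A.map (evW (gP ψ o)) = A.map fun w => (evW (gG ψ o) w, evW gM w) := by
  refine List.map_congr_left fun w _ => ?_
  rw [evW_pair, gP_fst, gP_snd]

/-- A permutation read on numbers. -/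
def nat275 (g : Perm (Fin 275)) (p : ℕ) : ℕ := if h : p < 275 then (g ⟨p, h⟩ : ℕ) else p

theorem six_card (K : Subgroup McLP)
    (hK : ∀ g ∈ K, ∀ l ∈ Dat.six, l.map (nat275 g.1) ∈ Dat.six) : Nat.card K ≤ 360 := by
  classical
  obtain ⟨hlen, hbs, -⟩ := six_ok
  rw [List.contains_iff_mem] at hbs
  let f : K → {l // l ∈ Dat.six} := fun g => ⟨bs.map (nat275 g.1.1), hK g.1 g.2 bs hbs⟩
  have hf : Function.Injective f := fun g h e => Subtype.ext (Subtype.ext (agree g.1.2 h.1.2 fun i hi => Fin.ext (by
    have := List.map_inj_left.mp (congrArg Subtype.val e) i hi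
    simpa [nat275, i.2] using this)))
  refine (Nat.card_le_card_of_injective f hf).trans ?_
  rw [Nat.card_congr (Equiv.subtypeEquivRight fun l => (List.mem_toFinset (l := Dat.six) (a := l)).symm),
    Nat.card_eq_finsetCard]
  exact (List.toFinset_card_le _).trans hlen.le

/-- The stabiliser of the listed tuples. -/
noncomputable def sixStab : Subgroup McLP where
  carrier := {g | ∀ l ∈ Dat.six, l.map (nat275 g.1) ∈ Dat.six}
  one_mem' := fun l hl => by
    have : l.map (nat275 ((1 : McLP) : Perm (Fin 275))) = l.map id :=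
      List.map_congr_left fun p _ => by unfold nat275; split <;> simp
    rw [this, List.map_id]; exact hl
  mul_mem' := fun {a b} ha hb l hl => by
    have : l.map (nat275 ((a * b : McLP) : Perm (Fin 275))) = (l.map (nat275 b.1)).map (nat275 a.1) := by
      rw [List.map_map]
      refine List.map_congr_left fun p _ => ?_
      by_cases h : p < 275
      · simp [nat275, h]
      · simp [nat275, h]
    rw [this]; exact ha _ (hb l hl)
  inv_mem' := fun {g} hg l hl => by
    have hpow : ∀ n : ℕ, ∀ l ∈ Dat.six, l.map (nat275 ((g ^ n : McLP) : Perm (Fin 275))) ∈ Dat.six := by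
      intro n
      induction n with
      | zero =>
        intro l hl
        have : l.map (nat275 ((g ^ 0 : McLP) : Perm (Fin 275))) = l.map id :=
          List.map_congr_left fun p _ => by unfold nat275; split <;> simp
        rw [this, List.map_id]; exact hl
      | succ n ih =>
        intro l hl
        have : l.map (nat275 ((g ^ (n + 1) : McLP) : Perm (Fin 275))) =
            (l.map (nat275 g.1)).map (nat275 ((g ^ n : McLP) : Perm (Fin 275))) := by
          rw [List.map_map]
          refine List.map_congr_left fun p _ => ?_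
          by_cases h : p < 275
          · simp [nat275, h, pow_succ]
          · simp [nat275, h]
        rw [this]; exact ih _ (hg l hl)
    obtain ⟨n, hn⟩ := mem_powers_iff_mem_zpowers.2 (Subgroup.inv_mem _ (Subgroup.mem_zpowers g))
    rw [← show g ^ n = g⁻¹ from hn]
    exact hpow n l hl

theorem small_card : Nat.card (Subgroup.closure {g : McLP | g ∈ (Dat.subWords.take 3).map (evW gM)}) ≤ 5760 := by
  obtain ⟨-, -, h2, hn, hlen, -⟩ := sub_atoms
  set K0 : Subgroup McLP := Subgroup.closure {g | ∃ i < 2, g = evW gM (Dat.subWords.getD i [])}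
  set E0 : Subgroup McLP := (grp 0 (by omega)).map (Subgroup.subtype Cent)
  have hE : ∀ g : McLP, g ∈ E0 ↔ ∃ j < 16, g = evW gM (el 0 j) := fun g => by
    constructor
    · rintro ⟨_, ⟨j, hj, rfl⟩, rfl⟩
      exact ⟨j, hj, evC_val (cWord_el (by omega) j)⟩
    · rintro ⟨j, hj, rfl⟩
      exact ⟨Ev 0 j, ⟨j, hj, rfl⟩, evC_val (cWord_el (by omega) j)⟩
  have hnorm : K0 ≤ Subgroup.normalizer (E0 : Set McLP) := by
    refine (Subgroup.closure_le _).mpr ?_
    rintro _ ⟨i, hi, rfl⟩
    refine CfsgLib.Local.mem_normalizer_of_map_conj_eq (Subgroup.eq_of_le_of_card_ge ?_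
      (Subgroup.card_map_of_injective (MulEquiv.injective _)).ge)
    rintro _ ⟨x, hx, rfl⟩
    obtain ⟨j, hj, rfl⟩ := (hE x).mp hx
    obtain ⟨j', hj', e⟩ := List.any_eq_true.mp (List.all_eq_true.mp (List.all_eq_true.mp hn i
      (List.mem_range.mpr hi)) j (List.mem_range.mpr hj))
    refine (hE _).mpr ⟨j', List.mem_range.mp hj', ?_⟩
    rw [MulEquiv.coe_toMonoidHom, MulAut.conj_apply, ← eqW_iff.mp e, conjW, Enum.evW_append, Enum.evW_append,
      Enum.evW_winv]
  have hle : Subgroup.closure {g : McLP | g ∈ (Dat.subWords.take 3).map (evW gM)} ≤ K0 ⊔ E0 := by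
    refine (Subgroup.closure_le _).mpr ?_
    intro g hg
    obtain ⟨w, hw, rfl⟩ := List.mem_map.mp hg
    obtain ⟨i, hi, rfl⟩ := List.getElem_of_mem hw
    rw [List.length_take] at hi
    rw [List.getElem_take, ← List.getD_eq_getElem _ [] (by omega)]
    by_cases hi2 : i < 2
    · exact Subgroup.mem_sup_left (Subgroup.subset_closure ⟨i, hi2, rfl⟩)
    · obtain ⟨j, hj, e⟩ := List.any_eq_true.mp h2
      rw [show i = 2 by omega, eqW_iff.mp e]
      exact Subgroup.mem_sup_right ((hE _).mpr ⟨j, List.mem_range.mp hj, rfl⟩)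
  have hK : Nat.card K0 ≤ 360 := by
    refine six_card K0 fun g hg => (show K0 ≤ sixStab from ?_) hg
    refine (Subgroup.closure_le _).mpr ?_
    rintro _ ⟨i, hi, rfl⟩ l hl
    obtain ⟨hlen6, -, hcl⟩ := six_ok
    obtain ⟨n, hn', rfl⟩ := List.getElem_of_mem hl
    have h := List.all_eq_true.mp (List.all_eq_true.mp hcl n (List.mem_range.mpr (hlen6 ▸ hn'))) i
      (List.mem_range.mpr hi)
    rw [List.contains_iff_mem, List.getD_eq_getElem _ _ hn'] at h
    have hlt := List.all_eq_true.mp (List.all_eq_true.mp sub_extra.2.2 _ (List.getElem_mem hn'))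
    rw [List.map_congr_left (g := fun p => apW (Dat.subWords.getD i []) p) fun p hp => ?_]
    · exact h
    · have hp' : p < 275 := by simpa using hlt p hp
      rw [nat275, dif_pos hp', ← apW_spec]
  have hE16 : Nat.card E0 = 16 := (Subgroup.card_map_of_injective Cent.subtype_injective).trans (card_grp _)
  calc Nat.card _ ≤ Nat.card (K0 ⊔ E0 : Subgroup McLP) :=
        Nat.card_le_card_of_injective _ (Subgroup.inclusion_injective hle)
    _ = Nat.card ((K0 : Set McLP) * (E0 : Set McLP) : Set McLP) :=
      Nat.card_congr (Equiv.setCongr (Subgroup.coe_mul_of_left_le_normalizer_right K0 E0 hnorm))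
    _ ≤ Nat.card (K0 : Set McLP) * Nat.card (E0 : Set McLP) := Set.natCard_mul_le
    _ ≤ 360 * 16 := Nat.mul_le_mul hK hE16.le

theorem delta_card (S : Setting t ψ) (D : LocalData t ψ o) :
    Nat.card (Subgroup.closure {p : G × McLP | p ∈ gP ψ o}) ≤ 898128000 := by
  have hloc := D.loc S
  set P := gP ψ o
  set K5 : Subgroup (G × McLP) := Subgroup.closure {p | p ∈ Dat.subWords.map (evW P)}
  set N1 : Subgroup (G × McLP) := Subgroup.closure {p | p ∈ (Dat.subWords.take 3).map (evW P)}
  have hlen5 : Dat.subWords.length = 5 := sub_atoms.2.2.2.2.1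
  have hget : ∀ i < 5, (Dat.subWords.map (evW P)).getD i 1 = evW P (Dat.subWords.getD i []) := fun i hi => by
    simp [List.getD_eq_getElem?_getD, List.getElem?_map, List.getElem?_eq_getElem (hlen5.symm ▸ hi)]
  -- the first enumeration
  have htop : Nat.card (Subgroup.closure {p : G × McLP | p ∈ P}) ≤ 2025 * Nat.card K5 := by
    have hc : Top.cert.rels = Top.rels ∧ Top.cert.sub = [8, 9, 10, 11, 12, 13, 14, 15] ∧ Top.cert.gens = 4 ∧
        Top.cert.size = 2025 := by unfold Top.cert; exact ⟨rfl, rfl, rfl, rfl⟩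
    rw [← hc.2.2.2]
    have hPK : ∀ p ∈ P, p ∈ Subgroup.closure {p : G × McLP | p ∈ P} := fun p hp => Subgroup.subset_closure hp
    have hP4 : ([[0], [2], [4], [6]] : List (List ℕ)).map (evW P) = P :=
      plain_eq (show P = [(ψ (gC.getD 0 1), gen 0), (ψ (gC.getD 1 1), gen 1), (ψ (gC.getD 2 1), gen 2),
        (o, gen 3)] by simp [P, gP, gG_eq, gM])
    have hgetT : ∀ i < 8, (topA.map (evW P)).getD i 1 =
        if i < 4 then P.getD i 1 else evW P (Dat.subWords.getD (i - 4) []) := fun i hi => by
      rw [topA, List.map_append, hP4]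
      have hPlen : P.length = 4 := by simp [P, gP, gG, gC, gM]
      rcases lt_or_ge i 4 with h | h
      · rw [if_pos h, List.getD_eq_getElem?_getD, List.getElem?_append_left (hPlen.symm ▸ h),
          List.getD_eq_getElem?_getD]
      · rw [if_neg (by omega), List.getD_eq_getElem?_getD, List.getElem?_append_right (hPlen.symm ▸ h), hPlen,
          List.getElem?_map, List.getElem?_take_of_lt (by omega), List.getD_eq_getElem?_getD,
          List.getElem?_eq_getElem (by omega : i - 4 < Dat.subWords.length)]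
        rfl
    refine card_le_enum (L := topA.map (evW P)) (by rw [List.length_map, top_extra.2.2]) (fun g hg => ?_) ?_ ?_ ?_ ?_
      (fun j hj => Top.okAll hj) (by rw [hc.2.2.2]; exact Top.rows_ok) (by unfold Top.cert; decide +kernel) (by rw [hc.2.2.2]; norm_num)
    · obtain ⟨w, -, rfl⟩ := List.mem_map.mp hg
      exact Enum.evW_mem hPK w
    · refine (Subgroup.closure_le _).mpr fun p hp => ?_
      obtain ⟨i, hi, rfl⟩ := List.getElem_of_mem hp
      have hPlen : P.length = 4 := by simp [P, gP, gG, gC, gM]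
      refine Subgroup.subset_closure ⟨i, by rw [hc.2.2.1]; omega, ?_⟩
      unfold letG
      rw [if_pos (by omega), show 2 * i / 2 = i by omega, hgetT i (by omega), if_pos (by omega),
        List.getD_eq_getElem _ _ hi]
    · refine (Subgroup.closure_le _).mpr fun p hp => ?_
      obtain ⟨w, -, rfl⟩ := List.mem_map.mp hp
      exact Enum.evW_mem hPK w
    · intro x hx
      rw [hc.2.1] at hx
      simp only [List.mem_cons, List.not_mem_nil, or_false] at hx
      have hm : (topA.map (evW P)).getD (x / 2) 1 ∈ K5 := by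
        rw [hgetT _ (by omega), if_neg (by omega), ← hget _ (by omega)]
        refine Subgroup.subset_closure ?_
        rw [List.getD_eq_getElem _ _ (by rw [List.length_map]; omega)]
        exact List.getElem_mem _
      unfold letG
      split
      exacts [hm, K5.inv_mem hm]
    · intro u hu
      rw [hc.1] at hu
      rw [pair_eval, rels_true Top.items_ok top_extra.1 top_extra.2.1 (fun k hk => hloc k (by revert hk; simp; omega)) u hu,
        rels_model (A := topA) Top.model_ok u hu]
      rfl
  -- the second enumeration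
  have hsub : Nat.card K5 ≤ 77 * Nat.card N1 := by
    have hc : Sub.cert.rels = Sub.rels ∧ Sub.cert.sub = [0, 1, 2, 3, 4, 5] ∧ Sub.cert.gens = 5 ∧
        Sub.cert.size = 77 := by unfold Sub.cert; exact ⟨rfl, rfl, rfl, rfl⟩
    rw [← hc.2.2.2]
    refine card_le_enum (L := Dat.subWords.map (evW P)) (by simp [hlen5]) (fun g hg => Subgroup.subset_closure hg)
      ?_ ?_ ?_ ?_ (fun j hj => Sub.okAll hj) (by rw [hc.2.2.2]; exact Sub.rows_ok) (by unfold Sub.cert; decide +kernel)
      (by rw [hc.2.2.2]; norm_num)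
    · refine (Subgroup.closure_le _).mpr fun p hp => ?_
      obtain ⟨i, hi, rfl⟩ := List.getElem_of_mem hp
      rw [List.length_map, hlen5] at hi
      refine Subgroup.subset_closure ⟨i, by rw [hc.2.2.1]; exact hi, ?_⟩
      unfold letG
      rw [if_pos (by omega), show 2 * i / 2 = i by omega, List.getD_eq_getElem]
    · refine Subgroup.closure_mono fun p hp => ?_
      obtain ⟨w, hw, rfl⟩ := List.mem_map.mp hp
      exact List.mem_map_of_mem (List.mem_of_mem_take hw)
    · intro x hx
      rw [hc.2.1] at hx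
      simp only [List.mem_cons, List.not_mem_nil, or_false] at hx
      have hm : (Dat.subWords.map (evW P)).getD (x / 2) 1 ∈ N1 := by
        refine Subgroup.subset_closure (List.mem_iff_getElem.mpr ⟨x / 2, by simp [hlen5]; omega, ?_⟩)
        rw [List.getD_eq_getElem _ _ (by rw [List.length_map]; omega), List.getElem_map, List.getElem_map,
          List.getElem_take]
      unfold letG
      split
      exacts [hm, N1.inv_mem hm]
    · intro u hu
      rw [hc.1] at hu
      rw [pair_eval, rels_true Sub.items_ok sub_extra.1 sub_extra.2.1 hloc u hu,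
        rels_model Sub.model_ok u hu]
      rfl
  -- the base
  have hN : Nat.card N1 ≤ 5760 := by
    obtain ⟨H, hinj, -, hat⟩ := D.one
    obtain ⟨-, -, -, hb1, -⟩ := atoms_ok
    have hN1 : N1 ≤ H := by
      refine (Subgroup.closure_le _).mpr fun p hp => ?_
      obtain ⟨w, hw, rfl⟩ := List.mem_map.mp hp
      obtain ⟨i, hi, rfl⟩ := List.getElem_of_mem hw
      rw [List.length_take] at hi
      rw [List.getElem_take, ← List.getD_eq_getElem _ [] (by omega)]
      have h := of_decide_eq_true (List.all_eq_true.mp sub_atoms.1 i (List.mem_range.mpr (by omega)))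
      rw [← Enum.evW_eq_of_red P h, Enum.evW_exp]
      refine Enum.evW_mem (fun g hg => ?_) _
      obtain ⟨j, hj, rfl⟩ := List.getElem_of_mem hg
      rw [List.length_map] at hj
      have h2 := hat j hj
      rw [hb1, List.getD_eq_getElem _ _ hj] at h2
      rw [List.getElem_map, evW_pair, gP_fst, gP_snd]
      exact h2
    have himg : N1.map (MonoidHom.snd G McLP) =
        Subgroup.closure {g : McLP | g ∈ (Dat.subWords.take 3).map (evW gM)} := by
      rw [MonoidHom.map_closure]
      congr 1
      ext g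
      simp only [Set.mem_image, Set.mem_setOf_eq, List.mem_map, MonoidHom.coe_snd]
      constructor
      · rintro ⟨_, ⟨w, hw, rfl⟩, rfl⟩; exact ⟨w, hw, by rw [evW_pair, gP_snd]⟩
      · rintro ⟨w, hw, rfl⟩; exact ⟨_, ⟨w, hw, rfl⟩, by rw [evW_pair, gP_snd]⟩
    refine le_trans (Nat.card_le_card_of_injective (fun p : N1 => (⟨p.1.2, himg ▸ ⟨p.1, p.2, rfl⟩⟩ :
      Subgroup.closure {g : McLP | g ∈ (Dat.subWords.take 3).map (evW gM)})) ?_) small_card
    intro p q e
    have e' : p.1.2 = q.1.2 := congrArg Subtype.val e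
    have h1 := hinj (p.1 * q.1⁻¹) (hN1 (N1.mul_mem p.2 (N1.inv_mem q.2)))
      (by rw [Prod.snd_mul, Prod.snd_inv, e', mul_inv_cancel])
    rw [Prod.fst_mul, Prod.fst_inv, mul_inv_eq_one] at h1
    exact Subtype.ext (Prod.ext h1 e')
  calc _ ≤ 2025 * Nat.card K5 := htop
    _ ≤ 2025 * (77 * 5760) := Nat.mul_le_mul_left _ (hsub.trans (Nat.mul_le_mul_left _ hN))
    _ = _ := by norm_num

/-- The model maps into the group, extending the given map of the centraliser. -/
theorem exists_embedding (S : Setting t ψ) :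
    ∃ φ : McLP →* G, Function.Injective φ ∧ ∀ c : Cent, φ c = ψ c := by
  obtain ⟨o, D⟩ := exists_localData S
  set Δ : Subgroup (G × McLP) := Subgroup.closure {p | p ∈ gP ψ o}
  let π : Δ →* McLP := (MonoidHom.snd G McLP).comp Δ.subtype
  have hsurj : Function.Surjective π := by
    rw [← MonoidHom.range_eq_top, eq_top_iff, ← closure_gM, Subgroup.closure_le]
    intro g hg
    rw [← gP_snd ψ o] at hg
    obtain ⟨p, hp, rfl⟩ := List.mem_map.mp hg
    exact ⟨⟨p, Subgroup.subset_closure hp⟩, rfl⟩
  have hcard : Nat.card Δ = Nat.card McLP := le_antisymm (mclP_card ▸ delta_card S D)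
    (Nat.card_le_card_of_surjective π hsurj)
  have hbij : Function.Bijective π := (Nat.bijective_iff_surjective_and_card π).mpr ⟨hsurj, hcard⟩
  let φ : McLP →* G := ((MonoidHom.fst G McLP).comp Δ.subtype).comp (MulEquiv.ofBijective π hbij).symm.toMonoidHom
  have hφ : ∀ p ∈ gP ψ o, φ p.2 = p.1 := fun p hp => by
    have : (MulEquiv.ofBijective π hbij).symm p.2 = ⟨p, Subgroup.subset_closure hp⟩ :=
      (MulEquiv.ofBijective π hbij).symm_apply_eq.mpr rfl
    show ((MulEquiv.ofBijective π hbij).symm p.2 : G × McLP).1 = p.1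
    rw [this]
  have hext : φ.comp (Subgroup.subtype Cent) = ψ := by
    refine MonoidHom.eq_of_eqOn_dense closure_gC fun c hc => ?_
    obtain ⟨i, hi, rfl⟩ := List.getElem_of_mem hc
    have hi3 : i < 3 := by simpa [gC] using hi
    rw [← List.getD_eq_getElem _ 1 hi]
    refine hφ (ψ (gC.getD i 1), ((gC.getD i 1 : Cent) : McLP)) ?_
    have e : ((gC.getD i 1 : Cent) : McLP) = gen i := by
      rcases (by omega : i = 0 ∨ i = 1 ∨ i = 2) with rfl | rfl | rfl <;> simp [gC, gen_comm]
    rw [e]
    rcases (by omega : i = 0 ∨ i = 1 ∨ i = 2) with rfl | rfl | rfl <;> simp [gP, gG_eq, gM]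
  refine ⟨φ, ?_, fun c => DFunLike.congr_fun hext c⟩
  haveI := mclP_simple
  rcases IsSimpleGroup.eq_bot_or_eq_top_of_normal φ.ker inferInstance with h | h
  · exact (MonoidHom.ker_eq_bot_iff φ).mp h
  · refine absurd ?_ S.t_ne
    rw [← S.tau, ← DFunLike.congr_fun hext tauC]
    exact h.ge (Subgroup.mem_top _)

end CfsgMcLChar
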