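import Cfsg.Prelude.Def_SporadicB
import Cfsg.Agent.Lib.AltCover.Carmichael
import Mathlib.GroupTheory.SpecificGroups.Alternating
import Mathlib.GroupTheory.QuotientGroup.Basic

/-!
There is only one non-split double cover of the alternating group of degree 8.
-/

set_option autoImplicit false

namespace CfsgMcLChar.Cover

open Equiv Subgroup

variable {H : Type*} [Group H]

/-- The three-cycle on `0, 1, i`. -/
def cyc (i : Fin 8) : Perm (Fin 8) := swap 0 1 * swap 1 i

/-- A map onto the alternating group with kernel the centre of order 2, without a complement. -/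
structure Proj (π : H →* Perm (Fin 8)) (z : H) : Prop where
  even : ∀ g, Perm.sign (π g) = 1
  onto : ∀ σ : Perm (Fin 8), Perm.sign σ = 1 → ∃ g, π g = σ
  ker : ∀ g, π g = 1 ↔ g = 1 ∨ g = z
  ne : z ≠ 1
  card : Nat.card H = 40320
  full : ∀ S : Subgroup H, (∀ σ : Perm (Fin 8), Perm.sign σ = 1 → ∃ g ∈ S, π g = σ) → S = ⊤

theorem exists_proj [Finite H] (h : Cfsg.IsNonsplitDoubleCover H ↥(alternatingGroup (Fin 8))) :
    ∃ π : H →* Perm (Fin 8), ∃ z : H, Proj π z := by
  obtain ⟨h2, ⟨e⟩, hns⟩ := h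
  let π : H →* Perm (Fin 8) :=
    (alternatingGroup (Fin 8)).subtype.comp (e.toMonoidHom.comp (QuotientGroup.mk' (center H)))
  have hker : ∀ g, π g = 1 ↔ g ∈ center H := fun g => by
    constructor
    · intro hg
      have : e (QuotientGroup.mk' (center H) g) = 1 := Subtype.ext hg
      exact (QuotientGroup.eq_one_iff g).mp ((map_eq_one_iff e e.injective).mp this)
    · intro hg
      show ((e (QuotientGroup.mk' (center H) g) : alternatingGroup (Fin 8)) : Perm (Fin 8)) = 1
      rw [show QuotientGroup.mk' (center H) g = 1 from (QuotientGroup.eq_one_iff g).mpr hg, map_one]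
      rfl
  haveI : Nontrivial (center H) := Finite.one_lt_card_iff_nontrivial.mp (h2.symm ▸ one_lt_two)
  obtain ⟨z, hz⟩ := exists_ne (1 : center H)
  have hall : ∀ c : center H, c = 1 ∨ c = z := fun c => by
    by_contra hc
    rw [not_or] at hc
    have hinj : Function.Injective (![1, z, c] : Fin 3 → center H) := by
      intro a b hab
      fin_cases a <;> fin_cases b <;>
        first
          | rfl
          | exact absurd hab hz.symm
          | exact absurd hab hz
          | exact absurd hab hc.1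
          | exact absurd hab (Ne.symm hc.1)
          | exact absurd hab hc.2
          | exact absurd hab (Ne.symm hc.2)
    have h3 := Nat.card_le_card_of_injective _ hinj
    rw [h2, Nat.card_eq_fintype_card, Fintype.card_fin] at h3
    omega
  have hcard : Nat.card H = 40320 := by
    rw [← (center H).card_mul_index, h2, Subgroup.index, Nat.card_congr e.toEquiv, nat_card_alternatingGroup,
      Nat.card_fin]
    decide
  refine ⟨π, z, fun g => Perm.mem_alternatingGroup.mp (e (QuotientGroup.mk' (center H) g)).2, fun σ hσ => ?_,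
    fun g => ⟨fun hg => ?_, ?_⟩, fun h => hz (Subtype.ext h), hcard, fun S hS => ?_⟩
  · obtain ⟨g, hg⟩ := QuotientGroup.mk'_surjective (center H) (e.symm ⟨σ, Perm.mem_alternatingGroup.mpr hσ⟩)
    exact ⟨g, by show ((e (QuotientGroup.mk' (center H) g)) : Perm (Fin 8)) = σ; rw [hg, e.apply_symm_apply]⟩
  · rcases hall ⟨g, (hker g).mp hg⟩ with h | h
    · exact Or.inl (congrArg Subtype.val h)
    · exact Or.inr (congrArg Subtype.val h)
  · rintro (rfl | rfl)
    exacts [map_one π, (hker _).mpr z.2]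
  · by_contra hne
    have hsup : center H ⊔ S = ⊤ := by
      refine eq_top_iff.mpr fun g _ => ?_
      obtain ⟨s, hs, e'⟩ := hS (π g) (Perm.mem_alternatingGroup.mp (e (QuotientGroup.mk' (center H) g)).2)
      have : g * s⁻¹ ∈ center H := (hker _).mp (by rw [map_mul, map_inv, e', mul_inv_cancel])
      simpa using Subgroup.mul_mem_sup this hs
    refine hns S (Subgroup.isComplement'_of_disjoint_and_mul_eq_univ ?_ ?_)
    · rw [Subgroup.disjoint_def]
      intro x hx hxS
      rcases hall ⟨x, hx⟩ with h | h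
      · exact congrArg Subtype.val h
      · refine absurd ?_ hne
        have hle : center H ≤ S := fun c hc => by
          rcases hall ⟨c, hc⟩ with h' | h'
          · rw [show c = 1 from congrArg Subtype.val h']; exact S.one_mem
          · rw [show c = x from (congrArg Subtype.val h').trans (congrArg Subtype.val h).symm]; exact hxS
        rw [← hsup, sup_eq_right.mpr hle]
    · rw [← Subgroup.normal_mul, hsup, Subgroup.coe_top]

/-- An even permutation fixing `0` and `1` moving `2, 3` to two given points. -/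
theorem exists_move {i j : Fin 8} (hi : i ≠ 0 ∧ i ≠ 1) (hj : j ≠ 0 ∧ j ≠ 1) (hij : i ≠ j) :
    ∃ σ : Perm (Fin 8), Perm.sign σ = 1 ∧ σ 0 = 0 ∧ σ 1 = 1 ∧ σ 2 = i ∧ σ 3 = j := by
  obtain ⟨s, hs⟩ : ∃ s : Perm (Fin 8), s = swap (swap 2 i 3) j * swap 2 i := ⟨_, rfl⟩
  have h0 : s 0 = 0 ∧ s 1 = 1 ∧ s 2 = i ∧ s 3 = j := by
    obtain ⟨i0, i1⟩ := hi
    obtain ⟨j0, j1⟩ := hj
    subst hs
    revert i j
    decide
  rcases Int.units_eq_one_or (Perm.sign s) with h | h
  · exact ⟨s, h, h0⟩
  · refine ⟨s * swap 4 5, by rw [map_mul, h, Perm.sign_swap (by decide)]; rfl, ?_⟩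
    obtain ⟨a, b, c, d⟩ := h0
    simp only [Perm.mul_apply]
    rw [show swap (4 : Fin 8) 5 0 = 0 by decide, show swap (4 : Fin 8) 5 1 = 1 by decide,
      show swap (4 : Fin 8) 5 2 = 2 by decide, show swap (4 : Fin 8) 5 3 = 3 by decide]
    exact ⟨a, b, c, d⟩

variable {π : H →* Perm (Fin 8)} {z : H}

theorem Proj.z_sq (P : Proj π z) : z * z = 1 := by
  rcases (P.ker (z * z)).mp (by rw [map_mul, (P.ker z).mpr (Or.inr rfl), one_mul]) with h | h
  · exact h
  · exact absurd (mul_eq_left.mp h) P.ne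

theorem Proj.z_cen (P : Proj π z) (g : H) : g * z = z * g := by
  rcases (P.ker (g * z * g⁻¹)).mp (by rw [map_mul, map_mul, (P.ker z).mpr (Or.inr rfl), mul_one, map_inv,
    mul_inv_cancel]) with h | h
  · rw [mul_inv_eq_one, mul_eq_left] at h; exact absurd h P.ne
  · exact mul_inv_eq_iff_eq_mul.mp h

theorem Proj.three_unique (P : Proj π z) {u v : H} (e : π u = π v) (hu : u * u * u = 1) (hv : v * v * v = 1) :
    u = v := by
  rcases (P.ker (u⁻¹ * v)).mp (by rw [map_mul, map_inv, e, inv_mul_cancel]) with h | h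
  · exact inv_mul_eq_one.mp h
  · rw [inv_mul_eq_iff_eq_mul] at h
    subst h
    refine absurd ?_ P.ne
    have h1 : u * z * (u * z) * (u * z) = u * u * u * (z * z * z) := by
      simp only [mul_assoc]
      rw [← mul_assoc z u, ← P.z_cen u, mul_assoc u z, ← mul_assoc z u, ← P.z_cen u, mul_assoc u z,
        ← mul_assoc z u, ← P.z_cen u, mul_assoc u z]
    rw [hv, hu, one_mul, P.z_sq, one_mul] at h1
    exact h1.symm

/-- Lifts of order 3 of the three-cycles on `0, 1, i`: the squares of products of two equal the central involution. -/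
theorem Proj.exists_lifts [Finite H] (P : Proj π z) : ∃ U : Fin 8 → H, (∀ i, U i * U i * U i = 1) ∧
    (∀ i : Fin 8, i ≠ 0 ∧ i ≠ 1 → π (U i) = cyc i) ∧
    ∀ i j : Fin 8, i ≠ 0 ∧ i ≠ 1 → j ≠ 0 ∧ j ≠ 1 → i ≠ j → U i * U j * (U i * U j) = z := by
  have hc3 : ∀ i : Fin 8, i ≠ 0 ∧ i ≠ 1 → Perm.sign (cyc i) = 1 ∧ cyc i ^ 3 = 1 := by decide
  have hex : ∀ i : Fin 8, ∃ u : H, u * u * u = 1 ∧ (i ≠ 0 ∧ i ≠ 1 → π u = cyc i) := by
    intro i
    by_cases hi : i ≠ 0 ∧ i ≠ 1
    · obtain ⟨g, hg⟩ := P.onto _ (hc3 i hi).1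
      refine ⟨g ^ 4, ?_, fun _ => by rw [map_pow, hg, pow_succ, (hc3 i hi).2, one_mul]⟩
      have h3 : π (g ^ 3) = 1 := by rw [map_pow, hg, (hc3 i hi).2]
      rw [← pow_two, ← pow_succ, ← pow_mul, show 4 * (2 + 1) = 3 * 4 from rfl, pow_mul]
      rcases (P.ker _).mp h3 with h | h <;> rw [h]
      · exact one_pow _
      · rw [show (4 : ℕ) = 2 * 2 from rfl, pow_mul, pow_two z, P.z_sq, one_pow]
    · exact ⟨1, by simp, fun h => absurd h hi⟩
  choose U hU3 hUπ using hex
  refine ⟨U, hU3, hUπ, ?_⟩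
  have hval : ∀ i j : Fin 8, i ≠ 0 ∧ i ≠ 1 → j ≠ 0 ∧ j ≠ 1 → i ≠ j →
      U i * U j * (U i * U j) = U 2 * U 3 * (U 2 * U 3) := by
    intro i j hi hj hij
    obtain ⟨σ, hs, h0, h1, h2, h3⟩ := exists_move hi hj hij
    obtain ⟨g, hg⟩ := P.onto σ hs
    have hcj : ∀ k m : Fin 8, k ≠ 0 ∧ k ≠ 1 → σ k = m → m ≠ 0 ∧ m ≠ 1 → g * U k * g⁻¹ = U m := by
      intro k m hk hkm hm
      refine P.three_unique ?_ ?_ (hU3 m)
      · rw [map_mul, map_mul, map_inv, hg, hUπ k hk, hUπ m hm, cyc, cyc]
        calc σ * (swap 0 1 * swap 1 k) * σ⁻¹ = σ * swap 0 1 * σ⁻¹ * (σ * swap 1 k * σ⁻¹) := by group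
          _ = _ := by rw [CfsgAltCover.Anti.conj_swap', CfsgAltCover.Anti.conj_swap', h0, h1, hkm]
      · calc g * U k * g⁻¹ * (g * U k * g⁻¹) * (g * U k * g⁻¹) = g * (U k * U k * U k) * g⁻¹ := by group
          _ = 1 := by rw [hU3, mul_one, mul_inv_cancel]
    have hker : U 2 * U 3 * (U 2 * U 3) = 1 ∨ U 2 * U 3 * (U 2 * U 3) = z := by
      refine (P.ker _).mp ?_
      rw [map_mul, map_mul, hUπ 2 (by decide), hUπ 3 (by decide)]
      decide
    rw [← hcj 2 i (by decide) h2 hi, ← hcj 3 j (by decide) h3 hj]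
    calc _ = g * (U 2 * U 3 * (U 2 * U 3)) * g⁻¹ := by group
      _ = _ := by
        rcases hker with h | h <;> rw [h]
        · group
        · rw [P.z_cen, mul_inv_cancel_right]
  intro i j hi hj hij
  rw [hval i j hi hj hij]
  rcases (P.ker (U 2 * U 3 * (U 2 * U 3))).mp (by
    rw [map_mul, map_mul, hUπ 2 (by decide), hUπ 3 (by decide)]; decide) with h | h
  · exfalso
    obtain ⟨K, hK, honto⟩ := CfsgAltCover.Anti.carmichael (n := 8) (by norm_num) π P.even U hU3 hUπ
      (fun a b ha hb hab => by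
        have e : U a * U b * (U a * U b) = 1 := (hval a b ha hb hab).trans h
        have ea : (U a)⁻¹ = U a * U a := inv_eq_of_mul_eq_one_right (by rw [← mul_assoc]; exact hU3 a)
        have eb : (U b)⁻¹ = U b * U b := inv_eq_of_mul_eq_one_right (by rw [← mul_assoc]; exact hU3 b)
        rw [← ea, ← eb]
        calc U b * U a = (U a)⁻¹ * (U a * U b * (U a * U b)) * (U b)⁻¹ := by group
          _ = _ := by rw [e, mul_one])
    have htop := P.full K fun σ hσ => by
      obtain ⟨g, hg, e⟩ := honto σ hσ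
      exact ⟨g, hg, e⟩
    rw [htop, Subgroup.card_top, P.card, show (8 : ℕ).factorial = 40320 from rfl] at hK
    omega
  · exact h

/-- Non-split double covers of the alternating group of degree 8 are isomorphic. -/
theorem nonempty_equiv {H' : Type*} [Group H'] [Finite H] [Finite H']
    (h : Cfsg.IsNonsplitDoubleCover H ↥(alternatingGroup (Fin 8)))
    (h' : Cfsg.IsNonsplitDoubleCover H' ↥(alternatingGroup (Fin 8))) : Nonempty (H ≃* H') := by
  obtain ⟨π, z, P⟩ := exists_proj h
  obtain ⟨π', z', P'⟩ := exists_proj h'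
  obtain ⟨U, hU3, hUπ, hUz⟩ := P.exists_lifts
  obtain ⟨U', hU3', hUπ', hUz'⟩ := P'.exists_lifts
  let F : Subgroup (H × H') := (π.comp (MonoidHom.fst H H')).eqLocus (π'.comp (MonoidHom.snd H H'))
  let zz : F := ⟨(z, z'), by
    show π z = π' z'
    rw [(P.ker z).mpr (Or.inr rfl), (P'.ker z').mpr (Or.inr rfl)]⟩
  let N : Subgroup F := Subgroup.zpowers zz
  haveI : N.Normal := ⟨fun n hn g => by
    obtain ⟨k, rfl⟩ := Subgroup.mem_zpowers_iff.mp hn
    have hc : Commute g zz := Subtype.ext (Prod.ext (P.z_cen _) (P'.z_cen _))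
    rw [(hc.zpow_right k).eq, mul_inv_cancel_right]
    exact hn⟩
  let q : F →* Perm (Fin 8) := (π.comp (MonoidHom.fst H H')).comp F.subtype
  have hN : N ≤ q.ker := Subgroup.zpowers_le.mpr ((P.ker z).mpr (Or.inr rfl))
  let V : Fin 8 → F := fun i =>
    if hi : i ≠ 0 ∧ i ≠ 1 then ⟨(U i, U' i), by show π (U i) = π' (U' i); rw [hUπ i hi, hUπ' i hi]⟩ else 1
  have hV : ∀ i : Fin 8, i ≠ 0 ∧ i ≠ 1 → (V i : H × H') = (U i, U' i) := fun i hi => by
    simp only [V, dif_pos hi]
  obtain ⟨K, hK, honto⟩ := CfsgAltCover.Anti.carmichael (n := 8) (by norm_num) (QuotientGroup.lift N q hN)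
    (fun g => by
      obtain ⟨f, rfl⟩ := QuotientGroup.mk'_surjective N g
      exact P.even _)
    (fun i => QuotientGroup.mk' N (V i))
    (fun i => by
      rw [← map_mul, ← map_mul]
      by_cases hi : i ≠ 0 ∧ i ≠ 1
      · rw [show V i * V i * V i = 1 from Subtype.ext (by
          simp only [Subgroup.coe_mul, hV i hi, Subgroup.coe_one]; exact Prod.ext (hU3 i) (hU3' i)), map_one]
      · simp [V, dif_neg hi])
    (fun i hi => by
      show π (V i : H × H').1 = _
      rw [hV i hi]; exact hUπ i hi)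
    (fun a b ha hb hab => by
      have e : QuotientGroup.mk' N (V a * V b * (V a * V b)) = 1 := by
        refine (QuotientGroup.eq_one_iff _).mpr ?_
        rw [show V a * V b * (V a * V b) = zz from Subtype.ext (by
          simp only [Subgroup.coe_mul, hV a ha, hV b hb]; exact Prod.ext (hUz a b ha hb hab) (hUz' a b ha hb hab))]
        exact Subgroup.mem_zpowers _
      have ha3 : V a * V a * V a = 1 := Subtype.ext (by
        simp only [Subgroup.coe_mul, hV a ha, Subgroup.coe_one]; exact Prod.ext (hU3 a) (hU3' a))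
      have hb3 : V b * V b * V b = 1 := Subtype.ext (by
        simp only [Subgroup.coe_mul, hV b hb, Subgroup.coe_one]; exact Prod.ext (hU3 b) (hU3' b))
      set x := QuotientGroup.mk' N (V a)
      set y := QuotientGroup.mk' N (V b)
      rw [map_mul, map_mul] at e
      have ea : x⁻¹ = x * x := inv_eq_of_mul_eq_one_right (by
        rw [← mul_assoc, ← map_mul, ← map_mul, ha3, map_one])
      have eb : y⁻¹ = y * y := inv_eq_of_mul_eq_one_right (by
        rw [← mul_assoc, ← map_mul, ← map_mul, hb3, map_one])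
      rw [← ea, ← eb]
      calc y * x = x⁻¹ * (x * y * (x * y)) * y⁻¹ := by group
        _ = _ := by rw [e, mul_one])
  let R : Subgroup F := K.comap (QuotientGroup.mk' N)
  have hR : Nat.card R ≤ 40320 := by
    have hN2 : Nat.card N ≤ 2 := by
      rw [Nat.card_zpowers]
      exact orderOf_le_of_pow_eq_one (by norm_num)
        (by rw [pow_two]; exact Subtype.ext (Prod.ext P.z_sq P'.z_sq))
    have hcard : Nat.card R = Nat.card K * Nat.card N := by
      have hi : K.index * (Nat.card K * Nat.card N) = K.index * Nat.card R := by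
        rw [← mul_assoc, K.index_mul_card, ← Subgroup.index, N.index_mul_card, ← R.index_mul_card,
          Subgroup.index_comap_of_surjective _ (QuotientGroup.mk'_surjective N)]
      exact (Nat.eq_of_mul_eq_mul_left (Nat.pos_of_ne_zero Subgroup.index_ne_zero_of_finite) hi).symm
    rw [hcard, show (8 : ℕ).factorial = 40320 from rfl] at *
    nlinarith
  have hsurj : ∀ σ : Perm (Fin 8), Perm.sign σ = 1 → ∃ r ∈ R, q r = σ := fun σ hσ => by
    obtain ⟨k, hk, e⟩ := honto σ hσ
    obtain ⟨f, rfl⟩ := QuotientGroup.mk'_surjective N k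
    exact ⟨f, hk, e⟩
  let p1 : R →* H := (MonoidHom.fst H H').comp (F.subtype.comp R.subtype)
  let p2 : R →* H' := (MonoidHom.snd H H').comp (F.subtype.comp R.subtype)
  have h1 : Function.Surjective p1 := MonoidHom.range_eq_top.mp (P.full _ fun σ hσ => by
    obtain ⟨r, hr, e⟩ := hsurj σ hσ
    exact ⟨_, ⟨⟨r, hr⟩, rfl⟩, e⟩)
  have h2 : Function.Surjective p2 := MonoidHom.range_eq_top.mp (P'.full _ fun σ hσ => by
    obtain ⟨r, hr, e⟩ := hsurj σ hσ
    exact ⟨_, ⟨⟨r, hr⟩, rfl⟩, (r.2 : π (r : H × H').1 = π' (r : H × H').2).symm.trans e⟩)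
  have b1 : Function.Bijective p1 := h1.bijective_of_nat_card_le (by rw [P.card]; exact hR)
  have b2 : Function.Bijective p2 := h2.bijective_of_nat_card_le (by rw [P'.card]; exact hR)
  exact ⟨(MulEquiv.ofBijective p1 b1).symm.trans (MulEquiv.ofBijective p2 b2)⟩

end CfsgMcLChar.Cover
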