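import Cfsg.Agent.Lib.McLChar.ModelFacts
import Mathlib.Tactic.IntervalCases

/-!
Actions on the groups of order 16, given by the images of a basis; their conjugates and normalisers.
-/

set_option autoImplicit false
set_option maxRecDepth 100000

namespace CfsgMcLChar

open Subgroup Equiv CfsgLib.McLInvol CfsgPC
open CfsgMcLChar.Enum (evW letG)

variable {G : Type*} [Group G]

/-- An element acts on the image of a group of order 16 as the given map. -/
def Acts (ψ : Cent →* G) (k : ℕ) (x : G) (T : List ℕ) : Prop :=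
  ∀ j < 16, lin T j < 16 ∧ x * ψ (Ev k j) * x⁻¹ = ψ (Ev k (lin T j))

theorem lin_zero (T : List ℕ) : lin T 0 = 0 := rfl

theorem lin_pow (T : List ℕ) {i : ℕ} (hi : i < 4) : lin T (2 ^ i) = T.getD i 0 := by
  interval_cases i <;> exact Nat.zero_xor _

theorem lin_split (T : List ℕ) : ∀ j < 16, j ≠ 0 → ∃ i < 4, ∃ m < j, j = m ^^^ 2 ^ i ∧
    lin T j = lin T m ^^^ T.getD i 0 := by
  intro j hj h0
  have step : ∀ i m, i < 4 → m < j → j = m ^^^ 2 ^ i → lin T j = lin T m ^^^ T.getD i 0 →
      ∃ i < 4, ∃ m < j, j = m ^^^ 2 ^ i ∧ lin T j = lin T m ^^^ T.getD i 0 :=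
    fun i m hi hm e1 e2 => ⟨i, hi, m, hm, e1, e2⟩
  interval_cases j
  all_goals first
    | exact absurd rfl h0
    | exact step 0 0 (by omega) (by omega) rfl rfl
    | exact step 1 0 (by omega) (by omega) rfl rfl
    | exact step 1 1 (by omega) (by omega) rfl rfl
    | exact step 2 0 (by omega) (by omega) rfl rfl
    | exact step 2 1 (by omega) (by omega) rfl rfl
    | exact step 2 2 (by omega) (by omega) rfl rfl
    | exact step 2 3 (by omega) (by omega) rfl rfl
    | exact step 3 0 (by omega) (by omega) rfl rfl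
    | exact step 3 1 (by omega) (by omega) rfl rfl
    | exact step 3 2 (by omega) (by omega) rfl rfl
    | exact step 3 3 (by omega) (by omega) rfl rfl
    | exact step 3 4 (by omega) (by omega) rfl rfl
    | exact step 3 5 (by omega) (by omega) rfl rfl
    | exact step 3 6 (by omega) (by omega) rfl rfl
    | exact step 3 7 (by omega) (by omega) rfl rfl

theorem Acts.of_basis {ψ : Cent →* G} {k : ℕ} (hk : k < 2) {x : G} {T : List ℕ}
    (h : ∀ i < 4, T.getD i 0 < 16 ∧ x * ψ (Ev k (2 ^ i)) * x⁻¹ = ψ (Ev k (T.getD i 0))) : Acts ψ k x T := by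
  intro j
  induction j using Nat.strong_induction_on with
  | _ j ih =>
    intro hj
    by_cases h0 : j = 0
    · subst h0; simp [lin_zero, Ev_zero]
    obtain ⟨i, hi, m, hm, e1, e2⟩ := lin_split T j hj h0
    obtain ⟨l1, a1⟩ := ih m hm (hm.trans hj)
    obtain ⟨l2, a2⟩ := h i hi
    have h2 : 2 ^ i < 16 := by interval_cases i <;> norm_num
    refine ⟨e2 ▸ xor_lt l1 l2, ?_⟩
    rw [e2, e1, ← Ev_mul hk (hm.trans hj) h2, ← Ev_mul hk l1 l2, map_mul, map_mul, ← a1, ← a2]
    group

theorem Acts.one {ψ : Cent →* G} {k : ℕ} (hk : k < 2) : Acts ψ k 1 idAct :=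
  Acts.of_basis hk fun i hi => by interval_cases i <;> simp [idAct]

theorem comp_getD (S T : List ℕ) (hT : T.length = 4) {i : ℕ} (hi : i < 4) :
    (comp S T).getD i 0 = lin S (T.getD i 0) := by
  have hi' : i < T.length := hT.symm ▸ hi
  rw [comp, List.getD_eq_getElem _ _ (by simpa using hi'), List.getD_eq_getElem _ _ hi', List.getElem_map]

theorem Acts.mul {ψ : Cent →* G} {k : ℕ} (hk : k < 2) {x y : G} {S T : List ℕ} (hx : Acts ψ k x S)
    (hy : Acts ψ k y T) (hT : T.length = 4) : Acts ψ k (x * y) (comp S T) := by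
  refine Acts.of_basis hk fun i hi => ?_
  have h2 : 2 ^ i < 16 := by interval_cases i <;> norm_num
  obtain ⟨l1, a1⟩ := hy _ h2
  rw [lin_pow T hi] at l1 a1
  obtain ⟨l2, a2⟩ := hx _ l1
  rw [comp_getD S T hT hi]
  refine ⟨l2, ?_⟩
  rw [← a2, ← a1]
  group

theorem Acts.unique {ψ : Cent →* G} (hψ : Function.Injective ψ) {k : ℕ} (hk : k < 2) {x : G} {S T : List ℕ}
    (hS : Acts ψ k x S) (hT : Acts ψ k x T) (h1 : S.length = 4) (h2 : T.length = 4) : S = T := by
  refine List.ext_getElem (by omega) fun i hi hi' => ?_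
  have hp : 2 ^ i < 16 := by
    have : i < 4 := h1 ▸ hi
    interval_cases i <;> norm_num
  obtain ⟨l1, a1⟩ := hS _ hp
  obtain ⟨l2, a2⟩ := hT _ hp
  rw [lin_pow S (h1 ▸ hi), List.getD_eq_getElem _ _ hi] at l1 a1
  rw [lin_pow T (h1 ▸ hi), List.getD_eq_getElem _ _ hi'] at l2 a2
  exact Ev_inj hk l1 l2 (hψ (a1.symm.trans a2))

theorem lacts_len {k : ℕ} (hk : k < 2) {l : ℕ} (hl : l < 168) : ((lActs k).getD l []).length = 4 := by
  have h := List.all_eq_true.mp lact_nodup k (List.mem_range.mpr hk)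
  rw [Bool.and_eq_true, List.all_eq_true] at h
  have hl' : l < (lActs k).length := (words_k hk).2.2.2.2.2.2.1.symm ▸ hl
  exact of_decide_eq_true (h.2 _ (by rw [List.getD_eq_getElem _ _ hl']; exact List.getElem_mem hl'))

theorem lacts_inj {k : ℕ} (hk : k < 2) {l l' : ℕ} (hl : l < 168) (hl' : l' < 168)
    (e : (lActs k).getD l [] = (lActs k).getD l' []) : l = l' := by
  have h := List.all_eq_true.mp lact_nodup k (List.mem_range.mpr hk)
  rw [Bool.and_eq_true] at h
  have hlen := (words_k hk).2.2.2.2.2.2.1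
  rw [List.getD_eq_getElem _ _ (hlen.symm ▸ hl), List.getD_eq_getElem _ _ (hlen.symm ▸ hl')] at e
  exact ((of_decide_eq_true h.1).getElem_inj_iff).mp e

theorem acts_Lv (ψ : Cent →* G) {k l : ℕ} (hk : k < 2) (hl : l < 168) :
    Acts ψ k (ψ (Lv k l)) ((lActs k).getD l []) :=
  Acts.of_basis hk fun i hi => ⟨(lact_get hk hl hi).1, by rw [← map_inv, ← map_mul, ← map_mul, (lact_get hk hl hi).2]⟩

theorem acts_Ev (ψ : Cent →* G) {k j : ℕ} (hk : k < 2) (hj : j < 16) : Acts ψ k (ψ (Ev k j)) idAct :=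
  Acts.of_basis hk fun i hi => by
    have hp : 2 ^ i < 16 := by interval_cases i <;> norm_num
    have e : idAct.getD i 0 = 2 ^ i := by interval_cases i <;> rfl
    rw [e]
    refine ⟨hp, ?_⟩
    rw [← map_inv, ← map_mul, ← map_mul, Ev_mul hk hj hp, inv_eq_of_mul_eq_one_right (Ev_self hk hj),
      Ev_mul hk (xor_lt hj hp) hj, Nat.xor_comm j, Nat.xor_assoc, Nat.xor_self, Nat.xor_zero]

theorem lin_lact_one {k : ℕ} (hk : k < 2) {l : ℕ} (hl : l < 168) : lin ((lActs k).getD l []) 1 = 1 := by
  have hl' : l < (lActs k).length := (words_k hk).2.2.2.2.2.2.1.symm ▸ hl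
  rw [List.getD_eq_getElem _ _ hl']
  exact Nat.eq_of_beq_eq_true (List.all_eq_true.mp (List.all_eq_true.mp lact_fix k (List.mem_range.mpr hk)) _
    (List.getElem_mem hl'))

theorem Rv_zero {k : ℕ} (hk : k < 2) : Rv k 0 = 1 := by
  have h := List.all_eq_true.mp classes_ok k (List.mem_range.mpr hk)
  rw [Bool.and_eq_true] at h
  rw [Rv, of_decide_eq_true h.1]
  rfl

/-- The conjugates of a group of order 16 are the fifteen listed ones. -/
theorem exists_rep {k : ℕ} (hk : k < 2) (c : Cent) : ∃ i < 15, (grp k hk).map (MulAut.conj c).toMonoidHom =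
    (grp k hk).map (MulAut.conj (Rv k i)).toMonoidHom := by
  let S : Submonoid Cent :=
    { carrier := {c | ∀ i < 15, ∃ i' < 15, (grp k hk).map (MulAut.conj (c * Rv k i)).toMonoidHom =
        (grp k hk).map (MulAut.conj (Rv k i')).toMonoidHom}
      one_mem' := fun i hi => ⟨i, hi, by rw [one_mul]⟩
      mul_mem' := fun {a b} ha hb i hi => by
        obtain ⟨i1, h1, e1⟩ := hb i hi
        obtain ⟨i2, h2, e2⟩ := ha i1 h1
        refine ⟨i2, h2, ?_⟩
        rw [← e2, mul_assoc]
        simp only [map_mul]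
        rw [show ((MulAut.conj a * (MulAut.conj b * MulAut.conj (Rv k i))).toMonoidHom) =
            (MulAut.conj a).toMonoidHom.comp (MulAut.conj (b * Rv k i)).toMonoidHom by rw [map_mul]; rfl,
          show ((MulAut.conj a * MulAut.conj (Rv k i1)).toMonoidHom) =
            (MulAut.conj a).toMonoidHom.comp (MulAut.conj (Rv k i1)).toMonoidHom from rfl,
          ← Subgroup.map_map, ← Subgroup.map_map, e1] }
  have hg : ∀ g < 3, gC.getD g 1 ∈ S := fun g hg i hi => by
    have h := List.all_eq_true.mp classes_ok k (List.mem_range.mpr hk)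
    rw [Bool.and_eq_true] at h
    have h' := List.all_eq_true.mp (List.all_eq_true.mp h.2 i (List.mem_range.mpr hi)) g (List.mem_range.mpr hg)
    simp only [List.all_eq_true, List.mem_range, Bool.and_eq_true, Nat.blt_eq] at h'
    refine ⟨_, (h' 0 (by omega)).1.1, ?_⟩
    set i' := ((clTab k).getD (15 * g + i) []).getD 0 0
    refine Subgroup.eq_of_le_of_card_ge ?_ (by
      rw [Subgroup.card_map_of_injective (MulEquiv.injective _), Subgroup.card_map_of_injective (MulEquiv.injective _)])
    rintro _ ⟨x, ⟨j, hj, rfl⟩, rfl⟩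
    have key : ∀ j < 16, gC.getD g 1 * Rv k i * Ev k j * (gC.getD g 1 * Rv k i)⁻¹ ∈
        (grp k hk).map (MulAut.conj (Rv k i')).toMonoidHom := by
      intro j
      induction j using Nat.strong_induction_on with
      | _ j ih =>
        intro hj
        by_cases h0 : j = 0
        · subst h0; rw [Ev_zero, mul_one, mul_inv_cancel]; exact Subgroup.one_mem _
        obtain ⟨b, hb, m, hm, e1, -⟩ := lin_split [] j hj h0
        have hb2 : 2 ^ b < 16 := by interval_cases b <;> norm_num
        rw [e1, ← Ev_mul hk (hm.trans hj) hb2]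
        have hbase : gC.getD g 1 * Rv k i * Ev k (2 ^ b) * (gC.getD g 1 * Rv k i)⁻¹ ∈
            (grp k hk).map (MulAut.conj (Rv k i')).toMonoidHom := by
          obtain ⟨⟨-, h2⟩, h3⟩ := h' b hb
          have hgw : evC [2 * g] = gC.getD g 1 := by
            show evW gC [2 * g] = _
            rw [Enum.evW_one]; unfold letG; rw [if_pos (by omega), show 2 * g / 2 = g by omega]
          have hcw : cWord (2 * g :: (reps k).getD i []) = true := by
            rw [show 2 * g :: (reps k).getD i [] = [2 * g] ++ (reps k).getD i [] from rfl]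
            exact cWord_append (by simp [cWord]; omega) (cWord_getD (words_k hk).2.2.1 i)
          have hr : evC (2 * g :: (reps k).getD i []) = gC.getD g 1 * Rv k i := by
            rw [← hgw]; exact Enum.evW_append gC [2 * g] _
          refine ⟨Ev k _, ⟨_, h2, rfl⟩, ?_⟩
          rw [← hr, MulEquiv.coe_toMonoidHom, MulAut.conj_apply, Rv, Ev, Ev, ← evC_conjW, ← evC_conjW]
          exact (evC_eq (cWord_conjW hcw (cWord_el hk _))
            (cWord_conjW (cWord_getD (words_k hk).2.2.1 i') (cWord_el hk _)) h3).symm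
        have := Subgroup.mul_mem _ (ih m hm (hm.trans hj)) hbase
        convert this using 1
        group
    simpa [MulAut.conj_apply, mul_assoc] using key j hj
  have hS : ∀ c : Cent, c ∈ S := by
    intro c
    have hc : c ∈ Subgroup.closure {g | g ∈ gC} := closure_gC ▸ Subgroup.mem_top c
    refine Subgroup.closure_induction (p := fun x _ => x ∈ S) ?_ S.one_mem (fun a b _ _ => S.mul_mem)
      (fun a _ ha => ?_) hc
    · intro g hgm
      obtain ⟨n, hn, rfl⟩ := List.getElem_of_mem hgm
      rw [← List.getD_eq_getElem _ 1 hn]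
      exact hg n (by simpa [gC] using hn)
    · obtain ⟨n, hn⟩ := (mem_powers_iff_mem_zpowers.2 (Subgroup.inv_mem _ (Subgroup.mem_zpowers a)) :
        a⁻¹ ∈ Submonoid.powers a)
      exact hn ▸ S.pow_mem ha n
  obtain ⟨i, hi, e⟩ := hS c 0 (by omega)
  exact ⟨i, hi, by rwa [Rv_zero hk, mul_one] at e⟩

theorem rep_inj {k : ℕ} (hk : k < 2) {i i' : ℕ} (hi : i < 15) (hi' : i' < 15)
    (e : (grp k hk).map (MulAut.conj (Rv k i)).toMonoidHom = (grp k hk).map (MulAut.conj (Rv k i')).toMonoidHom) :
    i = i' := by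
  have h := List.all_eq_true.mp (List.all_eq_true.mp (List.all_eq_true.mp classes_ne k (List.mem_range.mpr hk)) i
    (List.mem_range.mpr hi)) i' (List.mem_range.mpr hi')
  rw [Bool.or_eq_true] at h
  rcases h with h | h
  · exact Nat.eq_of_beq_eq_true h
  obtain ⟨b, hb, hall⟩ := List.any_eq_true.mp h
  have hb2 : 2 ^ b < 16 := by
    have := List.mem_range.mp hb
    interval_cases b <;> norm_num
  obtain ⟨_, ⟨j, hj, rfl⟩, hx⟩ := e ▸ Subgroup.mem_map_of_mem (MulAut.conj (Rv k i)).toMonoidHom
    (show Ev k (2 ^ b) ∈ grp k hk from ⟨_, hb2, rfl⟩)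
  refine absurd ?_ (eqW_false (List.all_eq_true.mp hall j (List.mem_range.mpr hj)))
  have hw := fun m => cWord_conjW (cWord_getD (words_k hk).2.2.1 m) (cWord_el hk (2 ^ b))
  have hw' := cWord_conjW (cWord_getD (words_k hk).2.2.1 i') (cWord_el hk j)
  unfold conjEl
  rw [← evC_val (hw i), ← evC_val hw', evC_conjW, evC_conjW]
  exact congrArg Subtype.val hx.symm

/-- The normaliser in the centraliser of an involution consists of the products `Ev k j * Lv k l`. -/
theorem norm_eq {k : ℕ} (hk : k < 2) {c : Cent} (hc : c ∈ Subgroup.normalizer (grp k hk : Set Cent)) :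
    ∃ j < 16, ∃ l < 168, c = Ev k j * Lv k l := by
  classical
  set N := Subgroup.normalizer (grp k hk : Set Cent)
  have hstab : ∀ x ∈ N, (grp k hk).map (MulAut.conj x).toMonoidHom = grp k hk := fun x hx => by
    refine Subgroup.eq_of_le_of_card_ge ?_ (Subgroup.card_map_of_injective (MulEquiv.injective _)).ge
    rintro _ ⟨y, hy, rfl⟩
    exact (Subgroup.mem_normalizer_iff.mp hx y).mp hy
  have hidx : 15 ≤ N.index := by
    have hinj : Function.Injective fun i : Fin 15 => ((Rv k i : Cent) : Cent ⧸ N) := fun a b e => by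
      have h := hstab _ (QuotientGroup.eq.mp e)
      have h2 := congrArg (fun H : Subgroup Cent => H.map (MulAut.conj (Rv k a)).toMonoidHom) h
      simp only [Subgroup.map_map] at h2
      rw [show (MulAut.conj (Rv k a)).toMonoidHom.comp (MulAut.conj ((Rv k a)⁻¹ * Rv k b)).toMonoidHom =
        (MulAut.conj (Rv k b)).toMonoidHom by ext x; simp [mul_assoc]] at h2
      exact Fin.ext (rep_inj hk a.2 b.2 h2.symm)
    have := Nat.card_le_card_of_injective _ hinj
    rwa [Nat.card_eq_fintype_card, Fintype.card_fin] at this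
  have hmem : ∀ j < 16, ∀ l < 168, Ev k j * Lv k l ∈ N := by
    intro j hj l hl
    refine Subgroup.mul_mem _ (Subgroup.le_normalizer ⟨j, hj, rfl⟩) ?_
    have hmap : (grp k hk).map (MulAut.conj (Lv k l)).toMonoidHom = grp k hk := by
      refine Subgroup.eq_of_le_of_card_ge ?_ (Subgroup.card_map_of_injective (MulEquiv.injective _)).ge
      rintro _ ⟨y, ⟨i, hi, rfl⟩, rfl⟩
      obtain ⟨hlt, e⟩ := acts_Lv (MonoidHom.id Cent) hk hl i hi
      exact ⟨_, hlt, e⟩
    refine Subgroup.mem_normalizer_iff.mpr fun y => ⟨fun hy => ?_, fun hy => ?_⟩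
    · exact hmap ▸ Subgroup.mem_map_of_mem (MulAut.conj (Lv k l)).toMonoidHom hy
    · rw [← hmap] at hy
      obtain ⟨z, hz, e⟩ := hy
      exact (MulAut.conj (Lv k l)).injective (show MulAut.conj (Lv k l) z = MulAut.conj (Lv k l) y from e) ▸ hz
  let F : Fin 16 × Fin 168 → N := fun p => ⟨Ev k p.1 * Lv k p.2, hmem _ p.1.2 _ p.2.2⟩
  have hF : Function.Injective F := by
    rintro ⟨a, b⟩ ⟨a', b'⟩ e
    have e1 : Ev k a * Lv k b = Ev k a' * Lv k b' := congrArg Subtype.val e
    have key : ∀ (a : Fin 16) (b : Fin 168),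
        Acts (MonoidHom.id Cent) k (Ev k a * Lv k b) (comp idAct ((lActs k).getD b [])) := fun a b =>
      Acts.mul hk (acts_Ev (MonoidHom.id Cent) hk a.2) (acts_Lv (MonoidHom.id Cent) hk b.2) (lacts_len hk b.2)
    have hid : ∀ l < 168, comp idAct ((lActs k).getD l []) = (lActs k).getD l [] := fun l hl => by
      refine Acts.unique (fun x y h => h) hk ?_ (acts_Lv (MonoidHom.id Cent) hk hl) ?_ (lacts_len hk hl)
      · have := Acts.mul hk (Acts.one (ψ := MonoidHom.id Cent) hk) (acts_Lv (MonoidHom.id Cent) hk hl) (lacts_len hk hl)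
        rwa [one_mul] at this
      · rw [comp, List.length_map]; exact lacts_len hk hl
    have h1 := key a b
    rw [e1] at h1
    have h2 := Acts.unique (fun x y h => h) hk h1 (key a' b') (by rw [comp, List.length_map]; exact lacts_len hk b.2)
      (by rw [comp, List.length_map]; exact lacts_len hk b'.2)
    rw [hid _ b.2, hid _ b'.2] at h2
    obtain rfl : b = b' := Fin.ext (lacts_inj hk b.2 b'.2 h2)
    rw [Fin.ext (Ev_inj hk a.2 a'.2 (mul_right_cancel e1))]
  have hN : Nat.card N ≤ 2688 := by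
    have h1 := N.card_mul_index
    have h2 := cent_card
    by_contra hlt
    have : 2689 * 15 ≤ Nat.card N * N.index := Nat.mul_le_mul (by omega) hidx
    omega
  have hsurj : Function.Surjective F := by
    refine (hF.bijective_of_nat_card_le ?_).2
    rw [Nat.card_eq_fintype_card (α := Fin 16 × Fin 168), Fintype.card_prod, Fintype.card_fin, Fintype.card_fin]
    exact hN
  obtain ⟨⟨a, b⟩, e⟩ := hsurj ⟨c, hc⟩
  exact ⟨a, a.2, b, b.2, (congrArg Subtype.val e).symm⟩

end CfsgMcLChar
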