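import Mathlib.Data.Nat.Notation

set_option autoImplicit false
set_option maxRecDepth 100000

namespace CfsgMcLChar.Dat

/-- named subwords of the four local groups and of the wrong gluing -/
def atomsG : List (List (List ℕ)) :=
  [[[0], [2], [4]],
    [[0], [2], [6], [2, 4, 2, 4, 2, 4, 2, 4], [5, 0, 0, 3, 4], [1, 1, 4, 1, 5, 2, 4], [0, 0, 4, 4, 2, 0, 4]],
    [[0, 5, 0, 2, 5, 1, 1], [1, 1, 1, 4, 2, 4, 1, 5], [6], [2, 4, 2, 4, 2, 4, 2, 4], [0, 3, 0, 2], [0, 0, 0, 3, 1], [3, 5, 2, 4, 3, 4]],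
    [[0, 0, 3, 4, 4, 0, 5, 5, 2, 1, 1], [0, 0, 3, 4, 4, 2, 5, 5, 2, 1, 1], [0, 0, 3, 4, 4, 6, 5, 5, 2, 1, 1], [0, 0, 3, 4, 4, 2, 4, 2, 4, 2, 4, 2, 5, 2, 1, 1], [0, 0, 3, 4, 0, 0, 3, 5, 2, 1, 1], [0, 0, 3, 4, 4, 1, 1, 4, 1, 5, 2, 5, 2, 1, 1], [0, 0, 3, 4, 4, 0, 0, 4, 4, 2, 0, 5, 2, 1, 1]],
    [[1, 2, 5, 1, 2], [0, 4, 1, 2, 0, 4, 4, 2], [6], [2, 4, 2, 4, 2, 4, 2, 4], [0, 3, 0, 2], [0, 0, 0, 3, 1], [3, 5, 2, 4, 3, 4]]]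

/-- their values in the model -/
def atomsM : List (List (List ℕ)) :=
  [[[0], [2], [4]],
    [[0], [2], [6], [2, 4, 2, 4, 2, 4, 2, 4], [5, 0, 0, 3, 4], [1, 1, 4, 1, 5, 2, 4], [0, 0, 4, 4, 2, 0, 4]],
    [[0, 5, 0, 2, 5, 1, 1], [1, 1, 1, 4, 2, 4, 1, 5], [6], [2, 4, 2, 4, 2, 4, 2, 4], [0, 3, 0, 2], [0, 0, 0, 3, 1], [3, 5, 2, 4, 3, 4]],
    [[0, 0, 3, 4, 4, 0, 5, 5, 2, 1, 1], [0, 0, 3, 4, 4, 2, 5, 5, 2, 1, 1], [0, 0, 3, 4, 4, 6, 5, 5, 2, 1, 1], [0, 0, 3, 4, 4, 2, 4, 2, 4, 2, 4, 2, 5, 2, 1, 1], [0, 0, 3, 4, 0, 0, 3, 5, 2, 1, 1], [0, 0, 3, 4, 4, 1, 1, 4, 1, 5, 2, 5, 2, 1, 1], [0, 0, 3, 4, 4, 0, 0, 4, 4, 2, 0, 5, 2, 1, 1]],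
    [[0, 5, 0, 2, 5, 1, 1], [1, 1, 1, 4, 2, 4, 1, 5], [6], [2, 4, 2, 4, 2, 4, 2, 4], [0, 3, 0, 2], [0, 0, 0, 3, 1], [3, 5, 2, 4, 3, 4]]]

/-- the generators of the subgroup of index 2025 -/
def subWords : List (List ℕ) :=
  [[1, 1, 2, 7, 3], [6, 0, 7, 2, 7], [1, 1, 4, 1, 5, 2, 4], [2, 4, 2, 4, 2, 4, 2, 4, 0, 0, 4, 3, 1, 4, 1, 6, 4, 0, 5, 3, 5, 0, 0, 0, 7, 0, 0, 4, 3, 1, 4, 1], [0, 0, 3, 4, 4, 7, 2, 7, 3, 6, 5, 5, 2, 1, 1]]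

/-- the generators of the subgroup in named subwords of their groups -/
def subAtoms : List (List ℕ) :=
  [[1, 1, 2, 5, 3], [4, 0, 5, 2, 5], [10]]

/-- the conjugator of the fourth local group -/
def conjWord : List ℕ :=
  [0, 0, 3, 4, 4]

end CfsgMcLChar.Dat
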