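import Cfsg.Agent.Lib.McLChar.Bad

/-! Kernel checks of an enumeration. -/

set_option autoImplicit false
set_option maxRecDepth 100000
set_option maxHeartbeats 4000000

namespace CfsgMcLChar.Bad

theorem facts0 : cert.okFacts 0 450 = true := by decide +kernel

theorem facts450 : cert.okFacts 450 447 = true := by decide +kernel

end CfsgMcLChar.Bad
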