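import Cfsg.Agent.Lib.McLChar.Setting
import Cfsg.Agent.S0051

/-!
Complements of the groups of order 16 in their normalisers.
-/

set_option autoImplicit false
set_option maxRecDepth 100000

namespace CfsgMcLChar

open Subgroup Equiv CfsgLib.McLInvol CfsgPC CfsgLib.Local
open CfsgMcLChar.Enum (evW letG)

attribute [local irreducible] fixChain invT centGens sylGens sylChain

variable {G : Type*} [Group G] [Finite G] {t : G} {ψ : Cent →* G}

/-- A generator of a complement. -/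
noncomputable def Kv (k i : ℕ) : Cent := evC ((cmpl k).getD i [])

/-- A complement of the image of a group of order 16 in its normaliser, containing the given conjugates. -/
structure IsComp (ψ : Cent →* G) (k : ℕ) (hk : k < 2) (e : Cent) (A : Subgroup G) : Prop where
  le : A ≤ Subgroup.normalizer (Eg ψ k hk : Set G)
  disj : ∀ a ∈ A, a ∈ Eg ψ k hk → a = 1
  split : ∀ n ∈ Subgroup.normalizer (Eg ψ k hk : Set G), ∃ j < 16, ∃ a ∈ A, n = ψ (Ev k j) * a
  gens : ∀ i < 2, ψ (e * Kv k i * e⁻¹) ∈ A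

theorem fixPt_facts {k : ℕ} (hk : k < 2) : Dat.fixPt.getD k 0 < 275 ∧
    (∀ w ∈ cmpl k, apW w (Dat.fixPt.getD k 0) = Dat.fixPt.getD k 0) ∧
    apW [6] (Dat.fixPt.getD k 0) = Dat.fixPt.getD k 0 ∧
    ∀ j, 1 ≤ j → j < 16 → apW (el k j) (Dat.fixPt.getD k 0) ≠ Dat.fixPt.getD k 0 := by
  have h := List.all_eq_true.mp fix_ok k (List.mem_range.mpr hk)
  simp only [Bool.and_eq_true, List.all_eq_true, Nat.blt_eq] at h
  obtain ⟨⟨⟨h1, h2⟩, h3⟩, h4⟩ := h
  refine ⟨h1, fun w hw => Nat.eq_of_beq_eq_true (h2 w hw), Nat.eq_of_beq_eq_true h3, fun j hj hj' e => ?_⟩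
  have := h4 j (List.mem_range'_1.mpr ⟨hj, by omega⟩)
  rw [e] at this
  simp at this

/-- The fixed point of a complement. -/
def fixP (k : ℕ) : Fin 275 := ⟨Dat.fixPt.getD k 0 % 275, Nat.mod_lt _ (by omega)⟩

theorem fixP_val {k : ℕ} (hk : k < 2) : (fixP k : ℕ) = Dat.fixPt.getD k 0 := Nat.mod_eq_of_lt (fixPt_facts hk).1

theorem Ev_moves {k : ℕ} (hk : k < 2) {j : ℕ} (hj : j < 16) (h : (Ev k j : Cent).1.1 (fixP k) = fixP k) :
    j = 0 := by
  by_contra h0
  refine (fixPt_facts hk).2.2.2 j (by omega) hj ?_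
  rw [← fixP_val hk, apW_spec, ← evC_val (cWord_el hk j)]
  exact congrArg Fin.val h

/-- The point stabiliser in the centraliser. -/
noncomputable def fixS (k : ℕ) : Subgroup Cent :=
  (MulAction.stabilizer (Perm (Fin 275)) (fixP k)).comap (McLP.subtype.comp (Subgroup.subtype Cent))

theorem Kv_fix {k : ℕ} (hk : k < 2) (i : ℕ) : Kv k i ∈ fixS k := by
  show (Kv k i).1.1 (fixP k) = fixP k
  have hw := cWord_getD (words_k hk).2.1 i
  refine Fin.ext ?_
  rw [Kv, evC_val hw, ← apW_spec, fixP_val hk]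
  rcases lt_or_ge i (cmpl k).length with hi | hi
  · rw [List.getD_eq_getElem _ _ hi]; exact (fixPt_facts hk).2.1 _ (List.getElem_mem hi)
  · rw [List.getD_eq_default _ _ hi]; rfl

theorem Lv_mem {k : ℕ} (hk : k < 2) {S : Subgroup Cent} (hS : ∀ i < 2, Kv k i ∈ S) (l : ℕ) : Lv k l ∈ S := by
  rw [Lv, lw, evC, Enum.evW_exp]
  refine Enum.evW_mem (fun g hg => ?_) _
  obtain ⟨w, hw, rfl⟩ := List.mem_map.mp hg
  obtain ⟨i, hi, rfl⟩ := List.getElem_of_mem hw
  rw [← List.getD_eq_getElem _ [] hi]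
  exact hS i ((words_k hk).2.2.2.2.1 ▸ hi)

theorem Setting.Lv_norm (_S : Setting t ψ) {k : ℕ} (hk : k < 2) {l : ℕ} (hl : l < 168) :
    ψ (Lv k l) ∈ Subgroup.normalizer (Eg ψ k hk : Set G) := by
  refine mem_normalizer_of_map_conj_eq (Subgroup.eq_of_le_of_card_ge ?_
    (Subgroup.card_map_of_injective (MulEquiv.injective _)).ge)
  rintro _ ⟨x, hx, rfl⟩
  obtain ⟨i, hi, rfl⟩ := mem_Eg.mp hx
  obtain ⟨hlt, e⟩ := acts_Lv ψ hk hl i hi
  exact mem_Eg.mpr ⟨_, hlt, e⟩

theorem shifted_cWord {k : ℕ} (hk : k < 2) (i j : ℕ) : ∀ w ∈ shifted k i j, cWord w = true := by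
  intro w hw
  simp only [shifted, List.mem_cons, List.not_mem_nil, or_false] at hw
  rcases hw with rfl | rfl
  exacts [cWord_append (cWord_el hk i) (cWord_getD (words_k hk).2.1 0),
    cWord_append (cWord_el hk j) (cWord_getD (words_k hk).2.1 1)]

theorem Kv_lv {k : ℕ} (hk : k < 2) : Lv k ((lWords k).idxOf [0]) = Kv k 0 ∧ Lv k ((lWords k).idxOf [2]) = Kv k 1 := by
  have h : ∀ x : ℕ, x % 2 = 0 → (lWords k).idxOf [x] < 168 → Lv k ((lWords k).idxOf [x]) = Kv k (x / 2) :=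
    fun x hx hlt => by
      have hl : (lWords k).idxOf [x] < (lWords k).length := (words_k hk).2.2.2.2.2.1.symm ▸ hlt
      rw [Lv, lw, List.getD_eq_getElem _ _ hl, List.getElem_idxOf hl, Kv]
      simp [Enum.expW, hx]
  exact ⟨h 0 rfl (l_facts hk).2.2.1, h 2 rfl (l_facts hk).2.2.2⟩

theorem Setting.exists_comp (S : Setting t ψ) {k : ℕ} (hk : k < 2) : ∃ A, IsComp ψ k hk 1 A := by
  classical
  set E := Eg ψ k hk with hE
  set N := Subgroup.normalizer (E : Set G) with hN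
  let K : Subgroup N := E.subgroupOf N
  let U : Subgroup N := (Subgroup.centralizer ({t} : Set G)).subgroupOf N
  let A0 : Subgroup Cent := Subgroup.closure {g | ∃ i < 2, g = Kv k i}
  let AU : Subgroup N := (A0.map ψ).subgroupOf N
  haveI : K.Normal := Subgroup.normal_in_normalizer
  haveI : IsMulCommutative K := ⟨⟨fun a b => by
    refine Subtype.ext (Subtype.ext ?_)
    have ha := S.Eg_sq (Subgroup.mem_subgroupOf.mp a.2)
    have hb := S.Eg_sq (Subgroup.mem_subgroupOf.mp b.2)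
    have hab := S.Eg_sq (E.mul_mem (Subgroup.mem_subgroupOf.mp a.2) (Subgroup.mem_subgroupOf.mp b.2))
    have := inv_eq_of_mul_eq_one_right hab
    rw [mul_inv_rev, inv_eq_of_mul_eq_one_right ha, inv_eq_of_mul_eq_one_right hb] at this
    exact this.symm⟩⟩
  have hEle : E ≤ N := Subgroup.le_normalizer
  have hA0fix : A0 ≤ fixS k := (Subgroup.closure_le _).mpr (by rintro g ⟨i, -, rfl⟩; exact Kv_fix hk i)
  have hA0C : A0.map ψ ≤ Subgroup.centralizer ({t} : Set G) := by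
    exact le_trans (Subgroup.map_le_range _ _) S.le
  have hEC : E ≤ Subgroup.centralizer ({t} : Set G) := by
    exact le_trans (Subgroup.map_le_range _ _) S.le
  have hA0N : A0.map ψ ≤ N := by
    rw [Subgroup.map_le_iff_le_comap, Subgroup.closure_le]
    rintro g ⟨i, hi, rfl⟩
    obtain ⟨-, -, i0, i1⟩ := l_facts hk
    obtain ⟨e0, e1⟩ := Kv_lv hk
    rcases (by omega : i = 0 ∨ i = 1) with rfl | rfl
    · exact e0 ▸ S.Lv_norm hk i0
    · exact e1 ▸ S.Lv_norm hk i1
  have hAK : AU ⊓ K = ⊥ := by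
    refine (Subgroup.eq_bot_iff_forall _).mpr fun x hx => ?_
    obtain ⟨⟨c, hc, hce⟩, hxE⟩ := hx
    obtain ⟨j, hj, e⟩ := mem_Eg.mp (Subgroup.mem_subgroupOf.mp hxE)
    change ψ c = (x : G) at hce
    rw [e] at hce
    have hc' := hA0fix hc
    rw [S.inj hce] at hc'
    refine Subtype.ext ?_
    rw [e, Ev_moves hk hj hc', Ev_zero, map_one]
    rfl
  have hKA : K ⊔ AU = U := by
    refine le_antisymm (sup_le (fun x hx => ?_) fun x hx => ?_) fun x hx => ?_
    · exact Subgroup.mem_subgroupOf.mpr (hEC (Subgroup.mem_subgroupOf.mp hx))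
    · exact Subgroup.mem_subgroupOf.mpr (hA0C (Subgroup.mem_subgroupOf.mp hx))
    · obtain ⟨c, hc⟩ := S.pre k hk (x : G) x.2 (Subgroup.mem_centralizer_singleton_iff.mp (Subgroup.mem_subgroupOf.mp hx))
      obtain ⟨j, hj, l, hl, e⟩ := norm_eq hk (S.norm_C hk (c := c) (by rw [hc]; exact x.2))
      have h1 : ψ (Ev k j) ∈ E := mem_Eg.mpr ⟨j, hj, rfl⟩
      have h2 : ψ (Lv k l) ∈ A0.map ψ :=
        Subgroup.mem_map_of_mem ψ (Lv_mem hk (S := A0) (fun i hi => Subgroup.subset_closure ⟨i, hi, rfl⟩) l)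
      have : x = (⟨_, hEle h1⟩ : N) * (⟨_, hA0N h2⟩ : N) := Subtype.ext (by rw [← hc, e, map_mul]; rfl)
      rw [this]
      exact Subgroup.mul_mem_sup (Subgroup.mem_subgroupOf.mpr h1) (Subgroup.mem_subgroupOf.mpr h2)
  have hidx : U.index = 15 := by
    have key : ∀ n : N, ∃ j : Fin 15, (n : G) * t * (n : G)⁻¹ = ψ (Ev k (j + 1)) := fun n => by
      obtain ⟨i, hi, e⟩ := mem_Eg.mp ((Subgroup.mem_normalizer_iff.mp n.2 t).mp (S.t_mem hk))
      have h0 : i ≠ 0 := fun h => by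
        rw [h, Ev_zero, map_one] at e
        exact S.t_ne (by simpa using e)
      exact ⟨⟨i - 1, by omega⟩, by rw [e, show i - 1 + 1 = i by omega]⟩
    choose f hf using key
    have hfib : ∀ a b : N, f a = f b ↔ a⁻¹ * b ∈ U := fun a b => by
      rw [Subgroup.mem_subgroupOf, Subgroup.mem_centralizer_singleton_iff, Subgroup.coe_mul, Subgroup.coe_inv]
      constructor
      · intro h
        have e := (hf a).trans ((congrArg (fun j : Fin 15 => ψ (Ev k (j + 1))) h).trans (hf b).symm)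
        calc (a : G)⁻¹ * b * t = (a : G)⁻¹ * ((b : G) * t * (b : G)⁻¹) * b := by group
          _ = t * ((a : G)⁻¹ * b) := by rw [← e]; group
      · intro h
        have e : (a : G) * t * (a : G)⁻¹ = b * t * (b : G)⁻¹ := by
          calc (a : G) * t * (a : G)⁻¹ = a * (t * ((a : G)⁻¹ * b)) * (b : G)⁻¹ := by group
            _ = _ := by rw [← h]; group
        rw [hf, hf] at e
        have := Ev_inj hk (by omega) (by omega) (S.inj e)
        exact Fin.ext (by omega)
    let g : N ⧸ U → Fin 15 := Quotient.lift f fun a b hab => (hfib a b).mpr (QuotientGroup.leftRel_apply.mp hab)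
    have hb : Function.Bijective g := by
      refine ⟨fun q r => ?_, fun j => ?_⟩
      · induction q using QuotientGroup.induction_on with
        | H a =>
          induction r using QuotientGroup.induction_on with
          | H b => exact fun h => QuotientGroup.eq.mpr ((hfib a b).mp h)
      · obtain ⟨n, hn, e⟩ := S.transitive hk (j := j + 1) (by omega) (by omega)
        refine ⟨((⟨n, hn⟩ : N) : N ⧸ U), ?_⟩
        show f ⟨n, hn⟩ = j
        have := hf ⟨n, hn⟩
        rw [e] at this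
        exact Fin.ext (by have := Ev_inj hk (by omega) (by omega) (S.inj this); omega)
    rw [Subgroup.index, Nat.card_congr (Equiv.ofBijective g hb), Nat.card_eq_fintype_card, Fintype.card_fin]
  have hK16 : Nat.card K = 16 := by
    rw [Nat.card_congr (Subgroup.subgroupOfEquivOfLe hEle).toEquiv, S.card_Eg hk]
  obtain ⟨H, hH⟩ := Cfsg.Agent.S0051.result K U (hKA ▸ le_sup_left) (by rw [hK16, hidx]; decide) AU
    (hKA ▸ le_sup_right) hAK hKA
  have hdec : ∀ n : N, ∃ j < 16, ∃ a ∈ H, (n : G) = ψ (Ev k j) * (a : G) := fun n => by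
    obtain ⟨x, hx, y, hy, e⟩ := (Set.mem_mul (a := n)).mp (hH.mul_eq.symm ▸ Set.mem_univ n)
    obtain ⟨j, hj, ej⟩ := mem_Eg.mp (Subgroup.mem_subgroupOf.mp hx)
    exact ⟨j, hj, y, hy, by rw [← e, Subgroup.coe_mul, ej]⟩
  have hdisj : ∀ a : N, a ∈ H → (a : G) ∈ E → a = 1 := fun a ha haE =>
    (Subgroup.disjoint_def.mp hH.disjoint) (Subgroup.mem_subgroupOf.mpr haE) ha
  -- the generators of the complement of the centraliser, modulo the group of order 16
  have hgen : ∀ i < 2, ∃ j < 16, ∃ a : N, a ∈ H ∧ (a : G) = ψ (Ev k j * Kv k i) := fun i hi => by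
    obtain ⟨j, hj, a, ha, e⟩ := hdec ⟨_, hA0N (Subgroup.mem_map_of_mem ψ (Subgroup.subset_closure ⟨i, hi, rfl⟩))⟩
    refine ⟨j, hj, a, ha, ?_⟩
    rw [map_mul, show ψ (Kv k i) = ψ (Ev k j) * a from e, ← mul_assoc, ← map_mul, Ev_self hk hj, map_one, one_mul]
  obtain ⟨i0, hi0, x0, hx0, ex0⟩ := hgen 0 (by omega)
  obtain ⟨i1, hi1, x1, hx1, ex1⟩ := hgen 1 (by omega)
  have hco := List.all_eq_true.mp compl_ok k (List.mem_range.mpr hk)
  rw [Bool.and_eq_true] at hco
  obtain ⟨hrel, hpairs⟩ := hco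
  have hno : ∀ r ∈ lRels k, eqW (Enum.expW (shifted k i0 i1) r) [] = true := by
    intro r hr
    refine eqW_iff.mpr ?_
    have hcw := cWord_expW (shifted_cWord hk i0 i1) r
    rw [← evC_val hcw]
    refine congrArg Subtype.val (S.inj (?_ : ψ (evC (Enum.expW (shifted k i0 i1) r)) = ψ 1))
    have hval : ψ (evC (Enum.expW (shifted k i0 i1) r)) = ((evW [x0, x1] r : N) : G) := by
      rw [evC, Enum.evW_exp, ← Enum.evW_map ψ, ← N.coe_subtype, ← Enum.evW_map N.subtype]
      congr 1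
      simp only [shifted, List.map_cons, List.map_nil, Subgroup.coe_subtype]
      rw [ex0, ex1]
      simp [Ev, Kv, evC, Enum.evW_append]
    rw [hval, map_one]
    have hmem : evW [x0, x1] r ∈ H := Enum.evW_mem (fun g hg => by
      simp only [List.mem_cons, List.not_mem_nil, or_false] at hg
      rcases hg with rfl | rfl <;> assumption) r
    rw [hdisj _ hmem ?_]
    · rfl
    -- modulo the group of order 16 it is the relator in the generators
    let q := QuotientGroup.mk' K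
    have hq : ∀ (i j : ℕ) (x : N), j < 16 → (x : G) = ψ (Ev k j * Kv k i) → ∀ h : ψ (Kv k i) ∈ N,
        q x = q ⟨ψ (Kv k i), h⟩ := fun i j x hj ex h => by
      refine (QuotientGroup.eq.mpr ?_).symm
      refine Subgroup.mem_subgroupOf.mpr ?_
      rw [Subgroup.coe_mul, Subgroup.coe_inv, ex, map_mul]
      refine mem_Eg.mpr ?_
      have hk' := Subgroup.inv_mem _ h
      have := (Subgroup.mem_normalizer_iff.mp hk' (ψ (Ev k j))).mp (mem_Eg.mpr ⟨j, hj, rfl⟩)
      rw [inv_inv] at this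
      obtain ⟨m, hm, em⟩ := mem_Eg.mp this
      exact ⟨m, hm, by rw [← em]; group⟩
    have hk0 : ψ (Kv k 0) ∈ N := hA0N (Subgroup.mem_map_of_mem ψ (Subgroup.subset_closure ⟨0, by omega, rfl⟩))
    have hk1 : ψ (Kv k 1) ∈ N := hA0N (Subgroup.mem_map_of_mem ψ (Subgroup.subset_closure ⟨1, by omega, rfl⟩))
    have hz : q (evW [x0, x1] r) = 1 := by
      rw [← Enum.evW_map q]
      simp only [List.map_cons, List.map_nil]
      rw [hq 0 i0 x0 hi0 ex0 hk0, hq 1 i1 x1 hi1 ex1 hk1]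
      rw [show ([q ⟨ψ (Kv k 0), hk0⟩, q ⟨ψ (Kv k 1), hk1⟩] : List (N ⧸ K)) =
        ([⟨ψ (Kv k 0), hk0⟩, ⟨ψ (Kv k 1), hk1⟩] : List N).map q from rfl, Enum.evW_map]
      refine (congrArg q (Subtype.ext ?_)).trans (map_one q)
      rw [← N.coe_subtype, ← Enum.evW_map N.subtype]
      show evW [ψ (Kv k 0), ψ (Kv k 1)] r = 1
      rw [show ([ψ (Kv k 0), ψ (Kv k 1)] : List G) = ([Kv k 0, Kv k 1] : List Cent).map ψ from rfl, Enum.evW_map]
      refine (congrArg ψ ?_).trans (map_one ψ)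
      have hl := List.all_eq_true.mp hrel r hr
      have hcw' := cWord_expW (words_k hk).2.1 r
      have := evC_eq hcw' (v := []) rfl hl
      rw [evC, Enum.evW_exp] at this
      rw [show ([Kv k 0, Kv k 1] : List Cent) = (cmpl k).map (evW gC) from ?_, this]
      · rfl
      · obtain ⟨w0, w1, e⟩ := List.length_eq_two.mp (words_k hk).2.2.2.2.1
        rw [e]
        simp [Kv, e, evC]
    exact Subgroup.mem_subgroupOf.mp ((QuotientGroup.eq_one_iff _).mp hz)
  have hp := List.all_eq_true.mp (List.all_eq_true.mp hpairs i0 (List.mem_range.mpr hi0)) i1 (List.mem_range.mpr hi1)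
  rw [Bool.or_eq_true] at hp
  rcases hp with hp | hp
  · obtain ⟨r, hr, hne⟩ := List.any_eq_true.mp hp
    exact absurd (eqW_iff.mp (hno r hr)) (eqW_false hne)
  obtain ⟨e, he, hee⟩ := List.any_eq_true.mp hp
  rw [Bool.and_eq_true] at hee
  have he16 := List.mem_range.mp he
  have hconj : ∀ (i j : ℕ), eqW (conjW (el k e) ((cmpl k).getD i [])) (el k j ++ (cmpl k).getD i []) = true →
      Ev k e * Kv k i * (Ev k e)⁻¹ = Ev k j * Kv k i := fun i j h => by
    have := evC_eq (cWord_conjW (cWord_el hk e) (cWord_getD (words_k hk).2.1 i))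
      (cWord_append (cWord_el hk j) (cWord_getD (words_k hk).2.1 i)) h
    rw [evC_conjW] at this
    simpa [Ev, Kv, evC, Enum.evW_append] using this
  have heN : (ψ (Ev k e))⁻¹ ∈ N := N.inv_mem (hEle (mem_Eg.mpr ⟨e, he16, rfl⟩))
  refine ⟨(H.map N.subtype).map (MulAut.conj (ψ (Ev k e))⁻¹).toMonoidHom, ?_, ?_, ?_, ?_⟩
  · rintro _ ⟨_, ⟨a, -, rfl⟩, rfl⟩
    exact N.mul_mem (N.mul_mem heN a.2) (N.inv_mem heN)
  · rintro _ ⟨_, ⟨a, ha, rfl⟩, rfl⟩ hE'
    have h2 := (Subgroup.mem_normalizer_iff.mp heN (a : G)).mpr hE'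
    rw [hdisj a ha h2]
    simp
  · intro n hn
    have hn' : ψ (Ev k e) * n * (ψ (Ev k e))⁻¹ ∈ N := by
      have := N.inv_mem heN
      rw [inv_inv] at this
      exact N.mul_mem (N.mul_mem this hn) heN
    obtain ⟨j, hj, a, ha, ea⟩ := hdec ⟨_, hn'⟩
    refine ⟨j, hj, _, Subgroup.mem_map_of_mem _ (Subgroup.mem_map_of_mem _ ha), ?_⟩
    show n = ψ (Ev k j) * ((ψ (Ev k e))⁻¹ * (a : G) * ((ψ (Ev k e))⁻¹)⁻¹)
    have hc : (ψ (Ev k e))⁻¹ * ψ (Ev k j) = ψ (Ev k j) * (ψ (Ev k e))⁻¹ := by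
      rw [← map_inv, inv_eq_of_mul_eq_one_right (Ev_self hk he16), ← map_mul, ← map_mul, Ev_mul hk he16 hj,
        Ev_mul hk hj he16, Nat.xor_comm]
    calc n = (ψ (Ev k e))⁻¹ * (ψ (Ev k e) * n * (ψ (Ev k e))⁻¹) * ψ (Ev k e) := by group
      _ = (ψ (Ev k e))⁻¹ * ψ (Ev k j) * (a : G) * ψ (Ev k e) := by rw [show ψ (Ev k e) * n * (ψ (Ev k e))⁻¹ = _ from ea]; group
      _ = _ := by rw [hc]; group
  · intro i hi
    rcases (by omega : i = 0 ∨ i = 1) with rfl | rfl
    · refine ⟨(x0 : G), Subgroup.mem_map_of_mem _ hx0, ?_⟩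
      show (ψ (Ev k e))⁻¹ * (x0 : G) * ((ψ (Ev k e))⁻¹)⁻¹ = _
      rw [ex0, ← hconj 0 i0 hee.1]
      simp only [map_mul, map_inv, map_one]
      group
    · refine ⟨(x1 : G), Subgroup.mem_map_of_mem _ hx1, ?_⟩
      show (ψ (Ev k e))⁻¹ * (x1 : G) * ((ψ (Ev k e))⁻¹)⁻¹ = _
      rw [ex1, ← hconj 1 i1 hee.2]
      simp only [map_mul, map_inv, map_one]
      group

end CfsgMcLChar
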