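import Cfsg.Agent.Lib.McLChar.Model

/-!
Kernel checks in the model.
-/

set_option autoImplicit false
set_option maxRecDepth 100000
set_option maxHeartbeats 4000000

namespace CfsgMcLChar

open CfsgLib.McLInvol CfsgPC CfsgLeech.Models

theorem codes_ok : (List.range 4).all (fun i => isPerm 275 (Dat.codes.getD (2 * i) 0) (Dat.codes.getD (2 * i + 1) 0) &&
    sift 275 fixChain (Dat.codes.getD (2 * i) 0)) = true := by decide +kernel

theorem codes_len : Dat.codes.length = 8 := by decide +kernel

theorem gens_comm : (List.range 3).all (fun i => (List.range 275).all fun p =>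
    Nat.beq (ap (Dat.codes.getD (2 * i) 0) (ap invT.1 p)) (ap invT.1 (ap (Dat.codes.getD (2 * i) 0) p))) = true := by
  decide +kernel

theorem tau_ok : (Dat.tauWord.getD 0 []).all (fun x => Nat.blt x 6) = true ∧
    bs.all (fun b => Nat.beq (apW (Dat.tauWord.getD 0 []) b) (ap invT.1 b)) = true ∧
    bs.all (fun b => Nat.beq (apW (el 0 1) b) (ap invT.1 b)) = true ∧
    bs.all (fun b => Nat.beq (apW (el 1 1) b) (ap invT.1 b)) = true := by decide +kernel

theorem cent_words : ((List.range centGens.length).all fun j => cWord (Dat.centWords.getD j []) &&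
    (List.range 275).all fun p => Nat.beq (apW (Dat.centWords.getD j []) p) (ap (centGens.getD j (0, 0)).1 p)) = true ∧
    centGens.length = 2 := by decide +kernel

theorem model_words : ((List.range mclRigid.gens.length).all fun j =>
    (List.range 275).all fun p => Nat.beq (apW (Dat.modelWords.getD j []) p) (ap (mclRigid.gens.getD j 0) p)) = true := by
  decide +kernel

theorem words_c : ((List.range 2).all fun k => (bas k).all cWord && (cmpl k).all cWord && (reps k).all cWord &&
    decide ((bas k).length = 4) && decide ((cmpl k).length = 2) && decide ((lWords k).length = 168) &&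
    decide ((lActs k).length = 168) && decide ((reps k).length = 15) &&
    (lWords k).all fun w => w.all fun x => Nat.blt x 4) = true := by decide +kernel

theorem el_mul_ok : ((List.range 2).all fun k => (List.range 16).all fun i => (List.range 16).all fun j =>
    eqW (el k i ++ el k j) (el k (i ^^^ j)) && (Nat.beq i j || !eqW (el k i) (el k j))) = true := by decide +kernel

theorem lact_ok : ((List.range 2).all fun k => (List.range 168).all fun l => (List.range 4).all fun i =>
    Nat.blt (((lActs k).getD l []).getD i 0) 16 &&
    eqW (conjW (lw k l) (el k (2 ^ i))) (el k (((lActs k).getD l []).getD i 0))) = true := by decide +kernel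

theorem lact_nodup : ((List.range 2).all fun k => decide ((lActs k).Nodup) &&
    (lActs k).all fun T => decide (T.length = 4)) = true := by decide +kernel

theorem trans_ok : ((List.range 2).all fun k => (List.range' 2 14).all fun j => (List.range 168).any fun l =>
    Nat.beq (lin ((lActs k).getD l []) 2) j && Nat.beq (lin ((lActs k).getD l []) 1) 1) = true := by decide +kernel

theorem lact_fix : ((List.range 2).all fun k => (lActs k).all fun T => Nat.beq (lin T 1) 1) = true := by
  decide +kernel

theorem classes_ok : ((List.range 2).all fun k => decide ((reps k).getD 0 [] = []) &&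
    (List.range 15).all fun i => (List.range 3).all fun g => (List.range 4).all fun b =>
    let e := (clTab k).getD (15 * g + i) []
    Nat.blt (e.getD 0 0) 15 && Nat.blt (e.getD (b + 1) 0) 16 &&
      eqW (conjW (2 * g :: (reps k).getD i []) (el k (2 ^ b))) (conjEl k (e.getD 0 0) (e.getD (b + 1) 0))) = true := by
  decide +kernel

theorem classes_ne : ((List.range 2).all fun k => (List.range 15).all fun i => (List.range 15).all fun i' =>
    Nat.beq i i' || (List.range 4).any fun b => (List.range 16).all fun j =>
      !eqW (conjEl k i (2 ^ b)) (conjEl k i' j)) = true := by decide +kernel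

theorem common_ok : ((List.range 2).all fun k => (List.range 15).all fun i =>
    Nat.beq i 0 || (List.range 16).all fun j => !eqW (conjEl k i j) (el 0 (Dat.uIdx.getD 0 0))) = true ∧
    eqW (el 1 (Dat.uIdx.getD 1 0)) (el 0 (Dat.uIdx.getD 0 0)) = true ∧
    Dat.uIdx.getD 0 0 < 16 ∧ Dat.uIdx.getD 1 0 < 16 ∧ ((List.range 4).any fun b => (List.range 16).all fun j =>
      !eqW (el 1 (2 ^ b)) (el 0 j)) = true := by decide +kernel

theorem fix_ok : ((List.range 2).all fun k => Nat.blt (Dat.fixPt.getD k 0) 275 &&
    ((cmpl k).all fun w => Nat.beq (apW w (Dat.fixPt.getD k 0)) (Dat.fixPt.getD k 0)) &&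
    Nat.beq (apW [6] (Dat.fixPt.getD k 0)) (Dat.fixPt.getD k 0) &&
    (List.range' 1 15).all fun j => !Nat.beq (apW (el k j) (Dat.fixPt.getD k 0)) (Dat.fixPt.getD k 0)) = true := by
  decide +kernel

/-- A choice of two elements over the generators of a complement. -/
def shifted (k i j : ℕ) : List (List ℕ) := [el k i ++ (cmpl k).getD 0 [], el k j ++ (cmpl k).getD 1 []]

theorem compl_ok : ((List.range 2).all fun k => ((lRels k).all fun r => eqW (Enum.expW (cmpl k) r) []) &&
    (List.range 16).all fun i => (List.range 16).all fun j =>
      ((lRels k).any fun r => !eqW (Enum.expW (shifted k i j) r) []) ||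
      (List.range 16).any fun e => eqW (conjW (el k e) ((cmpl k).getD 0 [])) (el k i ++ (cmpl k).getD 0 []) &&
        eqW (conjW (el k e) ((cmpl k).getD 1 [])) (el k j ++ (cmpl k).getD 1 [])) = true := by decide +kernel

end CfsgMcLChar
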