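import Cfsg.Agent.Lib.McLChar.Items
import Cfsg.Agent.Lib.McLChar.Bad
import Cfsg.Agent.Lib.McLChar.ModelChecks

/-!
Further kernel checks in the model: cosets of the complement, the element of order 3, gluing, named subwords.
-/

set_option autoImplicit false
set_option maxRecDepth 100000
set_option maxHeartbeats 4000000

namespace CfsgMcLChar

open CfsgLib.McLInvol CfsgPC

/-- The action of the fourth generator on a group of order 16. -/
def oAct : ℕ → List ℕ
  | 0 => Dat.oAct
  | _ => Dat.oAct2

/-- The action of a positive word in the two generators of a complement and one more element. -/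
def wAct (R : List ℕ) : List ℕ → List ℕ
  | [] => idAct
  | x :: w => comp (if x = 0 then (lActs 0).getD ((lWords 0).idxOf [0]) [] else
      if x = 1 then (lActs 0).getD ((lWords 0).idxOf [2]) [] else R) (wAct R w)

theorem l_zero : ((List.range 2).all fun k => decide ((lWords k).getD 0 [] = []) && decide ((lActs k).getD 0 [] = idAct) &&
    Nat.blt ((lWords k).idxOf [0]) 168 && Nat.blt ((lWords k).idxOf [2]) 168) = true := by decide +kernel

theorem oact_ok : ((List.range 2).all fun k => decide ((oAct k).length = 4) && (List.range 4).all fun i =>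
    Nat.blt ((oAct k).getD i 0) 16 && eqW (conjW [6] (el k (2 ^ i))) (el k ((oAct k).getD i 0))) = true ∧
    lin (oAct 0) 1 ≠ 1 := by decide +kernel

theorem coset_words : ((List.range 8).all fun j =>
    let w := Dat.cosetWords.getD j []
    decide ((Dat.cosetReps.getD j []).length = 4) && w.tail.all (fun x => Nat.blt x 3) &&
      if w.headD 0 = 1 then decide (wAct (Dat.cosetReps.getD j []) w.tail = oAct 0)
      else Nat.beq (lin (wAct (Dat.cosetReps.getD j []) w.tail) 1) 1 &&
        !(lActs 0).contains (wAct (Dat.cosetReps.getD j []) w.tail)) = true := by decide +kernel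

theorem second_norm : ((List.range 4).all fun b => (List.range 16).all fun j => (List.range 16).any fun j' =>
    eqW (conjW (el 1 (2 ^ b)) (el 0 j)) (el 0 j')) = true := by decide +kernel

/-- The conjugate of a complement word by an element of the second group. -/
def glueW (e i : ℕ) : List ℕ := conjW (el 1 e) ((cmpl 1).getD i [])

theorem glue_ok : ((List.range 16).all fun e => [0, 1, 14, 15].contains e ||
    let d := Dat.glue.getD e []
    let v := conjW (el 1 e) (lw 1 (d.headD 0))
    Nat.blt (d.headD 0) 168 && cWord d.tail && eqW (conjW [6] v) d.tail &&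
      !Nat.beq (apW d.tail (apW (el 1 e) (Dat.fixPt.getD 1 0))) (apW (el 1 e) (Dat.fixPt.getD 1 0)) &&
      (List.range 4).all fun b => ((List.range 16).any fun j => eqW (conjW v (el 0 (2 ^ b))) (el 0 j)) &&
        (List.range 16).any fun j => eqW (conjW d.tail (el 0 (2 ^ b))) (el 0 j)) = true := by decide +kernel

theorem glue_good : ((List.range 2).all fun e => (List.range 2).all fun i =>
    eqW (glueW e i) ((cmpl 1).getD i [])) = true ∧
    ((List.range' 14 2).all fun e => (List.range 2).all fun i => cWord ((atG 4).getD i []) &&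
      eqW (glueW e i) ((atG 4).getD i [])) = true := by decide +kernel

theorem atoms_ok : atG 0 = [[0], [2], [4]] ∧ atM 0 = atG 0 ∧
    atG 1 = [0, 2, 6].map (fun x => [x]) ++ bas 0 ∧ atM 1 = atG 1 ∧
    atG 2 = cmpl 1 ++ [[6]] ++ bas 1 ∧ atM 2 = atG 2 ∧
    atM 4 = atG 2 ∧ (atG 4).drop 2 = (atM 4).drop 2 ∧ (atG 4).length = 7 ∧ cmpl 0 = [[0], [2]] ∧
    cWord Dat.conjWord = true ∧ (atG 3).length = 7 ∧ (atM 3).length = 7 ∧
    ((List.range 7).all fun i =>
      decide (Enum.red (conjW Dat.conjWord ((atG 1).getD i [])) = Enum.red ((atG 3).getD i [])) &&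
      decide (Enum.red (conjW Dat.conjWord ((atM 1).getD i [])) = Enum.red ((atM 3).getD i []))) = true := by
  decide +kernel

theorem sub_atoms : ((List.range 3).all fun i =>
    decide (Enum.red (Enum.expW (atG 1) (Dat.subAtoms.getD i [])) = Enum.red (Dat.subWords.getD i []))) = true ∧
    ((List.range 2).all fun i => (Dat.subAtoms.getD i []).all fun x => Nat.blt x 6) = true ∧
    ((List.range 16).any fun j => eqW (Dat.subWords.getD 2 []) (el 0 j)) = true ∧
    ((List.range 2).all fun i => (List.range 16).all fun j => (List.range 16).any fun j' =>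
      eqW (conjW (Dat.subWords.getD i []) (el 0 j)) (el 0 j')) = true ∧
    Dat.subWords.length = 5 ∧ (Dat.subWords.all fun w => w.all fun x => Nat.blt x 8) = true := by decide +kernel

theorem six_ok : Dat.six.length = 360 ∧ Dat.six.contains bs = true ∧
    ((List.range 360).all fun n => (List.range 2).all fun i =>
      Dat.six.contains ((Dat.six.getD n []).map fun p => apW (Dat.subWords.getD i []) p)) = true := by
  decide +kernel

theorem bad_root : Bad.cert.facts.get Bad.root % 2 ^ 8 = 6 ∧
    CfsgLib.CosetEnum.fld (Bad.cert.facts.get Bad.root) 0 8 = 6 ∧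
    CfsgLib.CosetEnum.fld (Bad.cert.facts.get Bad.root) 8 16 = 0 ∧
    CfsgLib.CosetEnum.fld (Bad.cert.facts.get Bad.root) 24 16 = 0 ∧ Bad.root < Bad.cert.nf := by decide +kernel

end CfsgMcLChar
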