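import Cfsg.Agent.Lib.McLChar.Model
import Cfsg.Agent.Lib.McLChar.ExtraChecks

/-!
The cosets of the complement among the maps moving the fixed vector.
-/

set_option autoImplicit false
set_option maxRecDepth 100000
set_option maxHeartbeats 4000000

namespace CfsgMcLChar

theorem coset_ok : ((List.range 16).all fun a => (List.range 16).all fun b => (List.range 16).all fun c =>
    CfsgLib.CosetEnum.force (((Dat.cosetTab.getD a []).getD b []).getD c 0) fun v =>
      if v = 0 then (List.range' 1 15).any fun j => Nat.beq (lin [(oAct 0).getD 0 0, a, b, c] j) 0
      else Nat.blt ((v - 1) / 8) 168 &&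
        decide (comp [(oAct 0).getD 0 0, a, b, c] ((lActs 0).getD ((v - 1) / 8) []) =
          Dat.cosetReps.getD ((v - 1) % 8) [])) = true := by
  decide +kernel

end CfsgMcLChar
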