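import Cfsg.Agent.Lib.McLChar.Engine

/-!
Words in named subwords, and derivations of relators inside local subgroups of a product with a model.
-/

set_option autoImplicit false

namespace CfsgMcLChar.Enum

/-- Free reduction. -/
def red : List ℕ → List ℕ
  | [] => []
  | x :: w => match red w with
    | [] => [x]
    | y :: v => if Nat.beq (flipL x) y then v else x :: y :: v

/-- A word in named subwords. -/
def expW (A : List (List ℕ)) : List ℕ → List ℕ
  | [] => []
  | x :: w => (if x % 2 = 0 then A.getD (x / 2) [] else winv (A.getD (x / 2) [])) ++ expW A w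

/-- A step of a derivation: inside group `grp` the subword `lhs` is replaced by `rhs`. -/
structure Step where
  /-- the group -/
  grp : ℕ
  /-- the packed prefix -/
  pre : ℕ
  /-- the old middle, in the named subwords of the group -/
  lhs : ℕ
  /-- the new middle -/
  rhs : ℕ
  /-- the packed suffix -/
  post : ℕ

/-- The check of a derivation of `cur`, given the two lists of named subwords of each group and a test of equality. -/
def derivB (AG AM : ℕ → List (List ℕ)) (eqM : List ℕ → List ℕ → Bool) : List ℕ → List Step → Bool
  | cur, [] => (red cur).isEmpty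
  | cur, s :: ss => decide (red (unp s.pre ++ expW (AG s.grp) (unp s.lhs) ++ unp s.post) = red cur) &&
      eqM (expW (AM s.grp) (unp s.lhs)) (expW (AM s.grp) (unp s.rhs)) &&
      derivB AG AM eqM (red (unp s.pre ++ expW (AG s.grp) (unp s.rhs) ++ unp s.post)) ss

noncomputable section Sound

variable {G : Type*} [Group G] {Γ : Type*} [Group Γ]

theorem evW_map {F : Type*} [FunLike F G Γ] [MonoidHomClass F G Γ] (φ : F) (L : List G) (w : List ℕ) :
    evW (L.map φ) w = φ (evW L w) := by
  induction w with
  | nil => simp [evW]
  | cons x w ih =>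
    rw [evW_cons, evW_cons, map_mul, ih]
    congr 1
    unfold letG
    split_ifs <;> simp [List.getD_eq_getElem?_getD, List.getElem?_map] <;> cases L[x / 2]? <;> simp

theorem evW_red (L : List G) (w : List ℕ) : evW L (red w) = evW L w := by
  induction w with
  | nil => rfl
  | cons x w ih =>
    rw [evW_cons, ← ih, red]
    rcases red w with _ | ⟨y, v⟩
    · rw [evW_one, evW_nil, mul_one]
    · dsimp only
      split
      · next h =>
        rw [evW_cons, ← Nat.eq_of_beq_eq_true h, letG_flip, mul_inv_cancel_left]
      · rw [evW_cons]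

theorem evW_eq_of_red (L : List G) {u v : List ℕ} (h : red u = red v) : evW L u = evW L v := by
  rw [← evW_red L u, h, evW_red]

theorem evW_exp (L : List G) (A : List (List ℕ)) (w : List ℕ) : evW L (expW A w) = evW (A.map (evW L)) w := by
  induction w with
  | nil => rfl
  | cons x w ih =>
    rw [expW, evW_append, ih, evW_cons]
    congr 1
    unfold letG
    split_ifs with h
    all_goals
      simp only [List.getD_eq_getElem?_getD, List.getElem?_map]
      cases A[x / 2]? <;> simp [evW_winv] <;> rfl

/-- An evaluation of letters lands in a subgroup containing them. -/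
theorem evW_mem {H : Subgroup G} {L : List G} (h : ∀ g ∈ L, g ∈ H) (w : List ℕ) : evW L w ∈ H := by
  induction w with
  | nil => exact H.one_mem
  | cons x w ih =>
    rw [evW_cons]
    refine H.mul_mem ?_ ih
    have hm : L.getD (x / 2) 1 ∈ H := by
      rcases lt_or_ge (x / 2) L.length with hl | hl
      · rw [List.getD_eq_getElem _ _ hl]; exact h _ (List.getElem_mem hl)
      · rw [List.getD_eq_default _ _ hl]; exact H.one_mem
    unfold letG
    split_ifs
    exacts [hm, H.inv_mem hm]

/-- A local group: pairs of named values lie in a subgroup whose projection to the model is injective. -/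
def LocalOK (LG : List G) (LM : List Γ) (AG AM : List (List ℕ)) : Prop :=
  ∃ H : Subgroup (G × Γ), (∀ p ∈ H, p.2 = 1 → p.1 = 1) ∧ AG.length = AM.length ∧
    ∀ i < AG.length, (evW LG (AG.getD i []), evW LM (AM.getD i [])) ∈ H

theorem LocalOK.eq {LG : List G} {LM : List Γ} {AG AM : List (List ℕ)} (h : LocalOK LG LM AG AM) {u v : List ℕ}
    (e : evW LM (expW AM u) = evW LM (expW AM v)) : evW LG (expW AG u) = evW LG (expW AG v) := by
  obtain ⟨H, hinj, hlen, hat⟩ := h
  let P : List (G × Γ) := List.zip (AG.map (evW LG)) (AM.map (evW LM))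
  have hP : ∀ p ∈ P, p ∈ H := by
    intro p hp
    obtain ⟨i, hi, rfl⟩ := List.getElem_of_mem hp
    have hi' : i < AG.length := by simpa [P, hlen] using hi
    have hi2 : i < AM.length := hlen ▸ hi'
    have h := hat i hi'
    rw [List.getD_eq_getElem _ _ hi', List.getD_eq_getElem _ _ hi2] at h
    simpa [P] using h
  have h1 : P.map (MonoidHom.fst G Γ) = AG.map (evW LG) := by
    show P.map Prod.fst = _
    exact List.map_fst_zip (by simp [hlen])
  have h2 : P.map (MonoidHom.snd G Γ) = AM.map (evW LM) := by
    show P.map Prod.snd = _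
    exact List.map_snd_zip (by simp [hlen])
  have hfst : ∀ w, (evW P w).1 = evW LG (expW AG w) := fun w => by
    rw [evW_exp, ← h1, evW_map]; rfl
  have hsnd : ∀ w, (evW P w).2 = evW LM (expW AM w) := fun w => by
    rw [evW_exp, ← h2, evW_map]; rfl
  have := hinj _ (H.mul_mem (evW_mem hP u) (H.inv_mem (evW_mem hP v)))
    (by rw [Prod.snd_mul, Prod.snd_inv, hsnd, hsnd, e, mul_inv_cancel])
  rw [Prod.fst_mul, Prod.fst_inv, hfst, hfst, mul_inv_eq_one] at this
  exact this

/-- A derivation proves a relator. -/
theorem derivB_sound {LG : List G} {LM : List Γ} {AG AM : ℕ → List (List ℕ)} {eqM : List ℕ → List ℕ → Bool}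
    (heq : ∀ u v, eqM u v = true → evW LM u = evW LM v) :
    ∀ {ss : List Step}, (∀ s ∈ ss, LocalOK LG LM (AG s.grp) (AM s.grp)) → ∀ {cur : List ℕ},
      derivB AG AM eqM cur ss = true → evW LG cur = 1 := by
  intro ss
  induction ss with
  | nil =>
    intro _ cur h
    simp only [derivB, List.isEmpty_iff] at h
    rw [← evW_red, h, evW_nil]
  | cons s ss ih =>
    intro hloc cur h
    simp only [derivB, Bool.and_eq_true, decide_eq_true_eq] at h
    obtain ⟨⟨h1, h2⟩, h3⟩ := h
    have h4 := ih (fun s' hs' => hloc s' (List.mem_cons_of_mem _ hs')) h3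
    rw [evW_red] at h4
    rw [evW_eq_of_red LG h1.symm, ← h4]
    simp only [evW_append]
    rw [(hloc s List.mem_cons_self).eq (heq _ _ h2)]

end Sound

end CfsgMcLChar.Enum
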