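import Cfsg.Agent.Lib.McLChar.ModelChecks
import Mathlib.GroupTheory.GroupAction.Quotient

/-!
The two groups of order 16 in the centraliser of an involution of McL: elements, conjugates, normalisers.
-/

set_option autoImplicit false
set_option maxRecDepth 100000

namespace CfsgMcLChar

open Subgroup Equiv CfsgLib.McLInvol CfsgPC CfsgLeech.Models
open CfsgMcLChar.Enum (evW letG)

attribute [local irreducible] fixChain invT centGens sylGens sylChain mclRigid

theorem code_facts {i : ℕ} (hi : i < 4) : isPerm 275 (Dat.codes.getD (2 * i) 0) (Dat.codes.getD (2 * i + 1) 0) = true ∧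
    sift 275 fixChain (Dat.codes.getD (2 * i) 0) = true := by
  have h := List.all_eq_true.mp codes_ok i (List.mem_range.mpr hi)
  rwa [Bool.and_eq_true] at h

theorem gen_val {i : ℕ} (hi : i < 4) : ((gen i : McLP) : Perm (Fin 275)) = decP 275 (Dat.codes.getD (2 * i) 0) := by
  unfold gen
  rw [dif_pos (mem_sift (code_facts hi).1 (code_facts hi).2)]

theorem gen_ap {i : ℕ} (hi : i < 4) (p : Fin 275) : ap (Dat.codes.getD (2 * i) 0) p = ((gen i).1 p : ℕ) := by
  rw [gen_val hi]; exact decP_rep (code_facts hi).1 p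

theorem gen_ap_inv {i : ℕ} (hi : i < 4) (p : Fin 275) :
    ap (Dat.codes.getD (2 * i + 1) 0) p = ((gen i).1⁻¹ p : ℕ) := by
  have h := (code_facts hi).1
  simp only [isPerm, List.all_eq_true, List.mem_range, Bool.and_eq_true, Nat.blt_eq] at h
  obtain ⟨⟨⟨-, hlt⟩, h1⟩, -⟩ := h p p.2
  have : (gen i).1⁻¹ p = ⟨_, hlt⟩ := by
    rw [Perm.inv_def, Equiv.symm_apply_eq]
    exact Fin.ext (((Nat.eq_of_beq_eq_true h1).symm.trans (gen_ap hi ⟨_, hlt⟩)))
  rw [this]

theorem gM_getD {n : ℕ} : gM.getD n 1 = if n < 4 then gen n else 1 := by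
  rcases n with _ | _ | _ | _ | n <;> simp [gM]

theorem apL_spec (x : ℕ) (p : Fin 275) : apL x p = ((letG gM x).1 p : ℕ) := by
  unfold apL letG
  rw [gM_getD]
  rcases Nat.mod_two_eq_zero_or_one x with hx | hx <;> by_cases h8 : x < 8
  · rw [if_pos h8, if_pos hx, if_pos (by omega), show x = 2 * (x / 2) by omega, gen_ap (by omega),
      show 2 * (x / 2) / 2 = x / 2 by omega]
  · rw [if_neg h8, if_pos hx, if_neg (by omega)]; rfl
  · rw [if_pos h8, if_neg (by omega), if_pos (by omega), show x = 2 * (x / 2) + 1 by omega, gen_ap_inv (by omega),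
      show (2 * (x / 2) + 1) / 2 = x / 2 by omega]
    rfl
  · rw [if_neg h8, if_neg (by omega), if_neg (by omega), inv_one]; rfl

theorem apW_spec (w : List ℕ) (p : Fin 275) : apW w p = ((evW gM w).1 p : ℕ) := by
  induction w with
  | nil => rfl
  | cons x w ih =>
    show apL x (apW w p) = _
    rw [ih, apL_spec, Enum.evW_cons]
    rfl

theorem bs_lt : ∀ b ∈ bs, b < 275 := by decide

theorem eqW_iff {u v : List ℕ} : eqW u v = true ↔ evW gM u = evW gM v := by
  unfold eqW
  rw [List.all_eq_true]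
  constructor
  · intro h
    refine Subtype.ext (agree (evW gM u).2 (evW gM v).2 fun i hi => Fin.ext ?_)
    rw [← apW_spec, ← apW_spec]
    exact Nat.eq_of_beq_eq_true (h i hi)
  · intro h b hb
    have e1 := apW_spec u ⟨b, bs_lt b hb⟩
    have e2 := apW_spec v ⟨b, bs_lt b hb⟩
    rw [h] at e1
    simp only at e1 e2
    rw [e1, e2]
    exact Nat.beq_refl _

theorem eqW_false {u v : List ℕ} (h : (!eqW u v) = true) : evW gM u ≠ evW gM v := by
  intro e
  rw [eqW_iff.mpr e] at h
  exact Bool.false_ne_true h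

theorem gen_comm {i : ℕ} (hi : i < 3) : gen i ∈ Cent := by
  refine mem_centralizer_singleton_iff.mpr (Subtype.ext (Equiv.ext fun p => Fin.ext ?_))
  show ((gen i).1 (tau.1 p) : ℕ) = (tau.1 ((gen i).1 p) : ℕ)
  rw [← gen_ap (by omega), ← tau_ap, ← tau_ap, ← gen_ap (by omega)]
  exact Nat.eq_of_beq_eq_true (List.all_eq_true.mp (List.all_eq_true.mp gens_comm i (List.mem_range.mpr hi)) p
    (List.mem_range.mpr p.2))

theorem gC_map : gC.map (Subgroup.subtype Cent) = [gen 0, gen 1, gen 2] := by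
  simp [gC, gen_comm]

theorem cWord_iff {w : List ℕ} : cWord w = true ↔ ∀ x ∈ w, x < 6 := by
  simp [cWord, List.all_eq_true]

theorem evC_val {w : List ℕ} (h : cWord w = true) : ((evC w : Cent) : McLP) = evW gM w := by
  show Subgroup.subtype Cent (evW gC w) = _
  rw [← Enum.evW_map, gC_map]
  unfold evW
  refine congrArg List.prod (List.map_congr_left fun x hx => ?_)
  have hx6 := cWord_iff.mp h x hx
  unfold letG
  rw [gM_getD, if_pos (by omega : x / 2 < 4)]
  rcases (by omega : x / 2 = 0 ∨ x / 2 = 1 ∨ x / 2 = 2) with e | e | e <;> rw [e] <;> rfl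

theorem evC_eq {u v : List ℕ} (hu : cWord u = true) (hv : cWord v = true) (h : eqW u v = true) : evC u = evC v :=
  Subtype.ext (by rw [evC_val hu, evC_val hv]; exact eqW_iff.mp h)

theorem cWord_append {u v : List ℕ} (hu : cWord u = true) (hv : cWord v = true) : cWord (u ++ v) = true := by
  simp [cWord, List.all_append] at hu hv ⊢
  exact ⟨hu, hv⟩

theorem cWord_winv {u : List ℕ} (hu : cWord u = true) : cWord (Enum.winv u) = true := by
  rw [cWord_iff] at hu ⊢
  intro x hx
  obtain ⟨y, hy, rfl⟩ := List.mem_map.mp hx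
  have := hu y (List.mem_reverse.mp hy)
  unfold Enum.flipL
  split <;> omega

theorem cWord_conjW {c w : List ℕ} (hc : cWord c = true) (hw : cWord w = true) : cWord (conjW c w) = true :=
  cWord_append (cWord_append hc hw) (cWord_winv hc)

theorem evC_conjW (c w : List ℕ) : evC (conjW c w) = evC c * evC w * (evC c)⁻¹ := by
  simp [evC, conjW, Enum.evW_append, Enum.evW_winv, mul_assoc]

theorem words_k {k : ℕ} (hk : k < 2) : (∀ w ∈ bas k, cWord w = true) ∧ (∀ w ∈ cmpl k, cWord w = true) ∧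
    (∀ w ∈ reps k, cWord w = true) ∧ (bas k).length = 4 ∧ (cmpl k).length = 2 ∧ (lWords k).length = 168 ∧
    (lActs k).length = 168 ∧ (reps k).length = 15 ∧ ∀ w ∈ lWords k, ∀ x ∈ w, x < 4 := by
  have h := List.all_eq_true.mp words_c k (List.mem_range.mpr hk)
  simp only [Bool.and_eq_true, List.all_eq_true, decide_eq_true_eq, Nat.blt_eq] at h
  obtain ⟨⟨⟨⟨⟨⟨⟨⟨a, b⟩, c⟩, d⟩, e⟩, f⟩, g⟩, i⟩, j⟩ := h
  exact ⟨a, b, c, d, e, f, g, i, j⟩

theorem cWord_getD {L : List (List ℕ)} (h : ∀ w ∈ L, cWord w = true) (i : ℕ) : cWord (L.getD i []) = true := by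
  rcases lt_or_ge i L.length with hi | hi
  · rw [List.getD_eq_getElem _ _ hi]; exact h _ (List.getElem_mem hi)
  · rw [List.getD_eq_default _ _ hi]; rfl

theorem cWord_el {k : ℕ} (hk : k < 2) (j : ℕ) : cWord (el k j) = true := by
  rw [cWord_iff]
  intro x hx
  simp only [el, List.mem_flatMap] at hx
  obtain ⟨i, -, hx⟩ := hx
  split at hx
  · exact cWord_iff.mp (cWord_getD (words_k hk).1 i) x hx
  · cases hx

theorem cWord_expW {A : List (List ℕ)} (hA : ∀ w ∈ A, cWord w = true) (w : List ℕ) :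
    cWord (Enum.expW A w) = true := by
  induction w with
  | nil => rfl
  | cons x w ih =>
    refine cWord_append ?_ ih
    split
    exacts [cWord_getD hA _, cWord_winv (cWord_getD hA _)]

theorem cWord_lw {k : ℕ} (hk : k < 2) (l : ℕ) : cWord (lw k l) = true := cWord_expW (words_k hk).2.1 _

/-- An element of a group of order 16. -/
noncomputable def Ev (k j : ℕ) : Cent := evC (el k j)

/-- An element of a complement. -/
noncomputable def Lv (k l : ℕ) : Cent := evC (lw k l)

/-- A representative of a conjugate. -/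
noncomputable def Rv (k i : ℕ) : Cent := evC ((reps k).getD i [])

theorem Ev_mul {k i j : ℕ} (hk : k < 2) (hi : i < 16) (hj : j < 16) : Ev k i * Ev k j = Ev k (i ^^^ j) := by
  have h := List.all_eq_true.mp (List.all_eq_true.mp (List.all_eq_true.mp el_mul_ok k (List.mem_range.mpr hk)) i
    (List.mem_range.mpr hi)) j (List.mem_range.mpr hj)
  rw [Bool.and_eq_true] at h
  rw [Ev, Ev, evC, evC, ← Enum.evW_append]
  exact evC_eq (cWord_append (cWord_el hk i) (cWord_el hk j)) (cWord_el hk _) h.1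

theorem Ev_inj {k i j : ℕ} (hk : k < 2) (hi : i < 16) (hj : j < 16) (e : Ev k i = Ev k j) : i = j := by
  have h := List.all_eq_true.mp (List.all_eq_true.mp (List.all_eq_true.mp el_mul_ok k (List.mem_range.mpr hk)) i
    (List.mem_range.mpr hi)) j (List.mem_range.mpr hj)
  rw [Bool.and_eq_true, Bool.or_eq_true] at h
  rcases h.2 with h' | h'
  · exact Nat.eq_of_beq_eq_true h'
  · refine absurd ?_ (eqW_false h')
    rw [← evC_val (cWord_el hk i), ← evC_val (cWord_el hk j)]
    exact congrArg Subtype.val e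

theorem Ev_zero (k : ℕ) : Ev k 0 = 1 := by
  have : el k 0 = [] := by simp [el]
  rw [Ev, this]; rfl

theorem Ev_self {k i : ℕ} (hk : k < 2) (hi : i < 16) : Ev k i * Ev k i = 1 := by
  rw [Ev_mul hk hi hi, Nat.xor_self, Ev_zero]

theorem xor_lt {i j : ℕ} (hi : i < 16) (hj : j < 16) : i ^^^ j < 16 := Nat.xor_lt_two_pow (n := 4) hi hj

/-- A group of order 16. -/
noncomputable def grp (k : ℕ) (hk : k < 2) : Subgroup Cent where
  carrier := {g | ∃ j < 16, g = Ev k j}
  one_mem' := ⟨0, by omega, (Ev_zero k).symm⟩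
  mul_mem' := by
    rintro _ _ ⟨i, hi, rfl⟩ ⟨j, hj, rfl⟩
    exact ⟨_, xor_lt hi hj, Ev_mul hk hi hj⟩
  inv_mem' := by
    rintro _ ⟨i, hi, rfl⟩
    exact ⟨i, hi, inv_eq_of_mul_eq_one_right (Ev_self hk hi)⟩

theorem card_grp {k : ℕ} (hk : k < 2) : Nat.card (grp k hk) = 16 := by
  rw [Nat.card_congr (Equiv.ofBijective (fun j : Fin 16 => (⟨Ev k j, j, j.2, rfl⟩ : grp k hk)) ⟨fun a b e =>
    Fin.ext (Ev_inj hk a.2 b.2 (congrArg Subtype.val e)), fun ⟨g, j, hj, e⟩ => ⟨⟨j, hj⟩, Subtype.ext e.symm⟩⟩).symm,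
    Nat.card_eq_fintype_card, Fintype.card_fin]

theorem Ev_one (k : ℕ) (hk : k < 2) : Ev k 1 = tauC := by
  obtain ⟨-, -, h0, h1⟩ := tau_ok
  refine Subtype.ext ((evC_val (cWord_el hk 1)).trans (Subtype.ext (agree (evW gM _).2 tau.2 fun i hi => Fin.ext ?_)))
  rw [← apW_spec, show tauC.1 = tau from rfl, ← tau_ap]
  rcases (by omega : k = 0 ∨ k = 1) with rfl | rfl
  · exact Nat.eq_of_beq_eq_true (List.all_eq_true.mp h0 i hi)
  · exact Nat.eq_of_beq_eq_true (List.all_eq_true.mp h1 i hi)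

theorem closure_gC : Subgroup.closure {g | g ∈ gC} = (⊤ : Subgroup Cent) := by
  set S : Subgroup Cent := Subgroup.closure {g | g ∈ gC}
  have hmem : ∀ w, evC w ∈ S := Enum.evW_mem fun g hg => subset_closure hg
  have htau : tauC ∈ S := by rw [← Ev_one 0 (by omega)]; exact hmem _
  obtain ⟨hcw, hlen⟩ := cent_words
  obtain ⟨hker, ⟨e⟩, -⟩ := structure_cent
  have hsub : genG 35 (imGens.map Prod.fst) ≤ S.map onFix := by
    rw [genG, Subgroup.closure_le]
    rintro p ⟨c, hc, hp⟩
    obtain ⟨j, hj, rfl⟩ := List.getElem_of_mem hc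
    rw [List.length_map] at hj
    have hj2 : j < 2 := cent_ok.2.2 ▸ hj
    have h := List.all_eq_true.mp hcw j (List.mem_range.mpr (hlen ▸ hj2))
    rw [Bool.and_eq_true] at h
    refine ⟨evC (Dat.centWords.getD j []), hmem _, onFix_eq fun i => Fin.ext ?_⟩
    have hi : (((evC (Dat.centWords.getD j []) : Cent) : McLP).1 (fp i) : ℕ) = ap (centGens.getD j (0, 0)).1 (fp i) := by
      rw [evC_val h.1, ← apW_spec]
      exact Nat.eq_of_beq_eq_true (List.all_eq_true.mp h.2 (fp i) (List.mem_range.mpr (fp i).2))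
    rw [hi]
    have h2 := List.all_eq_true.mp (List.all_eq_true.mp im_ok j (List.mem_range.mpr hj2)) i (List.mem_range.mpr i.2)
    rw [List.getD_eq_getElem (l := imGens) _ hj] at h2
    rw [List.getElem_map] at hp
    show _ = fixPts.getD (p i) 0
    rw [← hp i]
    exact Nat.eq_of_beq_eq_true h2
  obtain ⟨e8⟩ := eight_iso
  refine eq_top_iff.mpr fun g _ => ?_
  have hI : Nat.card (genG 35 (imGens.map Prod.fst)) = 20160 := by
    rw [← Nat.card_congr e8.toEquiv, nat_card_alternatingGroup, Nat.card_fin]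
    decide
  have hr : Nat.card onFix.range ≤ 20160 := by
    rw [Nat.card_congr e.toEquiv, nat_card_alternatingGroup, Nat.card_fin]
    decide
  have heq : S.map onFix = onFix.range := by
    refine Subgroup.eq_of_le_of_card_ge (Subgroup.map_le_range _ _) (hr.trans (hI ▸ ?_))
    exact Nat.card_le_card_of_injective _ (Subgroup.inclusion_injective hsub)
  have hg : onFix g ∈ S.map onFix := by rw [heq]; exact ⟨g, rfl⟩
  obtain ⟨s, hs, hse⟩ := hg
  rcases hker (s⁻¹ * g) (by rw [map_mul, map_inv, hse, inv_mul_cancel]) with h | h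
  · rw [inv_mul_eq_one.mp h] at hs; exact hs
  · rw [inv_mul_eq_iff_eq_mul] at h
    rw [h]; exact S.mul_mem hs htau

theorem closure_gM : Subgroup.closure {g | g ∈ gM} = (⊤ : Subgroup McLP) := by
  set S : Subgroup McLP := Subgroup.closure {g | g ∈ gM}
  have hle : McLP ≤ S.map McLP.subtype := by
    refine (Subgroup.closure_le _).2 ?_
    rintro p ⟨c, hc, hp⟩
    obtain ⟨j, hj, rfl⟩ := List.getElem_of_mem hc
    refine ⟨evW gM (Dat.modelWords.getD j []), Enum.evW_mem (fun g hg => subset_closure hg) _,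
      Equiv.ext fun i => Fin.ext ?_⟩
    show ((evW gM _).1 i : ℕ) = _
    rw [← apW_spec, ← hp i]
    have h := List.all_eq_true.mp (List.all_eq_true.mp model_words j (List.mem_range.mpr hj)) i
      (List.mem_range.mpr i.2)
    rw [List.getD_eq_getElem (l := mclRigid.gens) _ hj] at h
    exact Nat.eq_of_beq_eq_true h
  refine eq_top_iff.mpr fun g _ => ?_
  obtain ⟨s, hs, hse⟩ := hle g.2
  rwa [← show s = g from Subtype.ext hse]

theorem lact_get {k l : ℕ} (hk : k < 2) (hl : l < 168) {i : ℕ} (hi : i < 4) :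
    ((lActs k).getD l []).getD i 0 < 16 ∧
      Lv k l * Ev k (2 ^ i) * (Lv k l)⁻¹ = Ev k (((lActs k).getD l []).getD i 0) := by
  have h := List.all_eq_true.mp (List.all_eq_true.mp (List.all_eq_true.mp lact_ok k (List.mem_range.mpr hk)) l
    (List.mem_range.mpr hl)) i (List.mem_range.mpr hi)
  rw [Bool.and_eq_true, Nat.blt_eq] at h
  refine ⟨h.1, ?_⟩
  rw [Lv, Ev, ← evC_conjW]
  exact evC_eq (cWord_conjW (cWord_lw hk l) (cWord_el hk _)) (cWord_el hk _) h.2

end CfsgMcLChar
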