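import Cfsg.Agent.Lib.McLChar.ElevenChecks
import Cfsg.Agent.Lib.McLChar.ModelFacts
import Mathlib.GroupTheory.Sylow

/-!
No element of order 11 of McL commutes with one of order 5.
-/

set_option autoImplicit false
set_option maxRecDepth 100000

namespace CfsgMcLChar

open Subgroup Equiv CfsgLib.McLInvol CfsgPC CfsgLeech.Models
open CfsgLib.McLMult (gcFive wordsFive)

attribute [local irreducible] fixChain invT centGens sylGens sylChain mclRigid gcFive wordsFive Dat.adj Dat.fiveNext
  Dat.codes

/-- The elements preserving the relation. -/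
noncomputable def relStab : Subgroup McLP where
  carrier := {g | ∀ i j : Fin 275, relB (g.1 i) (g.1 j) = relB i j}
  one_mem' := fun _ _ => rfl
  mul_mem' := fun {a b} ha hb i j => (ha _ _).trans (hb i j)
  inv_mem' := fun {g} hg i j => by
    have h := hg (g.1⁻¹ i) (g.1⁻¹ j)
    simp only [Perm.inv_def, Equiv.apply_symm_apply] at h
    exact h.symm

theorem rel_inv (g : McLP) (i j : Fin 275) : relB (g.1 i) (g.1 j) = relB i j := by
  suffices h : (⊤ : Subgroup McLP) ≤ relStab from h (Subgroup.mem_top g) i j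
  rw [← closure_gM, Subgroup.closure_le]
  intro x hx
  obtain ⟨n, hn, rfl⟩ := List.getElem_of_mem hx
  have hn4 : n < 4 := by simpa [gM] using hn
  rw [← List.getD_eq_getElem _ 1 hn, gM_getD, if_pos hn4]
  intro i j
  have key : adjOK n 0 275 = true := by
    rcases (by omega : n = 0 ∨ n = 1 ∨ n = 2 ∨ n = 3) with rfl | rfl | rfl | rfl
    exacts [adj0, adj1, adj2, adj3]
  have h := List.all_eq_true.mp key i (List.mem_range'_1.mpr ⟨Nat.zero_le _, by simp [i.2]⟩)
  simp only [Enum.force_eq, List.all_eq_true, List.mem_range, beq_iff_eq] at h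
  have h' := h j j.2
  rw [gen_ap hn4, gen_ap hn4] at h'
  exact h'.symm

theorem free_eleven {g : McLP} (hg : orderOf g = 11) (i : Fin 275) : g.1 i ≠ i := by
  intro e
  let r := CfsgLib.McLMult.tr i
  have hr : r.1 0 = i := CfsgLib.McLMult.tr_spec i
  have hmem : r⁻¹ * g * r ∈ MulAction.stabilizer CfsgLib.McLMult.M (0 : Fin 275) := by
    show r.1⁻¹ (g.1 (r.1 0)) = 0
    rw [hr, e, ← hr, Perm.inv_def, Equiv.symm_apply_apply]
  have h := Subgroup.orderOf_dvd_natCard _ hmem
  rw [CfsgLib.McLMult.card_stab] at h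
  have e : orderOf (r⁻¹ * g * r) = 11 := by
    have := MulEquiv.orderOf_eq (MulAut.conj r⁻¹) g
    rw [MulAut.conj_apply, inv_inv] at this
    exact this.trans hg
  rw [e] at h
  norm_num at h

open Classical in
/-- A value of a word in the generators of a Sylow 5-group. -/
noncomputable def five (w : List ℕ) : McLP :=
  (w.map fun a => if h : decP 275 ((gcFive.getD a (0, 0)).1) ∈ McLP then (⟨_, h⟩ : McLP) else 1).prod

theorem five_ap {w : List ℕ} (hw : ∀ a ∈ w, a < 3) (i : Fin 275) :
    CfsgPC.apW (gcFive.map Prod.fst) w i = ((five w).1 i : ℕ) := by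
  induction w with
  | nil => rfl
  | cons a w ih =>
    have ha : a < 3 := hw a List.mem_cons_self
    have h := List.all_eq_true.mp five_mem a (List.mem_range.mpr ha)
    rw [Bool.and_eq_true] at h
    show ap ((gcFive.map Prod.fst).getD a 0) (CfsgPC.apW _ w i) = _
    rw [ih fun b hb => hw b (List.mem_cons_of_mem _ hb),
      show (gcFive.map Prod.fst).getD a 0 = (gcFive.getD a (0, 0)).1 by
        simp [List.getD_eq_getElem?_getD, List.getElem?_map]; cases gcFive[a]? <;> rfl,
      decP_rep h.1]
    simp only [five, List.map_cons, List.prod_cons]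
    rw [dif_pos (mem_sift h.1 h.2)]
    rfl

theorem word_lt {n : ℕ} (hn : n < 125) : ∀ a ∈ wordsFive.getD n [], a < 3 := fun a ha => by
  obtain ⟨hlen, -, hall, -⟩ := five_list
  rw [List.getD_eq_getElem _ _ (hlen.symm ▸ hn)] at ha
  exact Nat.le_of_ble_eq_true (List.all_eq_true.mp (List.all_eq_true.mp hall _ (List.getElem_mem _)) a ha)

/-- The elements of order five are in a conjugate of the listed group. -/
theorem exists_five : ∃ P : Subgroup McLP, Nat.card P = 125 ∧ ∀ x ∈ P, ∃ n < 125, x = five (wordsFive.getD n []) := by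
  classical
  obtain ⟨hlen, hnil, hall, hcl⟩ := five_list
  set W : Set McLP := Set.range fun n : Fin 125 => five (wordsFive.getD n [])
  have hstep : ∀ a < 3, ∀ x ∈ W, five [a] * x ∈ W := by
    rintro a ha _ ⟨n, rfl⟩
    have h := List.all_eq_true.mp (List.all_eq_true.mp hcl n (List.mem_range.mpr n.2)) a (List.mem_range.mpr ha)
    rw [Bool.and_eq_true, Nat.blt_eq] at h
    obtain ⟨hlt, hb⟩ := h
    refine ⟨⟨_, hlt⟩, ?_⟩
    have e : five (a :: wordsFive.getD n []) = five [a] * five (wordsFive.getD n []) := by simp [five]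
    show five (wordsFive.getD (Dat.fiveNext.getD (3 * n + a) 0) []) = _
    rw [← e]
    refine Subtype.ext (agree (five _).2 (five _).2 fun i hi => Fin.ext ?_)
    rw [← five_ap (word_lt hlt), ← five_ap]
    · exact (Nat.eq_of_beq_eq_true (List.all_eq_true.mp hb i hi)).symm
    · intro b hb'
      rcases List.mem_cons.mp hb' with rfl | hb'
      exacts [ha, word_lt n.2 b hb']
  have h1 : (1 : McLP) ∈ W := by
    obtain ⟨n, hn, e⟩ := List.getElem_of_mem hnil
    exact ⟨⟨n, hlen ▸ hn⟩, by show five _ = 1; rw [List.getD_eq_getElem _ _ hn, e]; rfl⟩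
  set P : Subgroup McLP := Subgroup.closure {g | ∃ a < 3, g = five [a]}
  have hsub : ∀ x ∈ P, ∀ y ∈ W, x * y ∈ W := by
    intro x hx
    induction hx using Subgroup.closure_induction with
    | mem g hg => obtain ⟨a, ha, rfl⟩ := hg; exact hstep a ha
    | one => intro y hy; rwa [one_mul]
    | mul x y _ _ hx hy => intro z hz; rw [mul_assoc]; exact hx _ (hy z hz)
    | inv x _ hx =>
      intro y hy
      obtain ⟨k, hk⟩ := mem_powers_iff_mem_zpowers.2 (Subgroup.inv_mem _ (Subgroup.mem_zpowers x))
      rw [← show x ^ k = x⁻¹ from hk]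
      clear hk
      induction k with
      | zero => rwa [pow_zero, one_mul]
      | succ k ih => rw [pow_succ', mul_assoc]; exact hx _ ih
  have hW : ∀ n : Fin 125, five (wordsFive.getD n []) ∈ P := fun n =>
    Subgroup.list_prod_mem _ fun g hg => by
      obtain ⟨a, ha, rfl⟩ := List.mem_map.mp hg
      exact Subgroup.subset_closure ⟨a, word_lt n.2 a ha, by simp [five]⟩
  have heq : (P : Set McLP) = W := Set.Subset.antisymm (fun x hx => by simpa using hsub x hx 1 h1)
    (by rintro _ ⟨n, rfl⟩; exact hW n)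
  refine ⟨P, ?_, fun x hx => ?_⟩
  · have hinj : Function.Injective fun n : Fin 125 => five (wordsFive.getD n []) := fun n m e => by
      have hn : (n : ℕ) < wordsFive.length := hlen.symm ▸ n.2
      have hm : (m : ℕ) < wordsFive.length := hlen.symm ▸ m.2
      refine Fin.ext ((five_distinct.getElem_inj_iff (hi := by simpa using hn) (hj := by simpa using hm)).mp ?_)
      simp only [List.getElem_map]
      rw [← List.getD_eq_getElem _ [] hn, ← List.getD_eq_getElem _ [] hm]
      refine List.foldl_ext _ _ _ fun r b hb => ?_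
      have e' := congrArg (fun g : McLP => (g.1 ⟨b, bs_lt b hb⟩ : ℕ)) e
      rw [← five_ap (word_lt n.2), ← five_ap (word_lt m.2)] at e'
      exact congrArg (r * 512 + ·) e'
    rw [show Nat.card P = (P : Set McLP).ncard from (Nat.card_coe_set_eq _), heq, Set.ncard_range_of_injective hinj,
      Nat.card_eq_fintype_card, Fintype.card_fin]
  · obtain ⟨n, rfl⟩ := (heq ▸ hx : x ∈ W)
    exact ⟨n, n.2, rfl⟩

theorem no55 {g x : McLP} (hg : orderOf g = 11) (hx : orderOf x = 5) : ¬ Commute g x := by
  classical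
  intro hc
  haveI : Fact (Nat.Prime 5) := ⟨by norm_num⟩
  haveI : Fact (Nat.Prime 11) := ⟨by norm_num⟩
  obtain ⟨P, hP, hPW⟩ := exists_five
  have hf : 5 ^ (Nat.card McLP).factorization 5 = 125 := by
    rw [mclP_card, show 898128000 = 5 ^ 3 * 7185024 by norm_num, Nat.factorization_mul (by norm_num) (by norm_num),
      Nat.Prime.factorization_pow (by norm_num), Finsupp.add_apply, Finsupp.single_eq_same,
      Nat.factorization_eq_zero_of_not_dvd (by norm_num)]
    rfl
  let S : Sylow 5 McLP := Sylow.ofCard P (hP.trans hf.symm)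
  obtain ⟨Q, hQ⟩ := (IsPGroup.of_card (n := 1) (by rw [Nat.card_zpowers, hx, pow_one]) :
    IsPGroup 5 (zpowers x)).exists_le_sylow
  obtain ⟨u, hu⟩ := MulAction.exists_smul_eq McLP Q S
  have hmem : MulAut.conj u x ∈ P := by
    have : MulAut.conj u • x ∈ (u • Q : Sylow 5 McLP).toSubgroup := by
      rw [Sylow.coe_subgroup_smul]
      exact Subgroup.smul_mem_pointwise_smul _ _ _ (hQ (mem_zpowers x))
    rw [hu] at this
    exact this
  obtain ⟨n, hn, he⟩ := hPW _ hmem
  set h := MulAut.conj u g
  have hh : orderOf h = 11 := (MulEquiv.orderOf_eq (MulAut.conj u) g).trans hg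
  set p := five (wordsFive.getD n [])
  have hcomm : Commute h p := he ▸ hc.map (MulAut.conj u)
  have hp : p ≠ 1 := by
    rw [← he]
    intro e
    rw [map_eq_one_iff _ (MulAut.conj u).injective] at e
    rw [e, orderOf_one] at hx
    omega
  obtain ⟨hlen, -, -, -⟩ := five_list
  have hcnt := List.all_eq_true.mp five_count _ (List.getElem_mem (hlen.symm ▸ hn))
  rw [← List.getD_eq_getElem _ [] _, Bool.or_eq_true] at hcnt
  rcases hcnt with hcnt | hcnt
  · exact hp (by rw [show p = five [] from congrArg five (List.isEmpty_iff.mp hcnt)]; rfl)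
  -- the related points are permuted freely
  let s : Finset (Fin 275) := Finset.univ.filter fun i => relB i (p.1 i) = true
  have hsinv : ∀ i, i ∈ s ↔ h.1 i ∈ s := fun i => by
    have e : p.1 (h.1 i) = h.1 (p.1 i) := congrArg (fun f : McLP => f.1 i) hcomm.eq.symm
    simp [s, e, rel_inv]
  let σ : Perm {i // i ∈ s} := (h.1).subtypePerm fun i => (hsinv i).symm
  have hσ : σ ^ 11 = 1 := by
    refine Equiv.ext fun i => Subtype.ext ?_
    rw [Equiv.Perm.subtypePerm_pow, Equiv.Perm.subtypePerm_apply]
    show (h.1 ^ 11) i.1 = i.1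
    rw [← SubgroupClass.coe_pow, ← hh, pow_orderOf_eq_one]
    rfl
  have hdvd : 11 ∣ s.card := by
    by_contra hnd
    obtain ⟨i, hi⟩ := Equiv.Perm.exists_fixed_point_of_prime (n := 1) (by simpa using hnd)
      (σ := σ) (by simpa using hσ)
    exact free_eleven hh i.1 (congrArg Subtype.val hi)
  have hcount : (List.range 275).countP (fun i => relB i (CfsgPC.apW (gcFive.map Prod.fst) (wordsFive.getD n []) i)) =
      s.card := by
    have e1 : s = (Finset.univ.filter fun i : Fin 275 =>
        relB i (CfsgPC.apW (gcFive.map Prod.fst) (wordsFive.getD n []) i) = true) :=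
      Finset.filter_congr fun i _ => by rw [five_ap (word_lt hn)]
    set f : ℕ → Bool := fun i => relB i (CfsgPC.apW (gcFive.map Prod.fst) (wordsFive.getD n []) i)
    have e2 : ((Finset.univ.filter fun i : Fin 275 => f i = true).map Fin.valEmbedding) =
        (Finset.range 275).filter fun i => f i = true := by
      ext k
      simp only [Finset.mem_map, Finset.mem_filter, Finset.mem_univ, true_and, Finset.mem_range]
      exact ⟨fun ⟨i, hi, e⟩ => e ▸ ⟨i.2, hi⟩, fun ⟨hk, hf⟩ => ⟨⟨k, hk⟩, hf, rfl⟩⟩
    rw [e1, ← Finset.card_map Fin.valEmbedding, e2, List.countP_eq_length_filter, Finset.card_def, Finset.filter_val,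
      Finset.range_val, Multiset.range, Multiset.filter_coe, Multiset.coe_card]
    congr 1
    exact List.filter_congr fun i _ => by simp
  rw [hcount, Nat.mod_eq_zero_of_dvd hdvd] at hcnt
  simp at hcnt

end CfsgMcLChar
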