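import Cfsg.Agent.Lib.McLInvol.Main
import Cfsg.Agent.Lib.McLChar.Deriv
import Cfsg.Agent.Lib.McLChar.Data
import Cfsg.Agent.Lib.McLChar.Atoms

/-!
Words in four generators of McL on 275 points, evaluated on a base.
-/

set_option autoImplicit false

namespace CfsgMcLChar

open CfsgLib.McLInvol CfsgPC

/-- The action of a letter. -/
def apL (x i : ℕ) : ℕ := if x < 8 then ap (Dat.codes.getD x 0) i else i

/-- The action of a word. -/
def apW (w : List ℕ) (i : ℕ) : ℕ := w.foldr apL i

/-- Two words agree on the base. -/
def eqW (u v : List ℕ) : Bool := bs.all fun b => Nat.beq (apW u b) (apW v b)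

/-- The letters are among those of the centraliser. -/
def cWord (w : List ℕ) : Bool := w.all fun x => Nat.blt x 6

/-- The sum of the entries picked by the bits of `j`. -/
def lin (T : List ℕ) (j : ℕ) : ℕ :=
  (List.range 4).foldl (fun r i => if (j >>> i) % 2 = 1 then r ^^^ T.getD i 0 else r) 0

/-- The composite of two actions. -/
def comp (S T : List ℕ) : List ℕ := T.map (lin S)

/-- The trivial action. -/
def idAct : List ℕ := [1, 2, 4, 8]

/-- The basis words of the groups of order 16. -/
def bas : ℕ → List (List ℕ)
  | 0 => Dat.bas1
  | _ => Dat.bas2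

/-- The generators of the complements. -/
def cmpl : ℕ → List (List ℕ)
  | 0 => Dat.comp1
  | _ => Dat.comp2

/-- The words of the complements. -/
def lWords : ℕ → List (List ℕ)
  | 0 => Dat.lWords1
  | _ => Dat.lWords2

/-- The actions of the complements. -/
def lActs : ℕ → List (List ℕ)
  | 0 => Dat.lActs1
  | _ => Dat.lActs2

/-- The representatives of the conjugates. -/
def reps : ℕ → List (List ℕ)
  | 0 => Dat.reps1
  | _ => Dat.reps2

/-- The closure table of the conjugates. -/
def clTab : ℕ → List (List ℕ)
  | 0 => Dat.closed1
  | _ => Dat.closed2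

/-- The relators of the complements. -/
def lRels : ℕ → List (List ℕ)
  | 0 => Dat.lRels1
  | _ => Dat.lRels2

/-- The word of an element of a group of order 16. -/
def el (k j : ℕ) : List ℕ :=
  (List.range 4).flatMap fun i => if (j >>> i) % 2 = 1 then (bas k).getD i [] else []

/-- A word in the complement. -/
def lw (k l : ℕ) : List ℕ := Enum.expW (cmpl k) ((lWords k).getD l [])

/-- A word in a conjugate. -/
def conjW (c w : List ℕ) : List ℕ := c ++ w ++ Enum.winv c

/-- An element of a conjugate group of order 16. -/
def conjEl (k i j : ℕ) : List ℕ := conjW ((reps k).getD i []) (el k j)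

noncomputable section

attribute [local instance] Classical.propDecidable

/-- A generator. -/
def gen (i : ℕ) : McLP :=
  if h : CfsgPC.decP 275 (Dat.codes.getD (2 * i) 0) ∈ McLP then ⟨_, h⟩ else 1

/-- The generators. -/
def gM : List McLP := [gen 0, gen 1, gen 2, gen 3]

/-- The generators of the centraliser. -/
def gC : List Cent :=
  [0, 1, 2].map fun i => if h : gen i ∈ Cent then ⟨gen i, h⟩ else 1

/-- The value of a word in the centraliser. -/
def evC (w : List ℕ) : Cent := Enum.evW gC w

end

end CfsgMcLChar
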