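import Cfsg.Agent.Lib.McLChar.ElevenData
import Cfsg.Agent.Lib.McLChar.Model
import Cfsg.Agent.Lib.McLMult.Stab
import Cfsg.Agent.Lib.McLMult.SylowData

/-!
Kernel checks: a relation of McL, and the elements of order five against it.
-/

set_option autoImplicit false
set_option maxRecDepth 100000
set_option maxHeartbeats 4000000

namespace CfsgMcLChar

open CfsgLib.McLInvol CfsgPC CfsgLeech.Models
open CfsgLib.CosetEnum (force)

/-- Two points are related. -/
def relB (i j : ℕ) : Bool := (Dat.adj.getD i 0).testBit j

/-- A generator preserves the rows in a range. -/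
noncomputable def adjOK (g lo hi : ℕ) : Bool :=
  (List.range' lo (hi - lo)).all fun i => force (Dat.adj.getD i 0) fun r => force (ap (Dat.codes.getD (2 * g) 0) i) fun i' =>
    force (Dat.adj.getD i' 0) fun r' => (List.range 275).all fun j =>
      r.testBit j == r'.testBit (ap (Dat.codes.getD (2 * g) 0) j)

theorem adj0 : adjOK 0 0 275 = true := by decide +kernel

theorem adj1 : adjOK 1 0 275 = true := by decide +kernel

theorem adj2 : adjOK 2 0 275 = true := by decide +kernel

theorem adj3 : adjOK 3 0 275 = true := by decide +kernel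

theorem five_mem : ((List.range 3).all fun a =>
    isPerm 275 (CfsgLib.McLMult.gcFive.getD a (0, 0)).1 (CfsgLib.McLMult.gcFive.getD a (0, 0)).2 &&
      sift 275 fixChain (CfsgLib.McLMult.gcFive.getD a (0, 0)).1) = true := by decide +kernel

theorem five_list : CfsgLib.McLMult.wordsFive.length = 125 ∧ [] ∈ CfsgLib.McLMult.wordsFive ∧
    (CfsgLib.McLMult.wordsFive.all fun w => w.all fun a => Nat.blt a 3) = true ∧
    ((List.range 125).all fun n => (List.range 3).all fun a => Nat.blt (Dat.fiveNext.getD (3 * n + a) 0) 125 &&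
      bs.all fun b => Nat.beq (CfsgPC.apW (CfsgLib.McLMult.gcFive.map Prod.fst) (a :: CfsgLib.McLMult.wordsFive.getD n []) b)
        (CfsgPC.apW (CfsgLib.McLMult.gcFive.map Prod.fst)
          (CfsgLib.McLMult.wordsFive.getD (Dat.fiveNext.getD (3 * n + a) 0) []) b)) = true := by decide +kernel

theorem five_distinct : ((CfsgLib.McLMult.wordsFive.map fun w =>
    bs.foldl (fun r b => r * 512 + CfsgPC.apW (CfsgLib.McLMult.gcFive.map Prod.fst) w b) 0)).Nodup := by decide +kernel

theorem five_count : (CfsgLib.McLMult.wordsFive.all fun w => w.isEmpty ||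
    !Nat.beq (((List.range 275).countP fun i => relB i (CfsgPC.apW (CfsgLib.McLMult.gcFive.map Prod.fst) w i)) % 11) 0) = true := by
  decide +kernel

end CfsgMcLChar
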