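import Cfsg.Agent.Lib.CosetEnum.Basic
import Cfsg.Agent.Lib.PermChain.Code
import Mathlib.GroupTheory.GroupAction.Defs
import Mathlib.Algebra.BigOperators.Group.List.Basic
import Mathlib.Tactic.Group
import Mathlib.GroupTheory.Index
import Mathlib.GroupTheory.OrderOfElement
import Mathlib.GroupTheory.Coset.Basic

/-!
Certified coset enumerations bounding an index, and derivations of relators inside local groups.
-/

set_option autoImplicit false

namespace CfsgMcLChar.Enum

open CfsgLib.CosetEnum (Tree force fld)
open CfsgPC (ap)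

/-- The inverse letter. -/
def flipL (x : ℕ) : ℕ := if x % 2 = 0 then x + 1 else x - 1

/-- The inverse word. -/
def winv (w : List ℕ) : List ℕ := w.reverse.map flipL

/-- The rule derived from a position in a relator. -/
def mkRule (w : List ℕ) (i : ℕ) (flag : ℕ) : ℕ × List ℕ :=
  if flag = 1 ∧ i < w.length then (w.getD i 16, winv (w.take i) ++ winv (w.drop (i + 1)))
  else (16, winv (w.take i) ++ winv (w.drop i))

/-- A packed word: its length and then four bits for each letter. -/
def unp (u : ℕ) : List ℕ := (List.range (u % 4096)).map fun i => (u >>> (12 + 4 * i)) % 16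

/-- The data of an enumeration. -/
structure Cert where
  /-- the facts -/
  facts : Tree
  /-- their number -/
  nf : ℕ
  /-- the definitions of the cosets -/
  par : Tree
  /-- the surviving cosets -/
  rep : Tree
  /-- for each surviving coset and generator a fact and the image -/
  rows : Tree
  /-- the relators, packed -/
  rels : List ℕ
  /-- the letters fixing the base coset -/
  sub : List ℕ
  /-- the number of surviving cosets -/
  size : ℕ
  /-- the number of generators -/
  gens : ℕ

namespace Cert

variable (C : Cert)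

/-- A fact seen in one of the two directions, passed on as letter, source and target. -/
noncomputable def orient (f d : ℕ) (k : ℕ → ℕ → ℕ → Bool) : Bool :=
  force (fld f (nat_lit 0) (nat_lit 8)) fun l => force (fld f (nat_lit 8) (nat_lit 16)) fun s =>
    force (fld f (nat_lit 24) (nat_lit 16)) fun t =>
      if d = 0 then k l s t else k (flipL l) t s

/-- A walk along `m` earlier facts from `c` to `b` reading the word `u`. -/
noncomputable def walk (j b : ℕ) : ℕ → ℕ → ℕ → List ℕ → Bool
  | 0, c, _, u => Nat.beq c b && u.isEmpty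
  | m + 1, c, refs, u => force (fld refs (nat_lit 0) (nat_lit 16)) fun r => Nat.blt (r / 2) j &&
      orient (C.facts.get (r / 2)) (r % 2) fun l s t => Nat.beq c s &&
        force (Nat.shiftRight refs 16) fun refs' => if 16 ≤ l then walk j b m t refs' u
          else !u.isEmpty && Nat.beq (u.headD 0) l && walk j b m t refs' u.tail

/-- The rule of a fact of kind `k` with parameters `r`, `i`, `fl`. -/
noncomputable def rule (k x r i fl : ℕ) : ℕ × List ℕ :=
  if k = 2 then (16, []) else if k = 3 then (16, [r, flipL r]) else if k = 5 then (x, [x])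
  else mkRule (unp (C.rels.getD r 0)) i fl

/-- The check of one fact. -/
noncomputable def okFact (j : ℕ) : Bool :=
  force (C.facts.get j) fun f => force (fld f 0 8) fun x => force (fld f 8 16) fun a => force (fld f 24 16) fun b =>
    force (fld f 40 4) fun k =>
      if k = 0 then Nat.blt a b && Nat.blt x 32 && Nat.beq (C.par.get b) (x + 32 * a)
      else if k = 1 then Nat.beq a 0 && Nat.beq b 0 && C.sub.contains x
      else (fun p : ℕ × List ℕ => Nat.beq p.1 x && C.walk j b (fld f 80 16) a (Nat.shiftRight f 96) p.2)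
        (C.rule k x (fld f 44 16) (fld f 60 16) (fld f 76 4))

/-- The facts in a range are right. -/
noncomputable def okFacts (lo m : ℕ) : Bool := (List.range m).all fun i => C.okFact (lo + i)

/-- The rows in a range are right. -/
noncomputable def okRows (lo m : ℕ) : Bool := (List.range m).all fun i => (List.range C.gens).all fun g =>
  force (fld (C.rows.get (lo + i)) (32 * g) 16) fun id => force (fld (C.rows.get (lo + i)) (32 * g + 16) 16) fun d' =>
    Nat.blt id C.nf && Nat.blt d' C.size && force (C.facts.get id) fun f =>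
      Nat.beq (fld f 0 8) (2 * g) && Nat.beq (fld f 8 16) (C.rep.get (lo + i)) && Nat.beq (fld f 24 16) (C.rep.get d')

end Cert

noncomputable section Run

variable {G : Type*} [Group G] {P : Type*} [MulAction G P]

/-- The element of a letter. -/
def letG (L : List G) (x : ℕ) : G := if x % 2 = 0 then L.getD (x / 2) 1 else (L.getD (x / 2) 1)⁻¹

/-- The element of a word. -/
def evW (L : List G) (w : List ℕ) : G := (w.map (letG L)).prod

theorem letG_flip (L : List G) (x : ℕ) : letG L (flipL x) = (letG L x)⁻¹ := by
  unfold letG flipL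
  rcases Nat.mod_two_eq_zero_or_one x with h | h
  · rw [if_pos h, if_pos h, if_neg (show ¬ (x + 1) % 2 = 0 by omega), show (x + 1) / 2 = x / 2 by omega]
  · rw [if_neg (show ¬ x % 2 = 0 by omega), if_neg (show ¬ x % 2 = 0 by omega),
      if_pos (show (x - 1) % 2 = 0 by omega), show (x - 1) / 2 = x / 2 by omega, inv_inv]

theorem letG_big {L : List G} (hL : L.length ≤ 8) {x : ℕ} (hx : 16 ≤ x) : letG L x = 1 := by
  unfold letG
  rw [List.getD_eq_default _ _ (show L.length ≤ x / 2 by omega)]
  simp

theorem evW_append (L : List G) (u w : List ℕ) : evW L (u ++ w) = evW L u * evW L w := by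
  simp [evW]

theorem evW_cons (L : List G) (x : ℕ) (w : List ℕ) : evW L (x :: w) = letG L x * evW L w := by
  simp [evW]

theorem evW_one (L : List G) (x : ℕ) : evW L [x] = letG L x := by
  simp [evW]

theorem evW_nil (L : List G) : evW L [] = 1 := rfl

theorem evW_winv (L : List G) (w : List ℕ) : evW L (winv w) = (evW L w)⁻¹ := by
  induction w with
  | nil => simp [winv, evW]
  | cons x w ih =>
    rw [show winv (x :: w) = winv w ++ [flipL x] by simp [winv], evW_append, ih, evW_one, letG_flip, evW_cons,
      mul_inv_rev]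

theorem mkRule_ok {L : List G} (hL : L.length ≤ 8) {w : List ℕ} (hw : evW L w = 1) (i fl : ℕ) :
    letG L (mkRule w i fl).1 = evW L (mkRule w i fl).2 := by
  unfold mkRule
  by_cases h : fl = 1 ∧ i < w.length
  · simp only [if_pos h, evW_append, evW_winv]
    rw [← List.take_append_drop i w, List.drop_eq_getElem_cons h.2, evW_append, evW_cons] at hw
    rw [List.getD_eq_getElem _ _ h.2]
    calc letG L w[i]
        = (evW L (w.take i))⁻¹ * (evW L (w.take i) * (letG L w[i] * evW L (w.drop (i + 1)))) *
          (evW L (w.drop (i + 1)))⁻¹ := by group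
      _ = _ := by rw [hw, mul_one]
  · simp only [if_neg h, letG_big hL le_rfl, evW_append, evW_winv]
    rw [← List.take_append_drop i w, evW_append] at hw
    rw [← mul_inv_rev, eq_comm, inv_eq_one]
    calc evW L (w.drop i) * evW L (w.take i)
        = (evW L (w.take i))⁻¹ * (evW L (w.take i) * evW L (w.drop i)) * evW L (w.take i) := by group
      _ = 1 := by rw [hw]; group

theorem rule_ok {L : List G} (hL : L.length ≤ 8) {C : Cert} (hR : ∀ u ∈ C.rels, evW L (unp u) = 1) (k x r i fl : ℕ) :
    letG L (C.rule k x r i fl).1 = evW L (C.rule k x r i fl).2 := by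
  unfold Cert.rule
  split_ifs with h2 h3 h5
  · exact letG_big hL le_rfl
  · rw [letG_big hL le_rfl, evW_cons, evW_one, letG_flip, mul_inv_cancel]
  · exact (evW_one L x).symm
  · refine mkRule_ok hL ?_ _ _
    rcases lt_or_ge r C.rels.length with h | h
    · rw [List.getD_eq_getElem _ _ h]; exact hR _ (List.getElem_mem h)
    · rw [List.getD_eq_default _ _ h]; rfl

/-- The action of a letter, read from the left. -/
def stepP (L : List G) (x : ℕ) (v : P) : P := (letG L x)⁻¹ • v

/-- The point of a coset. -/
def pointOf (L : List G) (par : Tree) (base : P) (b : ℕ) : P :=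
  if h : par.get b / 32 < b then stepP L (par.get b % 32) (pointOf L par base (par.get b / 32)) else base
termination_by b
decreasing_by exact h

variable {L : List G} {base : P} {C : Cert}

/-- The meaning of a fact. -/
def Holds (L : List G) (base : P) (C : Cert) (j : ℕ) : Prop :=
  stepP L (fld (C.facts.get j) 0 8) (pointOf L C.par base (fld (C.facts.get j) 8 16)) =
    pointOf L C.par base (fld (C.facts.get j) 24 16)

theorem force_eq {α : Type} (i : ℕ) (k : ℕ → α) : force i k = k i := by
  cases i <;> rfl

theorem walk_sound (hL : L.length ≤ 8) {j b : ℕ} (hj : ∀ i < j, Holds L base C i) :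
    ∀ m c refs u, C.walk j b m c refs u = true →
      (evW L u)⁻¹ • pointOf L C.par base c = pointOf L C.par base b := by
  intro m
  induction m with
  | zero =>
    intro c refs u h
    simp only [Cert.walk, Bool.and_eq_true, List.isEmpty_iff] at h
    rw [h.2, evW_nil, inv_one, one_smul, Nat.eq_of_beq_eq_true h.1]
  | succ m ih =>
    intro c refs u h
    obtain ⟨r, hr⟩ : ∃ r, fld refs 0 16 = r := ⟨_, rfl⟩
    simp only [Cert.walk, force_eq, hr, Bool.and_eq_true, Nat.blt_eq] at h
    obtain ⟨hlt, h⟩ := h
    have H := hj _ hlt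
    rw [Holds] at H
    have fl : ∀ l s t, stepP L l (pointOf L C.par base s) = pointOf L C.par base t →
        stepP L (flipL l) (pointOf L C.par base t) = pointOf L C.par base s := fun l s t e => by
      rw [stepP, letG_flip, inv_inv, ← e, stepP, smul_inv_smul]
    obtain ⟨l, s, t, hst, h⟩ : ∃ l s t, stepP L l (pointOf L C.par base s) = pointOf L C.par base t ∧
        (Nat.beq c s && if 16 ≤ l then C.walk j b m t (Nat.shiftRight refs 16) u
          else !u.isEmpty && Nat.beq (u.headD 0) l && C.walk j b m t (Nat.shiftRight refs 16) u.tail) = true := by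
      simp only [Cert.orient, force_eq] at h
      split at h
      · exact ⟨_, _, _, H, h⟩
      · exact ⟨_, _, _, fl _ _ _ H, h⟩
    rw [Bool.and_eq_true] at h
    obtain ⟨hc, h⟩ := h
    rw [Nat.eq_of_beq_eq_true hc]
    split at h
    · next hl =>
      rw [← ih _ _ _ h, ← hst, stepP, letG_big hL hl, inv_one, one_smul]
    · cases u with
      | nil => simp at h
      | cons y u =>
        simp only [List.isEmpty_cons, Bool.not_false, Bool.true_and, List.headD_cons, List.tail_cons,
          Bool.and_eq_true] at h
        rw [← ih _ _ _ h.2, evW_cons, mul_inv_rev, mul_smul, Nat.eq_of_beq_eq_true h.1]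
        exact congrArg _ hst

theorem facts_sound (hL : L.length ≤ 8) (hsub : ∀ x ∈ C.sub, stepP L x base = base)
    (hR : ∀ u ∈ C.rels, evW L (unp u) = 1) (hok : ∀ j < C.nf, C.okFact j = true) :
    ∀ j < C.nf, Holds L base C j := by
  intro j
  induction j using Nat.strong_induction_on with
  | _ j ih =>
    intro hj
    have h := hok j hj
    rw [Holds]
    simp only [Cert.okFact, force_eq] at h
    generalize fld (C.facts.get j) 0 8 = x at h ⊢
    generalize fld (C.facts.get j) 8 16 = a at h ⊢
    generalize fld (C.facts.get j) 24 16 = b at h ⊢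
    split at h
    · simp only [Bool.and_eq_true, Nat.blt_eq] at h
      have e := Nat.eq_of_beq_eq_true h.2
      rw [eq_comm]
      conv_lhs => rw [pointOf]
      rw [dif_pos (show C.par.get b / 32 < b by rw [e]; omega), e, show (x + 32 * a) / 32 = a by omega,
        show (x + 32 * a) % 32 = x by omega]
    split at h
    · simp only [Bool.and_eq_true, List.contains_iff_mem] at h
      rw [Nat.eq_of_beq_eq_true h.1.1, Nat.eq_of_beq_eq_true h.1.2,
        show pointOf L C.par base 0 = base by rw [pointOf, dif_neg (Nat.not_lt_zero _)]]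
      exact hsub x h.2
    · simp only [Bool.and_eq_true] at h
      rw [← walk_sound hL (fun i hi => ih i hi (hi.trans hj)) _ _ _ _ h.2, stepP]
      refine congrArg (fun g : G => g⁻¹ • pointOf L C.par base a) ?_
      exact (congrArg (letG L) (Nat.eq_of_beq_eq_true h.1).symm).trans (rule_ok hL hR _ _ _ _ _)

theorem okFacts_spec {lo m : ℕ} (h : C.okFacts lo m = true) {j : ℕ} (h1 : lo ≤ j) (h2 : j < lo + m) :
    C.okFact j = true := by
  have := List.all_eq_true.1 h (j - lo) (List.mem_range.2 (by omega))
  rwa [Nat.add_sub_cancel' h1] at this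

end Run

/-- The index bound given by an enumeration. -/
theorem index_le {G : Type*} [Group G] [Finite G] {L : List G} {C : Cert} (H : Subgroup G) (hL : L.length ≤ 8)
    (hsub : ∀ x ∈ C.sub, letG L x ∈ H) (hR : ∀ u ∈ C.rels, evW L (unp u) = 1)
    (hok : ∀ j < C.nf, C.okFact j = true) (hrow : C.okRows 0 C.size = true) (h0 : C.rep.get 0 = 0)
    (hpos : 0 < C.size) (hgen : Subgroup.closure {g | ∃ i < C.gens, g = letG L (2 * i)} = ⊤) :
    H.index ≤ C.size := by
  classical
  let base : G ⧸ H := ((1 : G) : G ⧸ H)
  have hs : ∀ x ∈ C.sub, stepP L x base = base := fun x hx => by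
    show ((((letG L x)⁻¹ * 1 : G)) : G ⧸ H) = _
    exact QuotientGroup.eq.2 (by simpa using hsub x hx)
  let f : Fin C.size → G ⧸ H := fun d => pointOf L C.par base (C.rep.get d)
  have hstep : ∀ i < C.gens, ∀ d, ∃ d', (letG L (2 * i))⁻¹ • f d = f d' := fun i hi d => by
    have h := List.all_eq_true.1 (List.all_eq_true.1 hrow d.1 (List.mem_range.2 d.2)) i (List.mem_range.2 hi)
    simp only [force_eq, Bool.and_eq_true, Nat.blt_eq, Nat.zero_add] at h
    obtain ⟨⟨hid, hd'⟩, ⟨hx, ha⟩, hb⟩ := h
    have H' := facts_sound hL hs hR hok _ hid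
    rw [Holds, Nat.eq_of_beq_eq_true hx, Nat.eq_of_beq_eq_true ha, Nat.eq_of_beq_eq_true hb] at H'
    exact ⟨⟨_, hd'⟩, H'⟩
  let K : Submonoid G :=
    { carrier := {g | ∀ d, ∃ d', g • f d = f d'}
      one_mem' := fun d => ⟨d, one_smul _ _⟩
      mul_mem' := fun {a b} ha hb d => by
        obtain ⟨d1, h1⟩ := hb d
        obtain ⟨d2, h2⟩ := ha d1
        exact ⟨d2, by rw [mul_smul, h1, h2]⟩ }
  have hinv : ∀ g ∈ K, g⁻¹ ∈ K := fun g hg => by
    rw [← mem_powers_iff_mem_zpowers.2 (Subgroup.inv_mem _ (Subgroup.mem_zpowers g)) |>.choose_spec]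
    exact K.pow_mem hg _
  let K' : Subgroup G := { K with inv_mem' := fun {g} => hinv g }
  have hK : K' = ⊤ := by
    rw [eq_top_iff, ← hgen, Subgroup.closure_le]
    rintro g ⟨i, hi, rfl⟩
    exact inv_inv (letG L (2 * i)) ▸ K'.inv_mem (show (letG L (2 * i))⁻¹ ∈ K' from hstep i hi)
  have hsurj : Function.Surjective f := fun q => by
    induction q using QuotientGroup.induction_on with
    | H g =>
      obtain ⟨d', hd⟩ := (show g ∈ K' from hK ▸ Subgroup.mem_top g) ⟨0, hpos⟩
      refine ⟨d', hd.symm.trans ?_⟩
      show g • pointOf L C.par base (C.rep.get 0) = _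
      rw [h0, pointOf, dif_neg (Nat.not_lt_zero _)]
      show (((g * 1 : G)) : G ⧸ H) = _
      rw [mul_one]
  calc H.index = Nat.card (G ⧸ H) := rfl
    _ ≤ Nat.card (Fin C.size) := Nat.card_le_card_of_surjective f hsurj
    _ = C.size := by rw [Nat.card_eq_fintype_card, Fintype.card_fin]

/-- A generator fixing the base coset by a fact lies in the subgroup. -/
theorem mem_of_fact {G : Type*} [Group G] [Finite G] {L : List G} {C : Cert} (H : Subgroup G) (hL : L.length ≤ 8)
    (hsub : ∀ x ∈ C.sub, letG L x ∈ H) (hR : ∀ u ∈ C.rels, evW L (unp u) = 1)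
    (hok : ∀ j < C.nf, C.okFact j = true) {j x : ℕ} (hj : j < C.nf) (hx : fld (C.facts.get j) 0 8 = x)
    (ha : fld (C.facts.get j) 8 16 = 0) (hb : fld (C.facts.get j) 24 16 = 0) : letG L x ∈ H := by
  let base : G ⧸ H := ((1 : G) : G ⧸ H)
  have hs : ∀ x ∈ C.sub, stepP L x base = base := fun x hx => by
    show ((((letG L x)⁻¹ * 1 : G)) : G ⧸ H) = _
    exact QuotientGroup.eq.2 (by simpa using hsub x hx)
  have h := facts_sound hL hs hR hok j hj
  rw [Holds, hx, ha, hb, pointOf, dif_neg (Nat.not_lt_zero _)] at h
  have h2 := QuotientGroup.eq.1 (show ((((letG L x)⁻¹ * 1 : G)) : G ⧸ H) = ((1 : G) : G ⧸ H) from h)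
  simpa using h2

end CfsgMcLChar.Enum
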