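import Cfsg.Agent.Lib.McLChar.Bound
import Cfsg.Agent.Lib.McLChar.Eleven
import Cfsg.Agent.Lib.HallSolvable
import Cfsg.Agent.S0205
import Cfsg.Agent.S0223
import Cfsg.Agent.S1225

/-!
A group with a fused involution whose centraliser is the model centraliser is McL.
-/

set_option autoImplicit false
set_option maxRecDepth 100000

namespace CfsgMcLChar

open Subgroup Equiv CfsgLib.McLInvol CfsgPC CfsgLeech.Models

attribute [local irreducible] fixChain invT centGens sylGens sylChain mclRigid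

/-- No subgroup of odd order of McL is transitive on the involutions. -/
theorem odd_small {D : Subgroup McLP} (hodd : Odd (Nat.card D)) (hdvd : 22275 ∣ Nat.card D) : False := by
  haveI : Group.IsSolvable D := Cfsg.Agent.S0205.result hodd
  set c := Nat.card D
  have hc : c ∣ 1375 * 653184 := by
    rw [show 1375 * 653184 = Nat.card McLP by rw [mclP_card]]
    exact Subgroup.card_subgroup_dvd_card D
  have hcop : Nat.Coprime 1375 653184 := by norm_num
  have hmul : c = Nat.gcd c 1375 * Nat.gcd c 653184 := by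
    rw [← hcop.gcd_mul, Nat.gcd_eq_left hc]
  set m := Nat.gcd c 1375
  have hm : m = 275 ∨ m = 1375 := by
    obtain ⟨k, hk⟩ := Nat.dvd_gcd ((Dvd.intro 81 (by norm_num) : 275 ∣ 22275).trans hdvd) (by norm_num : 275 ∣ 1375)
    have hd : m ∣ 1375 := Nat.gcd_dvd_right _ _
    rw [show m = 275 * k from hk] at hd ⊢
    have hk5 : k ∣ 5 := Nat.dvd_of_mul_dvd_mul_left (show 0 < 275 by norm_num) (by simpa using hd)
    rcases (Nat.dvd_prime Nat.prime_five).mp hk5 with rfl | rfl <;> norm_num
  obtain ⟨⟨H, hH⟩, -⟩ := CfsgLib.hall_main (G := D) hmul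
    ((hcop.coprime_dvd_left (Nat.gcd_dvd_right _ _)).coprime_dvd_right (Nat.gcd_dvd_right _ _))
  haveI : Fact (Nat.Prime 11) := ⟨by norm_num⟩
  haveI : Fact (Nat.Prime 5) := ⟨Nat.prime_five⟩
  let P : Sylow 11 H := default
  have hP : Nat.card P = 11 := by
    rw [P.card_eq_multiplicity, hH]
    have : (m).factorization 11 = 1 := by
      rcases hm with e | e <;> rw [e]
      · rw [show (275 : ℕ) = 11 ^ 1 * 25 by norm_num, Nat.factorization_mul (by norm_num) (by norm_num),
          Nat.Prime.factorization_pow (by norm_num), Finsupp.add_apply, Finsupp.single_eq_same,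
          Nat.factorization_eq_zero_of_not_dvd (by norm_num)]
      · rw [show (1375 : ℕ) = 11 ^ 1 * 125 by norm_num, Nat.factorization_mul (by norm_num) (by norm_num),
          Nat.Prime.factorization_pow (by norm_num), Finsupp.add_apply, Finsupp.single_eq_same,
          Nat.factorization_eq_zero_of_not_dvd (by norm_num)]
    rw [this, pow_one]
  have hnum : Nat.card (Sylow 11 H) = 1 := by
    have h1 := P.card_dvd_index
    have h2 : (P : Subgroup H).index * 11 = m := by
      rw [← hH, ← (P : Subgroup H).index_mul_card, hP]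
    have h3 := card_sylow_modEq_one 11 H
    have hidx : (P : Subgroup H).index ∣ 125 := by
      rcases hm with e | e <;> rw [e] at h2
      · exact ⟨5, by omega⟩
      · exact ⟨1, by omega⟩
    obtain ⟨i, hi, e⟩ := (Nat.dvd_prime_pow Nat.prime_five).mp (show Nat.card (Sylow 11 H) ∣ 5 ^ 3 from h1.trans hidx)
    rw [e] at h3 ⊢
    unfold Nat.ModEq at h3
    interval_cases i <;> first | rfl | (exfalso; omega) | (exfalso; revert h3; decide)
  haveI : Subsingleton (Sylow 11 H) := (Nat.card_eq_one_iff_unique.mp hnum).1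
  haveI : (P : Subgroup H).Normal := Sylow.normal_of_subsingleton P
  haveI : IsCyclic (P : Subgroup H) := isCyclic_of_prime_card hP
  set f : H →* MulAut (P : Subgroup H) := MulAut.conjNormal
  have haut : Nat.card (MulAut (P : Subgroup H)) = 10 := by
    rw [IsCyclic.card_mulAut, show Nat.card (P : Subgroup H) = 11 from hP, Nat.totient_prime (by norm_num)]
  have hker : 5 ∣ Nat.card f.ker := by
    have h1 : Nat.card f.range ∣ 10 := haut ▸ Subgroup.card_subgroup_dvd_card _
    have h2 : Nat.card f.ker * Nat.card f.range = m := by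
      rw [← hH, ← Subgroup.index_ker, Subgroup.card_mul_index]
    have hr : Nat.card f.range ≤ 10 := Nat.le_of_dvd (by norm_num) h1
    by_contra hn
    have h25 : 5 ^ 2 ∣ Nat.card f.ker * Nat.card f.range := by rcases hm with e | e <;> rw [h2, e] <;> norm_num
    have := ((Nat.Prime.coprime_iff_not_dvd Nat.prime_five).mpr hn).pow_left 2 |>.dvd_of_dvd_mul_left h25
    have := Nat.le_of_dvd Nat.card_pos this
    omega
  obtain ⟨x, hx⟩ := exists_prime_orderOf_dvd_card' (G := f.ker) 5 hker
  obtain ⟨g, hg⟩ := exists_prime_orderOf_dvd_card' (G := (P : Subgroup H)) 11 (by rw [hP])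
  refine no55 (g := ((g : H) : D)) (x := ((x : H) : D)) (by rw [Subgroup.orderOf_coe, Subgroup.orderOf_coe,
    Subgroup.orderOf_coe, hg]) (by rw [Subgroup.orderOf_coe, Subgroup.orderOf_coe, Subgroup.orderOf_coe, hx]) ?_
  have h := DFunLike.congr_fun (show f x = 1 from x.2) g
  have h' : (x : H) * g * (x : H)⁻¹ = g := by
    have := congrArg Subtype.val h
    simpa [f] using this
  have hc' : (x : H) * g = g * x := mul_inv_eq_iff_eq_mul.mp h'
  exact congrArg (fun y : H => ((y : D) : McLP)) hc'.symm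

theorem exists_iso {G : Type*} [Group G] [Finite G] {t : G} {ψ : Cent →* G} (S : Setting t ψ)
    (hrange : ψ.range = Subgroup.centralizer ({t} : Set G)) :
    Nonempty (G ≃* McLP) := by
  obtain ⟨φ, hinj, hφ⟩ := exists_embedding S
  have htau : φ tau = t := by rw [← S.tau, ← hφ tauC]; rfl
  by_cases htop : φ.range = ⊤
  · exact ⟨(MulEquiv.ofBijective φ ⟨hinj, MonoidHom.range_eq_top.mp htop⟩).symm⟩
  exfalso
  set G0 := φ.range
  have hCt : Subgroup.centralizer ({t} : Set G) ≤ G0 := by
    rw [← hrange]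
    rintro _ ⟨c, rfl⟩
    exact ⟨c, hφ c⟩
  have hconj : ∀ v ∈ G0, orderOf v = 2 → ∃ h ∈ G0, h * t * h⁻¹ = v := by
    rintro _ ⟨x, rfl⟩ hv
    rw [orderOf_injective φ hinj] at hv
    obtain ⟨c, hc⟩ := isConj_iff.mp (one_class x hv).symm
    exact ⟨φ c, ⟨c, rfl⟩, by rw [← htau, ← map_inv, ← map_mul, ← map_mul, hc]⟩
  have key : ∀ g : G, g * t * g⁻¹ ∈ G0 → g ∈ G0 := by
    intro g hg
    have ho : orderOf (g * t * g⁻¹) = 2 := by
      rw [CfsgLib.Involutions.orderOf_conj, ← htau, orderOf_injective φ hinj, tau_order]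
    obtain ⟨h, hh, e⟩ := hconj _ hg ho
    have hm : h⁻¹ * g ∈ Subgroup.centralizer ({t} : Set G) := by
      rw [Subgroup.mem_centralizer_singleton_iff]
      calc h⁻¹ * g * t = h⁻¹ * (g * t * g⁻¹) * g := by group
        _ = t * (h⁻¹ * g) := by rw [← e]; group
    simpa using G0.mul_mem hh (hCt hm)
  have ht2 : orderOf t = 2 := by rw [← htau, orderOf_injective φ hinj, tau_order]
  have heven : Even (Nat.card G0) := even_iff_two_dvd.mpr
    (ht2 ▸ Subgroup.orderOf_dvd_natCard G0 (htau ▸ ⟨tau, rfl⟩))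
  have hemb : Cfsg.IsStronglyEmbedded G0 := by
    refine (Cfsg.Agent.S0223.result G0 htop heven).mpr ⟨fun v hv ho c hc => ?_, fun a ha b hb hao hbo _ => ?_⟩
    · obtain ⟨h, hh, rfl⟩ := hconj v hv ho
      have hm : h⁻¹ * c * h ∈ Subgroup.centralizer ({t} : Set G) := by
        rw [Subgroup.mem_centralizer_singleton_iff] at hc ⊢
        calc h⁻¹ * c * h * t = h⁻¹ * (c * (h * t * h⁻¹)) * h := by group
          _ = t * (h⁻¹ * c * h) := by rw [hc]; group
      have := G0.mul_mem (G0.mul_mem hh (hCt hm)) (G0.inv_mem hh)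
      simpa [mul_assoc] using this
    · obtain ⟨h, hh, rfl⟩ := hconj a ha hao
      obtain ⟨k, hk, rfl⟩ := hconj b hb hbo
      exact ⟨k * h⁻¹, G0.mul_mem hk (G0.inv_mem hh), by group⟩
  obtain ⟨g, hg⟩ : ∃ g, g ∉ G0 := not_forall.mp fun h => htop (eq_top_iff.mpr fun x _ => h x)
  have huG : g * t * g⁻¹ ∉ G0 := fun h => hg (key g h)
  have huo : orderOf (g * t * g⁻¹) = 2 := by rw [CfsgLib.Involutions.orderOf_conj, ht2]
  set D := G0 ⊓ G0.map (MulAut.conj (g * t * g⁻¹)).toMonoidHom
  set D0 := D.comap φ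
  have hcard : Nat.card D0 = Nat.card D := by
    rw [← Subgroup.card_map_of_injective (K := D0) hinj, Subgroup.map_comap_eq, inf_eq_right.mpr inf_le_left]
  refine odd_small (D := D0) (hcard ▸ hemb.2.2 _ huG) ?_
  haveI : MulAction.IsPretransitive D0 (McLP ⧸ Cent) := by
    refine MulAction.IsPretransitive.mk fun a b => ?_
    suffices h : ∀ q : McLP ⧸ Cent, ∃ d : D0, d • ((1 : McLP) : McLP ⧸ Cent) = q by
      obtain ⟨d, hd⟩ := h a
      obtain ⟨e, he⟩ := h b
      exact ⟨e * d⁻¹, by rw [mul_smul, inv_smul_eq_iff.mpr hd.symm, he]⟩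
    intro q
    induction q using QuotientGroup.induction_on with
    | H x =>
      have hx : φ x * t * (φ x)⁻¹ ∈ G0 := G0.mul_mem (G0.mul_mem ⟨x, rfl⟩ (htau ▸ ⟨tau, rfl⟩)) (G0.inv_mem ⟨x, rfl⟩)
      obtain ⟨⟨d, hd, e⟩, -⟩ := Cfsg.Agent.S1225.result G0 hemb _ huo huG t (φ x * t * (φ x)⁻¹) ht2
        (htau ▸ ⟨tau, rfl⟩) (by rw [CfsgLib.Involutions.orderOf_conj, ht2]) hx
      obtain ⟨d', rfl⟩ := hd.1
      refine ⟨⟨d', hd⟩, ?_⟩
      show ((((d' * 1 : McLP))) : McLP ⧸ Cent) = _
      rw [mul_one, QuotientGroup.eq, Subgroup.mem_centralizer_singleton_iff]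
      refine hinj ?_
      rw [map_mul, map_mul, map_mul, map_mul, map_inv, htau]
      calc (φ d')⁻¹ * φ x * t = (φ d')⁻¹ * (φ x * t * (φ x)⁻¹) * φ x := by group
        _ = t * ((φ d')⁻¹ * φ x) := by rw [← e]; group
  have hq : Nat.card (McLP ⧸ Cent) = 22275 := by
    have h := Cent.index_mul_card
    rw [card_cent, mclP_card] at h
    rw [← Subgroup.index_eq_card]
    omega
  rw [← hq, ← MulAction.index_stabilizer_of_transitive D0 ((1 : McLP) : McLP ⧸ Cent)]
  exact Subgroup.index_dvd_card _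

end CfsgMcLChar
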