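import Cfsg.Agent.Lib.McLChar.Model

/-!
What is checked about the derivations of relators.
-/

set_option autoImplicit false

namespace CfsgMcLChar

/-- The named subwords in `G`. -/
def atG (k : ℕ) : List (List ℕ) := Dat.atomsG.getD k []

/-- The named subwords in the model. -/
def atM (k : ℕ) : List (List ℕ) := Dat.atomsM.getD k []

/-- One derived relator: `sub` translates its word into the four generators. -/
def itemOK (rels : List ℕ) (sub : List ℕ → List ℕ) (groups : List ℕ)
    (it : ℕ × ℕ × Bool × ℕ × List Enum.Step) : Bool :=
  decide (Enum.red (Enum.unp it.2.1 ++ (if it.2.2.1 then Enum.winv (Enum.unp it.2.2.2.1) else Enum.unp it.2.2.2.1) ++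
      Enum.winv (Enum.unp it.2.1)) = Enum.red (Enum.unp (rels.getD it.1 0))) &&
    (it.2.2.2.2.all fun s => groups.contains s.grp) &&
    Enum.derivB atG atM eqW (Enum.red (sub (Enum.unp it.2.2.2.1))) it.2.2.2.2

/-- All items of a level. -/
def itemsOK (rels : List ℕ) (sub : List ℕ → List ℕ) (groups : List ℕ)
    (items : List (ℕ × ℕ × Bool × ℕ × List Enum.Step)) : Bool :=
  items.all fun it => itemOK rels sub groups it

/-- The five words generating the subgroup of index 2025, then translated. -/
def subM (w : List ℕ) : List ℕ := Enum.expW Dat.subWords w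

end CfsgMcLChar
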