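import Cfsg.Agent.Lib.McLChar.Pairs

/-!
The local groups: named subwords with values in the group and in the model.
-/

set_option autoImplicit false
set_option maxRecDepth 100000

namespace CfsgMcLChar

open Subgroup Equiv CfsgLib.McLInvol CfsgPC CfsgLib.Local
open CfsgMcLChar.Enum (evW letG LocalOK)

attribute [local irreducible] fixChain invT centGens sylGens sylChain

variable {G : Type*} [Group G] [Finite G] {t : G} {ψ : Cent →* G}

/-- The generators in the group. -/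
noncomputable def gG (ψ : Cent →* G) (o : G) : List G := gC.map ψ ++ [o]

theorem gG_getD (ψ : Cent →* G) (o : G) {i : ℕ} (hi : i < 3) : (gG ψ o).getD i 1 = ψ (gC.getD i 1) := by
  rcases (by omega : i = 0 ∨ i = 1 ∨ i = 2) with rfl | rfl | rfl <;> simp [gG, gC]

theorem gG_o (ψ : Cent →* G) (o : G) : evW (gG ψ o) [6] = o := by
  rw [Enum.evW_one]
  unfold letG
  rw [if_pos rfl]
  simp [gG, gC]

theorem evG_cWord (ψ : Cent →* G) (o : G) {w : List ℕ} (h : cWord w = true) : evW (gG ψ o) w = ψ (evC w) := by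
  rw [evC, ← Enum.evW_map ψ]
  unfold evW
  refine congrArg List.prod (List.map_congr_left fun x hx => ?_)
  have hx6 := cWord_iff.mp h x hx
  unfold letG
  rw [gG_getD ψ o (by omega : x / 2 < 3)]
  simp [List.getD_eq_getElem?_getD, List.getElem?_map]
  rcases gC[x / 2]? <;> simp

theorem pair_cWord (ψ : Cent →* G) (o : G) {w : List ℕ} (h : cWord w = true) :
    (evW (gG ψ o) w, evW gM w) = pairC ψ (evC w) := by
  rw [evG_cWord ψ o h, ← evC_val h]; rfl

theorem pair_six (ψ : Cent →* G) (o : G) : (evW (gG ψ o) [6], evW gM [6]) = (o, gen 3) := by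
  rw [gG_o]; rfl

/-- What is obtained about a group with the hypotheses. -/
structure LocalData (t : G) (ψ : Cent →* G) (o : G) : Prop where
  move : o * t * o⁻¹ ≠ t
  zero : LocalOK (gG ψ o) gM (atG 0) (atM 0)
  one : LocalOK (gG ψ o) gM (atG 1) (atM 1)
  rest : LocalOK (gG ψ o) gM (atG 4) (atM 4) ∨
    (LocalOK (gG ψ o) gM (atG 2) (atM 2) ∧ LocalOK (gG ψ o) gM (atG 3) (atM 3))

theorem local_zero (S : Setting t ψ) (o : G) : LocalOK (gG ψ o) gM (atG 0) (atM 0) := by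
  obtain ⟨h0, h0', -⟩ := atoms_ok
  refine ⟨(pairC ψ).range, ?_, by rw [h0'], ?_⟩
  · rintro _ ⟨c, rfl⟩ h
    show ψ c = 1
    rw [show c = 1 from Subgroup.subtype_injective _ (h.trans (map_one _).symm), map_one]
  · intro i hi
    rw [h0', h0] at *
    rw [pair_cWord ψ o]
    · exact ⟨_, rfl⟩
    · rw [List.length_cons, List.length_cons, List.length_cons, List.length_nil] at hi
      rcases (by omega : i = 0 ∨ i = 1 ∨ i = 2) with rfl | rfl | rfl <;> rfl

theorem atom_mem (S : Setting t ψ) (o : G) {k : ℕ} (hk : k < 2) {A : Subgroup G} {AG AM : List (List ℕ)}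
    (hlen : AG.length = 7) (hM : AM = cmpl k ++ [[6]] ++ bas k) (hdrop : AG.drop 2 = AM.drop 2)
    (hinj : ∀ p ∈ pairE S hk A, p.2 = 1 → p.1 = 1)
    (h6 : ((o, gen 3) : G × McLP) ∈ pairA S hk A)
    (hgen : ∀ i < 2, (evW (gG ψ o) (AG.getD i []), evW gM ((cmpl k).getD i [])) ∈ pairA S hk A) :
    LocalOK (gG ψ o) gM AG AM := by
  obtain ⟨hb, -, -, hblen, hclen, -⟩ := words_k hk
  have hlenM : AM.length = 7 := by rw [hM]; simp [hblen, hclen]
  refine ⟨pairE S hk A, hinj, hlen.trans hlenM.symm, fun i hi => ?_⟩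
  have hgetM : ∀ i, 2 ≤ i → AG.getD i [] = AM.getD i [] := fun i h2 => by
    have := congrArg (fun L => L.getD (i - 2) []) hdrop
    simp only [List.getD_eq_getElem?_getD, List.getElem?_drop, show 2 + (i - 2) = i by omega] at this
    simpa [List.getD_eq_getElem?_getD] using this
  by_cases h2 : i < 2
  · refine pairA_le S hk A ?_
    have : AM.getD i [] = (cmpl k).getD i [] := by
      rw [hM, List.getD_eq_getElem?_getD, List.append_assoc, List.getElem?_append_left (by omega),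
        ← List.getD_eq_getElem?_getD]
    rw [this]
    exact hgen i h2
  · rw [hgetM i (by omega)]
    by_cases h3 : i = 2
    · subst h3
      have : AM.getD 2 [] = [6] := by
        rw [hM, List.getD_eq_getElem?_getD, List.append_assoc, List.getElem?_append_right (by omega)]
        simp [hclen]
      rw [this, pair_six]
      exact pairA_le S hk A h6
    · have : AM.getD i [] = (bas k).getD (i - 3) [] := by
        rw [hM, List.getD_eq_getElem?_getD, List.getElem?_append_right (by simp [hclen]; omega)]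
        simp [hclen, List.getD_eq_getElem?_getD]
      rw [this]
      have hcw := cWord_getD hb (i - 3)
      rw [pair_cWord ψ o hcw]
      have hi3 : i - 3 < 4 := by omega
      have h2 : 2 ^ (i - 3) < 16 := by interval_cases (i - 3) <;> norm_num
      have e : el k (2 ^ (i - 3)) = (bas k).getD (i - 3) [] := by
        interval_cases (i - 3) <;> simp [el, List.range_succ]
      have h := pairC_Ev_mem S hk A h2
      rwa [Ev, e] at h

theorem second_in_norm {b : ℕ} (hb : b < 4) : Ev 1 (2 ^ b) ∈ Subgroup.normalizer (grp 0 (by omega) : Set Cent) := by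
  refine mem_normalizer_of_map_conj_eq (Subgroup.eq_of_le_of_card_ge ?_
    (Subgroup.card_map_of_injective (MulEquiv.injective _)).ge)
  rintro _ ⟨_, ⟨j, hj, rfl⟩, rfl⟩
  have h := List.all_eq_true.mp (List.all_eq_true.mp second_norm b (List.mem_range.mpr hb)) j (List.mem_range.mpr hj)
  obtain ⟨j', hj', e⟩ := List.any_eq_true.mp h
  refine ⟨j', List.mem_range.mp hj', ?_⟩
  rw [MulEquiv.coe_toMonoidHom, MulAut.conj_apply, Ev, Ev, ← evC_conjW]
  exact evC_eq (cWord_conjW (cWord_el (by omega) _) (cWord_el (by omega) _)) (cWord_el (by omega) _) e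

/-- The element of order 3 acts on the second group as in the model. -/
theorem second_acts (S : Setting t ψ) {A : Subgroup G} (hA : IsComp ψ 0 (by omega) 1 A) {o : G} (ho : o ∈ A)
    (hact : Acts ψ 0 o (oAct 0)) : Acts ψ 1 o (oAct 1) := by
  have hk : (0 : ℕ) < 2 := by omega
  have hk1 : (1 : ℕ) < 2 := by omega
  obtain ⟨hlen, hoM, -⟩ := oact_facts hk1
  have hmem : ∀ j < 16, pairC ψ (Ev 1 j) ∈ pairE S hk A := by
    intro j
    induction j using Nat.strong_induction_on with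
    | _ j ih =>
      intro hj
      by_cases h0 : j = 0
      · subst h0; rw [Ev_zero, map_one]; exact Subgroup.one_mem _
      obtain ⟨b, hb, m, hm, e, -⟩ := lin_split [] j hj h0
      have hb2 : 2 ^ b < 16 := by interval_cases b <;> norm_num
      rw [e, ← Ev_mul hk1 (hm.trans hj) hb2, map_mul]
      exact Subgroup.mul_mem _ (ih m hm (hm.trans hj)) (pair_norm S hk hA (second_in_norm hb))
  have hô := pairA_le S hk A (pair_o S hk ho hact)
  refine fun j hj => ?_
  obtain ⟨hlt, e⟩ := hoM j hj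
  refine ⟨hlt, ?_⟩
  have h := pairE_inj S hk hA _ (Subgroup.mul_mem _ (Subgroup.mul_mem _ (Subgroup.mul_mem _ hô (hmem j hj))
    (Subgroup.inv_mem _ hô)) (Subgroup.inv_mem _ (hmem _ hlt)))
    (show gen 3 * inM (Ev 1 j) * (gen 3)⁻¹ * (inM (Ev 1 (lin (oAct 1) j)))⁻¹ = 1 by rw [e, mul_inv_cancel])
  exact mul_inv_eq_one.mp h

theorem o_cube (S : Setting t ψ) {A : Subgroup G} (hA : IsComp ψ 0 (by omega) 1 A) {o : G} (ho : o ∈ A)
    (hact : Acts ψ 0 o (oAct 0)) : o ^ 3 = 1 := by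
  have hk : (0 : ℕ) < 2 := by omega
  have h := pairE_inj S hk hA _ (Subgroup.pow_mem _ (pairA_le S hk A (pair_o S hk ho hact)) 3)
  refine h ?_
  show gen 3 ^ 3 = 1
  have e : eqW [6, 6, 6] [] = true := by decide +kernel
  have e' := eqW_iff.mp e
  rw [Enum.evW_cons, Enum.evW_cons, Enum.evW_one, Enum.evW_nil] at e'
  rw [pow_succ, pow_two, mul_assoc]
  exact e'

/-- A complement of the second group can be chosen to contain the element of order 3. -/
theorem exists_second (S : Setting t ψ) {o : G} (h3 : o ^ 3 = 1) (hact : Acts ψ 1 o (oAct 1)) :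
    ∃ n < 16, ∃ A, IsComp ψ 1 (by omega) (Ev 1 n) A ∧ o ∈ A := by
  have hk : (1 : ℕ) < 2 := by omega
  obtain ⟨A, hA⟩ := S.exists_comp hk
  set N := Subgroup.normalizer (Eg ψ 1 hk : Set G)
  have hoN : o ∈ N := by
    refine mem_normalizer_of_map_conj_eq (Subgroup.eq_of_le_of_card_ge ?_
      (Subgroup.card_map_of_injective (MulEquiv.injective _)).ge)
    rintro _ ⟨x, hx, rfl⟩
    obtain ⟨j, hj, rfl⟩ := mem_Eg.mp hx
    exact mem_Eg.mpr ⟨_, (hact j hj).1, (hact j hj).2⟩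
  have hEN : Eg ψ 1 hk ≤ N := Subgroup.le_normalizer
  -- the order of the normaliser
  have hcard : Nat.card N = 16 * Nat.card A := by
    rw [show 16 * Nat.card A = Nat.card (Fin 16 × A) by rw [Nat.card_prod, Nat.card_fin]]
    refine (Nat.card_congr (Equiv.ofBijective
      (fun p : Fin 16 × A => (⟨ψ (Ev 1 p.1) * p.2, N.mul_mem (hEN (mem_Eg.mpr ⟨_, p.1.2, rfl⟩)) (hA.le p.2.2)⟩ : N))
      ⟨?_, ?_⟩)).symm
    · rintro ⟨i, a⟩ ⟨j, b⟩ e
      have e' : ψ (Ev 1 i) * (a : G) = ψ (Ev 1 j) * b := congrArg Subtype.val e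
      have hm : (a : G) * (b : G)⁻¹ ∈ Eg ψ 1 hk := by
        refine mem_Eg.mpr ⟨(i : ℕ) ^^^ j, xor_lt i.2 j.2, ?_⟩
        rw [← Ev_mul hk i.2 j.2, map_mul]
        calc (a : G) * (b : G)⁻¹ = (ψ (Ev 1 i))⁻¹ * (ψ (Ev 1 i) * a) * (b : G)⁻¹ := by group
          _ = _ := by rw [e', ← map_inv, inv_eq_of_mul_eq_one_right (Ev_self hk i.2)]; group
      have hab : (a : G) = b := mul_inv_eq_one.mp (hA.disj _ (A.mul_mem a.2 (A.inv_mem b.2)) hm)
      rw [hab] at e'
      exact Prod.ext (Fin.ext (Ev_inj hk i.2 j.2 (S.inj (mul_right_cancel e')))) (Subtype.ext hab)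
    · rintro ⟨x, hx⟩
      obtain ⟨j, hj, a, ha, e⟩ := hA.split x hx
      exact ⟨(⟨j, hj⟩, ⟨a, ha⟩), Subtype.ext e.symm⟩
  haveI : Fact (Nat.Prime 3) := ⟨Nat.prime_three⟩
  obtain ⟨P⟩ : Nonempty (Sylow 3 A) := inferInstance
  let j : A →* N := Subgroup.inclusion hA.le
  have hPc : Nat.card ((P : Subgroup A).map j) = 3 ^ (Nat.card N).factorization 3 := by
    rw [Subgroup.card_map_of_injective (Subgroup.inclusion_injective hA.le), P.card_eq_multiplicity, hcard,
      Nat.factorization_mul (by norm_num) (Nat.card_pos).ne']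
    rw [Finsupp.add_apply, Nat.factorization_eq_zero_of_not_dvd (n := 16) (by norm_num), zero_add]
  let Q : Sylow 3 N := Sylow.ofCard _ hPc
  have ho3 : IsPGroup 3 (Subgroup.zpowers (⟨o, hoN⟩ : N)) := by
    intro x
    obtain ⟨i, hi⟩ := Subgroup.mem_zpowers_iff.mp x.2
    refine ⟨1, Subtype.ext (Subtype.ext ?_)⟩
    have : ((x : N) : G) = o ^ i := by rw [← hi]; rfl
    simp only [pow_one, SubmonoidClass.coe_pow, OneMemClass.coe_one]
    rw [this, ← zpow_natCast, ← zpow_mul, mul_comm, zpow_mul, zpow_natCast, h3, one_zpow]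
  obtain ⟨R, hR⟩ := ho3.exists_le_sylow
  obtain ⟨u, hu⟩ := MulAction.exists_smul_eq N Q R
  have hoR : (⟨o, hoN⟩ : N) ∈ (u • Q : Sylow 3 N).toSubgroup := by
    rw [hu]; exact hR (Subgroup.mem_zpowers _)
  rw [Sylow.coe_subgroup_smul] at hoR
  obtain ⟨q, hq, e⟩ := hoR
  obtain ⟨a, -, rfl⟩ := hq
  have eo : o = (u : G) * (a : G) * (u : G)⁻¹ := by
    have := congrArg Subtype.val e
    simpa [j] using this.symm
  obtain ⟨n, hn, v, hv, ev⟩ := hA.split _ u.2
  have hEn : ψ (Ev 1 n) ∈ N := hEN (mem_Eg.mpr ⟨n, hn, rfl⟩)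
  refine ⟨n, hn, A.map (MulAut.conj (ψ (Ev 1 n))).toMonoidHom, ⟨?_, ?_, ?_, ?_⟩, ?_⟩
  · rintro _ ⟨x, hx, rfl⟩
    exact N.mul_mem (N.mul_mem hEn (hA.le hx)) (N.inv_mem hEn)
  · rintro _ ⟨x, hx, rfl⟩ hxE
    rw [hA.disj x hx ((Subgroup.mem_normalizer_iff.mp hEn x).mpr hxE), map_one]
  · intro x hx
    obtain ⟨i, hi, b, hb, e⟩ := hA.split ((ψ (Ev 1 n))⁻¹ * x * ψ (Ev 1 n))
      (N.mul_mem (N.mul_mem (N.inv_mem hEn) hx) hEn)
    refine ⟨i, hi, _, Subgroup.mem_map_of_mem _ hb, ?_⟩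
    show x = ψ (Ev 1 i) * (ψ (Ev 1 n) * b * (ψ (Ev 1 n))⁻¹)
    have hc : ψ (Ev 1 n) * ψ (Ev 1 i) = ψ (Ev 1 i) * ψ (Ev 1 n) := by
      rw [← map_mul, ← map_mul, Ev_mul hk hn hi, Ev_mul hk hi hn, Nat.xor_comm]
    calc x = ψ (Ev 1 n) * ((ψ (Ev 1 n))⁻¹ * x * ψ (Ev 1 n)) * (ψ (Ev 1 n))⁻¹ := by group
      _ = ψ (Ev 1 n) * ψ (Ev 1 i) * b * (ψ (Ev 1 n))⁻¹ := by rw [e]; group
      _ = _ := by rw [hc]; group
  · intro i hi
    refine ⟨ψ (Kv 1 i), ?_, ?_⟩
    · have := hA.gens i hi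
      rwa [one_mul, inv_one, mul_one] at this
    · simp [MulAut.conj_apply]
  · refine ⟨v * (a : G) * v⁻¹, A.mul_mem (A.mul_mem hv a.2) (A.inv_mem hv), ?_⟩
    show ψ (Ev 1 n) * (v * (a : G) * v⁻¹) * (ψ (Ev 1 n))⁻¹ = o
    rw [eo, ev]
    group

theorem glue_excluded (S : Setting t ψ) {A A' : Subgroup G} (hA : IsComp ψ 0 (by omega) 1 A) {o : G} (ho : o ∈ A)
    (hact : Acts ψ 0 o (oAct 0)) {n : ℕ} (hn : n < 16) (hA' : IsComp ψ 1 (by omega) (Ev 1 n) A') (ho' : o ∈ A') :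
    n = 0 ∨ n = 1 ∨ n = 14 ∨ n = 15 := by
  have hk : (0 : ℕ) < 2 := by omega
  have hk1 : (1 : ℕ) < 2 := by omega
  have h := List.all_eq_true.mp glue_ok n (List.mem_range.mpr hn)
  rw [Bool.or_eq_true, List.contains_iff_mem] at h
  rcases h with h | h
  · simpa using h
  exfalso
  simp only [Bool.and_eq_true, Nat.blt_eq, List.all_eq_true, List.mem_range, Bool.not_eq_true'] at h
  obtain ⟨⟨⟨⟨hl, hyw⟩, heq⟩, hmove⟩, hnorm⟩ := h
  set l := (Dat.glue.getD n []).headD 0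
  set yw := (Dat.glue.getD n []).tail
  set vw := conjW (el 1 n) (lw 1 l)
  have hvw : cWord vw = true := cWord_conjW (cWord_el hk1 n) (cWord_lw hk1 l)
  have hv : evC vw = Ev 1 n * Lv 1 l * (Ev 1 n)⁻¹ := evC_conjW _ _
  have hin : ∀ w, cWord w = true →
      (∀ b < 4, ((List.range 16).any fun j => eqW (conjW w (el 0 (2 ^ b))) (el 0 j)) = true) →
      evC w ∈ Subgroup.normalizer (grp 0 hk : Set Cent) := fun w hw hb => by
    refine mem_normalizer_of_map_conj_eq (Subgroup.eq_of_le_of_card_ge ?_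
      (Subgroup.card_map_of_injective (MulEquiv.injective _)).ge)
    rintro _ ⟨_, ⟨j, hj, rfl⟩, rfl⟩
    obtain ⟨T, hT⟩ : ∃ T : List ℕ, Acts (MonoidHom.id Cent) 0 (evC w) T := by
      have h' : ∀ b < 4, ∃ j < 16, evC w * Ev 0 (2 ^ b) * (evC w)⁻¹ = Ev 0 j := fun b hb' => by
        obtain ⟨j, hj, e⟩ := List.any_eq_true.mp (hb b hb')
        refine ⟨j, List.mem_range.mp hj, ?_⟩
        rw [Ev, ← evC_conjW]
        exact evC_eq (cWord_conjW hw (cWord_el hk _)) (cWord_el hk _) e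
      obtain ⟨a, ha, ea⟩ := h' 0 (by omega)
      obtain ⟨b, hb, eb⟩ := h' 1 (by omega)
      obtain ⟨c, hc, ec⟩ := h' 2 (by omega)
      obtain ⟨d, hd, ed⟩ := h' 3 (by omega)
      refine ⟨[a, b, c, d], Acts.of_basis hk fun i hi => ?_⟩
      interval_cases i
      exacts [⟨ha, ea⟩, ⟨hb, eb⟩, ⟨hc, ec⟩, ⟨hd, ed⟩]
    exact ⟨_, (hT j hj).1, (hT j hj).2⟩
  have h1 := pair_norm S hk hA (hin vw hvw fun b hb => (hnorm b hb).1)
  have h2 := pair_norm S hk hA (hin yw hyw fun b hb => (hnorm b hb).2)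
  have hô := pairA_le S hk A (pair_o S hk ho hact)
  have hoy : o * ψ (evC vw) * o⁻¹ = ψ (evC yw) := by
    refine mul_inv_eq_one.mp (pairE_inj S hk hA _ (Subgroup.mul_mem _ (Subgroup.mul_mem _ (Subgroup.mul_mem _ hô h1)
      (Subgroup.inv_mem _ hô)) (Subgroup.inv_mem _ h2)) ?_)
    show gen 3 * inM (evC vw) * (gen 3)⁻¹ * (inM (evC yw))⁻¹ = 1
    rw [mul_inv_eq_one]
    show gen 3 * ((evC vw : Cent) : McLP) * (gen 3)⁻¹ = ((evC yw : Cent) : McLP)
    rw [evC_val hvw, evC_val hyw, ← eqW_iff.mp heq]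
    simp only [conjW, Enum.evW_append, Enum.evW_winv]
    rfl
  -- preimages of elements of the second complement
  let T : Subgroup Cent := A'.comap ψ
  have hTgen : ∀ i < 2, Ev 1 n * Kv 1 i * (Ev 1 n)⁻¹ ∈ T := fun i hi => hA'.gens i hi
  have hTL : ∀ m, Ev 1 n * Lv 1 m * (Ev 1 n)⁻¹ ∈ T := fun m => by
    have := Lv_mem hk1 (S := T.comap (MulAut.conj (Ev 1 n)).toMonoidHom) (fun i hi => hTgen i hi) m
    exact this
  have hyA : ψ (evC yw) ∈ A' := by
    rw [← hoy]
    exact A'.mul_mem (A'.mul_mem ho' (show evC vw ∈ T by rw [hv]; exact hTL l)) (A'.inv_mem ho')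
  obtain ⟨i, hi, m, hm, e⟩ := norm_eq hk1 (S.norm_C hk1 (hA'.le hyA))
  -- compare with the listed elements
  have hy' : evC yw = Ev 1 n * Lv 1 m * (Ev 1 n)⁻¹ := by
    refine mul_inv_eq_one.mp (S.inj (?_ : ψ (evC yw * (Ev 1 n * Lv 1 m * (Ev 1 n)⁻¹)⁻¹) = ψ 1))
    rw [map_one]
    refine hA'.disj _ ?_ ?_
    · rw [map_mul, map_inv]
      exact A'.mul_mem hyA (A'.inv_mem (show Ev 1 n * Lv 1 m * (Ev 1 n)⁻¹ ∈ T from hTL m))
    · obtain ⟨hlt, ea⟩ := acts_Lv (MonoidHom.id Cent) hk1 hm n hn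
      simp only [MonoidHom.id_apply] at ea
      refine mem_Eg.mpr ⟨i ^^^ lin ((lActs 1).getD m []) n ^^^ n, xor_lt (xor_lt hi hlt) hn, congrArg ψ ?_⟩
      rw [← Ev_mul hk1 (xor_lt hi hlt) hn, ← Ev_mul hk1 hi hlt, ← ea, e]
      simp only [mul_inv_rev, inv_inv, inv_eq_of_mul_eq_one_right (Ev_self hk1 hn)]
      group
  have hfix : (evC yw : Cent).1.1 ((Ev 1 n).1.1 (fixP 1)) = (Ev 1 n).1.1 (fixP 1) := by
    rw [hy']
    have hL : Lv 1 m ∈ fixS 1 := Lv_mem hk1 (fun i _ => Kv_fix hk1 i) m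
    show (Ev 1 n).1.1 ((Lv 1 m).1.1 ((Ev 1 n).1.1⁻¹ ((Ev 1 n).1.1 (fixP 1)))) = _
    rw [show ∀ (σ : Perm _) x, σ⁻¹ (σ x) = x from fun σ x => σ.symm_apply_apply x,
      show (Lv 1 m).1.1 (fixP 1) = fixP 1 from hL]
  have hv1 : (((Ev 1 n : Cent) : McLP).1 (fixP 1) : ℕ) = apW (el 1 n) (Dat.fixPt.getD 1 0) := by
    rw [Ev, evC_val (cWord_el hk1 n), ← apW_spec, fixP_val hk1]
  have hv2 : (((evC yw : Cent) : McLP).1 ((Ev 1 n).1.1 (fixP 1)) : ℕ) =
      apW yw (apW (el 1 n) (Dat.fixPt.getD 1 0)) := by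
    rw [evC_val hyw, ← apW_spec, hv1]
  rw [show (evC yw : Cent).1.1 = ((evC yw : Cent) : McLP).1 from rfl] at hfix
  have := congrArg Fin.val hfix
  rw [hv2, hv1] at this
  rw [this] at hmove
  simp at hmove

theorem local_conj {o : G} (S : Setting t ψ) (h1 : LocalOK (gG ψ o) gM (atG 1) (atM 1)) :
    LocalOK (gG ψ o) gM (atG 3) (atM 3) := by
  obtain ⟨-, -, ha1, hb1, -, -, -, -, -, -, hc, hl3, hl3', hred⟩ := atoms_ok
  obtain ⟨H, hinj, -, hat⟩ := h1
  set x := pairC ψ (evC Dat.conjWord)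
  refine ⟨H.map (MulAut.conj x).toMonoidHom, ?_, hl3.trans hl3'.symm, fun i hi => ?_⟩
  · rintro _ ⟨p, hp, rfl⟩ h
    have h2 : p.2 = 1 := by
      have h' : x.2 * p.2 * x.2⁻¹ = 1 := h
      calc p.2 = x.2⁻¹ * (x.2 * p.2 * x.2⁻¹) * x.2 := by group
        _ = 1 := by rw [h', mul_one, inv_mul_cancel]
    show x.1 * p.1 * x.1⁻¹ = 1
    rw [hinj p hp h2, mul_one, mul_inv_cancel]
  · rw [hl3] at hi
    have h := List.all_eq_true.mp hred i (List.mem_range.mpr hi)
    rw [Bool.and_eq_true, decide_eq_true_eq, decide_eq_true_eq] at h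
    have hi1 : i < (atG 1).length := by
      rw [ha1]; simp [(words_k (show 0 < 2 by omega)).2.2.2.1]; omega
    refine ⟨_, hat i hi1, ?_⟩
    rw [MulEquiv.coe_toMonoidHom, MulAut.conj_apply]
    show x * _ * x⁻¹ = _
    rw [← Enum.evW_eq_of_red (gG ψ o) h.1, ← Enum.evW_eq_of_red gM h.2]
    simp only [x, conjW, Enum.evW_append, Enum.evW_winv, evG_cWord ψ o hc, ← evC_val hc]
    rfl

theorem glueW_val (n i : ℕ) : evC (glueW n i) = Ev 1 n * Kv 1 i * (Ev 1 n)⁻¹ := evC_conjW _ _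

/-- The local groups exist. -/
theorem exists_localData (S : Setting t ψ) : ∃ o, LocalData t ψ o := by
  have hk : (0 : ℕ) < 2 := by omega
  have hk1 : (1 : ℕ) < 2 := by omega
  obtain ⟨A, hA⟩ := S.exists_comp hk
  obtain ⟨o, ho, hact⟩ := S.exists_o hA
  have hact2 := second_acts S hA ho hact
  obtain ⟨n, hn, A', hA', ho'⟩ := exists_second S (o_cube S hA ho hact) hact2
  obtain ⟨-, -, ha1, hb1, ha2, hb2, hb4, hdrop, hlen4, hc0, -, -, -, -⟩ := atoms_ok
  have hone : LocalOK (gG ψ o) gM (atG 1) (atM 1) := by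
    refine atom_mem S o hk (A := A) (by rw [ha1]; simp [(words_k hk).2.2.2.1])
      (by rw [hb1, ha1, show cmpl 0 = [[0], [2]] from hc0]; rfl) (by rw [hb1]) (pairE_inj S hk hA)
      (pair_o S hk ho hact) fun i hi => ?_
    have h := pair_gen S hk (n := 0) (by omega) (by rw [Ev_zero]; exact hA) hi
    have e : (atG 1).getD i [] = (cmpl 0).getD i [] := by
      rw [ha1, hc0]
      rcases (by omega : i = 0 ∨ i = 1) with rfl | rfl <;> rfl
    have hc := cWord_getD (words_k hk).2.1 i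
    rw [e, pair_cWord ψ o hc]
    rw [Ev_zero, one_mul, inv_one, mul_one] at h
    exact h
  refine ⟨o, ?_, local_zero S o, hone, ?_⟩
  · intro e
    obtain ⟨hlt, he⟩ := hact 1 (by omega)
    rw [Ev_one 0 hk, S.tau, e, ← S.tau, ← Ev_one 0 hk] at he
    exact oact_ok.2 (Ev_inj hk hlt (by omega) (S.inj he.symm))
  have hsecond : ∀ AG : List (List ℕ), AG.length = 7 → AG.drop 2 = (atM 2).drop 2 →
      (∀ i < 2, cWord (AG.getD i []) = true ∧ eqW (glueW n i) (AG.getD i []) = true) →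
      LocalOK (gG ψ o) gM AG (atM 2) := by
    intro AG hlen hdr hval
    refine atom_mem S o hk1 (A := A') hlen (by rw [hb2, ha2]) hdr (pairE_inj S hk1 hA')
      (pair_o S hk1 ho' hact2) fun i hi => ?_
    obtain ⟨hcw, heq⟩ := hval i hi
    have hc := cWord_getD (words_k hk1).2.1 i
    have hg : cWord (glueW n i) = true := cWord_conjW (cWord_el hk1 n) hc
    rw [evG_cWord ψ o hcw, ← evC_eq hg hcw heq, glueW_val, ← evC_val hc]
    exact pair_gen S hk1 hn hA' hi
  rcases glue_excluded S hA ho hact hn hA' ho' with hn0 | hn0 | hn0 | hn0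
  all_goals first
    | exact Or.inr ⟨hsecond (atG 2) (by rw [ha2]; simp [(words_k hk1).2.2.2.1, (words_k hk1).2.2.2.2.1])
        (by rw [hb2]) (fun i hi => by
          have h := List.all_eq_true.mp (List.all_eq_true.mp glue_good.1 n (List.mem_range.mpr (by omega))) i
            (List.mem_range.mpr hi)
          have e : (atG 2).getD i [] = (cmpl 1).getD i [] := by
            rw [ha2, List.getD_eq_getElem?_getD, List.append_assoc,
              List.getElem?_append_left (by rw [(words_k hk1).2.2.2.2.1]; exact hi), ← List.getD_eq_getElem?_getD]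
          rw [e]
          exact ⟨cWord_getD (words_k hk1).2.1 i, h⟩), local_conj S hone⟩
    | refine Or.inl (by
        rw [hb4, ← hb2]
        refine hsecond (atG 4) hlen4 (by rw [hdrop, hb4, hb2]) (fun i hi => ?_)
        have h := List.all_eq_true.mp (List.all_eq_true.mp glue_good.2 n
          (List.mem_range'_1.mpr ⟨by omega, by omega⟩)) i (List.mem_range.mpr hi)
        rw [Bool.and_eq_true] at h
        exact h)

end CfsgMcLChar
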