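import Cfsg.Agent.Lib.McLChar.Complement

/-!
Pairs of elements of the two normalisers acting alike on a group of order 16.
-/

set_option autoImplicit false
set_option maxRecDepth 100000

namespace CfsgMcLChar

open Subgroup Equiv CfsgLib.McLInvol CfsgPC CfsgLib.Local
open CfsgMcLChar.Enum (evW letG)

attribute [local irreducible] fixChain invT centGens sylGens sylChain

variable {G : Type*} [Group G] [Finite G] {t : G} {ψ : Cent →* G}

/-- The inclusion into the model. -/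
noncomputable abbrev inM : Cent →* McLP := Subgroup.subtype Cent

/-- The pair of an element of the centraliser. -/
noncomputable def pairC (ψ : Cent →* G) : Cent →* G × McLP := ψ.prod inM

theorem pairC_apply (ψ : Cent →* G) (c : Cent) : pairC ψ c = (ψ c, (c : McLP)) := rfl

/-- Pairs acting alike, the first in `A`, the second fixing the point. -/
noncomputable def pairA (S : Setting t ψ) {k : ℕ} (hk : k < 2) (A : Subgroup G) : Subgroup (G × McLP) where
  carrier := {p | p.1 ∈ A ∧ p.2.1 (fixP k) = fixP k ∧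
    ∀ j < 16, ∃ j' < 16, p.1 * ψ (Ev k j) * p.1⁻¹ = ψ (Ev k j') ∧ p.2 * inM (Ev k j) * p.2⁻¹ = inM (Ev k j')}
  one_mem' := ⟨A.one_mem, rfl, fun j hj => ⟨j, hj, by simp, by simp⟩⟩
  mul_mem' := by
    rintro ⟨a, m⟩ ⟨b, n⟩ ⟨ha, hm, ea⟩ ⟨hb, hn, eb⟩
    refine ⟨A.mul_mem ha hb, ?_, fun j hj => ?_⟩
    · show m.1 (n.1 (fixP k)) = fixP k
      rw [show n.1 (fixP k) = fixP k from hn, show m.1 (fixP k) = fixP k from hm]
    · obtain ⟨j1, h1, e1, f1⟩ := eb j hj
      obtain ⟨j2, h2, e2, f2⟩ := ea j1 h1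
      refine ⟨j2, h2, ?_, ?_⟩
      · show a * b * ψ (Ev k j) * (a * b)⁻¹ = _
        rw [← e2, ← e1]; group
      · show m * n * inM (Ev k j) * (m * n)⁻¹ = _
        rw [← f2, ← f1]; group
  inv_mem' := by
    rintro ⟨a, m⟩ ⟨ha, hm, ea⟩
    refine ⟨A.inv_mem ha, ?_, fun j hj => ?_⟩
    · show m.1⁻¹ (fixP k) = fixP k
      rw [Perm.inv_def, Equiv.symm_apply_eq]; exact hm.symm
    · choose f hf h1 h2 using ea
      let F : Fin 16 → Fin 16 := fun i => ⟨f i i.2, hf i i.2⟩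
      have hF : Function.Injective F := fun i i' e => by
        have e' : f i i.2 = f i' i'.2 := congrArg Fin.val e
        have := (h1 i i.2).trans ((congrArg (fun j => ψ (Ev k j)) e').trans (h1 i' i'.2).symm)
        exact Fin.ext (Ev_inj hk i.2 i'.2 (S.inj (mul_left_cancel (mul_right_cancel this))))
      obtain ⟨i, hi⟩ := (Finite.injective_iff_surjective.mp hF) ⟨j, hj⟩
      have e : f i i.2 = j := congrArg Fin.val hi
      refine ⟨i, i.2, ?_, ?_⟩
      · show a⁻¹ * ψ (Ev k j) * a⁻¹⁻¹ = _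
        rw [← e, ← h1 i i.2]; group
      · show m⁻¹ * inM (Ev k j) * m⁻¹⁻¹ = _
        rw [← e, ← h2 i i.2]; group

/-- A product of the pair of an element of the group of order 16 and of a pair acting alike. -/
noncomputable def pairE (S : Setting t ψ) {k : ℕ} (hk : k < 2) (A : Subgroup G) : Subgroup (G × McLP) where
  carrier := {p | ∃ j < 16, ∃ a ∈ pairA S hk A, p = pairC ψ (Ev k j) * a}
  one_mem' := ⟨0, by omega, 1, Subgroup.one_mem _, by rw [Ev_zero, map_one, one_mul]⟩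
  mul_mem' := by
    rintro _ _ ⟨i, hi, a, ha, rfl⟩ ⟨j, hj, b, hb, rfl⟩
    obtain ⟨j', hj', e1, e2⟩ := ha.2.2 j hj
    refine ⟨i ^^^ j', xor_lt hi hj', a * b, Subgroup.mul_mem _ ha hb, ?_⟩
    have e : a * pairC ψ (Ev k j) * a⁻¹ = pairC ψ (Ev k j') := Prod.ext e1 e2
    rw [← Ev_mul hk hi hj', map_mul, ← e]
    group
  inv_mem' := by
    rintro _ ⟨i, hi, a, ha, rfl⟩
    have ha' := Subgroup.inv_mem _ ha
    obtain ⟨i', hi', e1, e2⟩ := ha'.2.2 i hi
    refine ⟨i', hi', a⁻¹, ha', ?_⟩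
    have e : a⁻¹ * pairC ψ (Ev k i) * a⁻¹⁻¹ = pairC ψ (Ev k i') := Prod.ext e1 e2
    rw [← e, mul_inv_rev, ← map_inv, inv_eq_of_mul_eq_one_right (Ev_self hk hi)]
    group

theorem pairE_inj (S : Setting t ψ) {k : ℕ} (hk : k < 2) {A : Subgroup G} {e : Cent} (hA : IsComp ψ k hk e A) :
    ∀ p ∈ pairE S hk A, p.2 = 1 → p.1 = 1 := by
  rintro _ ⟨j, hj, a, ⟨haA, hfix, hact⟩, rfl⟩ h
  have h' : ((Ev k j : Cent) : McLP) * a.2 = 1 := h
  have hj0 : j = 0 := by
    refine Ev_moves hk hj ?_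
    have := congrArg (fun x : McLP => x.1 (fixP k)) h'
    simp only [Subgroup.coe_mul, Perm.mul_apply, hfix, Subgroup.coe_one, Perm.one_apply] at this
    exact this
  subst hj0
  rw [Ev_zero, OneMemClass.coe_one, one_mul] at h'
  show ψ (Ev k 0) * a.1 = 1
  rw [Ev_zero, map_one, one_mul]
  refine hA.disj _ haA (S.Eg_cent hk fun x hx => ?_)
  obtain ⟨i, hi, rfl⟩ := mem_Eg.mp hx
  obtain ⟨i', hi', e1, e2⟩ := hact i hi
  rw [h', one_mul, inv_one, mul_one] at e2
  rw [← Ev_inj hk hi hi' (Subgroup.subtype_injective _ e2)] at e1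
  exact mul_inv_eq_iff_eq_mul.mp e1

theorem pairA_le (S : Setting t ψ) {k : ℕ} (hk : k < 2) (A : Subgroup G) : pairA S hk A ≤ pairE S hk A :=
  fun a ha => ⟨0, by omega, a, ha, by rw [Ev_zero, map_one, one_mul]⟩

theorem pairC_Ev_mem (S : Setting t ψ) {k : ℕ} (hk : k < 2) (A : Subgroup G) {j : ℕ} (hj : j < 16) :
    pairC ψ (Ev k j) ∈ pairE S hk A := ⟨j, hj, 1, Subgroup.one_mem _, (mul_one _).symm⟩

theorem Ev_conj {k : ℕ} (hk : k < 2) {i j : ℕ} (hi : i < 16) (hj : j < 16) :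
    Ev k i * Ev k j * (Ev k i)⁻¹ = Ev k j := by
  rw [inv_eq_of_mul_eq_one_right (Ev_self hk hi), Ev_mul hk hi hj, Ev_mul hk (xor_lt hi hj) hi, Nat.xor_comm i,
    Nat.xor_assoc, Nat.xor_self, Nat.xor_zero]

theorem pair_gen (S : Setting t ψ) {k : ℕ} (hk : k < 2) {A : Subgroup G} {n : ℕ} (hn : n < 16)
    (hA : IsComp ψ k hk (Ev k n) A) {i : ℕ} (hi : i < 2) :
    (ψ (Ev k n * Kv k i * (Ev k n)⁻¹), inM (Kv k i)) ∈ pairA S hk A := by
  refine ⟨hA.gens i hi, Kv_fix hk i, fun j hj => ?_⟩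
  obtain ⟨l, hl, e⟩ : ∃ l < 168, Lv k l = Kv k i := by
    obtain ⟨-, -, l0, l1⟩ := l_facts hk
    obtain ⟨e0, e1⟩ := Kv_lv hk
    rcases (by omega : i = 0 ∨ i = 1) with rfl | rfl
    exacts [⟨_, l0, e0⟩, ⟨_, l1, e1⟩]
  obtain ⟨hlt, h⟩ := acts_Lv (MonoidHom.id Cent) hk hl j hj
  rw [e] at h
  simp only [MonoidHom.id_apply] at h
  refine ⟨_, hlt, ?_, ?_⟩
  · show ψ (Ev k n * Kv k i * (Ev k n)⁻¹) * ψ (Ev k j) * (ψ (Ev k n * Kv k i * (Ev k n)⁻¹))⁻¹ = _
    rw [← map_inv, ← map_mul, ← map_mul]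
    congr 1
    calc Ev k n * Kv k i * (Ev k n)⁻¹ * Ev k j * (Ev k n * Kv k i * (Ev k n)⁻¹)⁻¹
        = Ev k n * (Kv k i * ((Ev k n)⁻¹ * Ev k j * ((Ev k n)⁻¹)⁻¹) * (Kv k i)⁻¹) * (Ev k n)⁻¹ := by group
      _ = _ := by
        rw [inv_eq_of_mul_eq_one_right (Ev_self hk hn), Ev_conj hk hn hj, h]
        have := Ev_conj hk hn hlt
        rwa [inv_eq_of_mul_eq_one_right (Ev_self hk hn)] at this
  · show inM (Kv k i) * inM (Ev k j) * (inM (Kv k i))⁻¹ = _
    rw [← map_inv, ← map_mul, ← map_mul, h]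

theorem pair_norm (S : Setting t ψ) {k : ℕ} (hk : k < 2) {A : Subgroup G} (hA : IsComp ψ k hk 1 A) {c : Cent}
    (hc : c ∈ Subgroup.normalizer (grp k hk : Set Cent)) : pairC ψ c ∈ pairE S hk A := by
  obtain ⟨j, hj, l, hl, rfl⟩ := norm_eq hk hc
  refine ⟨j, hj, pairC ψ (Lv k l), ?_, map_mul _ _ _⟩
  refine Lv_mem hk (S := (pairA S hk A).comap (pairC ψ)) (fun i hi => ?_) l
  have := pair_gen S hk (n := 0) (by omega) (by rw [Ev_zero]; exact hA) hi
  rw [Ev_zero, one_mul, inv_one, mul_one] at this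
  exact this

theorem gC_getD {i : ℕ} (hi : i < 3) : ((gC.getD i 1 : Cent) : McLP) = gen i := by
  rcases (by omega : i = 0 ∨ i = 1 ∨ i = 2) with rfl | rfl | rfl <;> simp [gC, gen_comm]

theorem oact_facts {k : ℕ} (hk : k < 2) : (oAct k).length = 4 ∧ Acts inM k (gen 3) (oAct k) ∧
    (gen 3).1 (fixP k) = fixP k := by
  have h := List.all_eq_true.mp oact_ok.1 k (List.mem_range.mpr hk)
  rw [Bool.and_eq_true] at h
  obtain ⟨hlen, hall⟩ := h
  have hg : evW gM [6] = gen 3 := by rw [Enum.evW_one]; rfl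
  refine ⟨of_decide_eq_true hlen, Acts.of_basis hk fun i hi => ?_, ?_⟩
  · have h := List.all_eq_true.mp hall i (List.mem_range.mpr hi)
    rw [Bool.and_eq_true, Nat.blt_eq] at h
    refine ⟨h.1, ?_⟩
    have := eqW_iff.mp h.2
    rw [conjW, Enum.evW_append, Enum.evW_append, Enum.evW_winv, hg, ← evC_val (cWord_el hk _),
      ← evC_val (cWord_el hk _)] at this
    exact this
  · refine Fin.ext ?_
    rw [← hg, ← apW_spec, fixP_val hk]
    exact (fixPt_facts hk).2.2.1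

theorem pair_o (S : Setting t ψ) {k : ℕ} (hk : k < 2) {A : Subgroup G} {o : G} (ho : o ∈ A)
    (hact : Acts ψ k o (oAct k)) : ((o, gen 3) : G × McLP) ∈ pairA S hk A := by
  obtain ⟨-, hm, hfix⟩ := oact_facts hk
  exact ⟨ho, hfix, fun j hj => ⟨_, (hact j hj).1, (hact j hj).2, (hm j hj).2⟩⟩

theorem lin_id : ∀ i < 16, lin idAct i = i := by decide +kernel

theorem comp_id {T : List ℕ} (h : ∀ x ∈ T, x < 16) : comp idAct T = T := by
  rw [comp]
  conv_rhs => rw [← List.map_id T]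
  exact List.map_congr_left fun x hx => lin_id x (h x hx)

theorem acts_lt {k : ℕ} {x : G} {T : List ℕ} (h : Acts ψ k x T) (hT : T.length = 4) : ∀ y ∈ T, y < 16 := by
  intro y hy
  obtain ⟨i, hi, rfl⟩ := List.getElem_of_mem hy
  have hi4 : i < 4 := hT ▸ hi
  have h2 : 2 ^ i < 16 := by interval_cases i <;> norm_num
  have := (h _ h2).1
  rwa [lin_pow T hi4, List.getD_eq_getElem _ _ hi] at this

/-- The element of a positive word in the two generators of a complement and one more element. -/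
noncomputable def wEl (ψ : Cent →* G) (x : G) : List ℕ → G
  | [] => 1
  | y :: w => (if y = 0 then ψ (Lv 0 ((lWords 0).idxOf [0])) else
      if y = 1 then ψ (Lv 0 ((lWords 0).idxOf [2])) else x) * wEl ψ x w

theorem comp_length (S T : List ℕ) : (comp S T).length = T.length := List.length_map _

theorem wAct_length (R : List ℕ) : ∀ w, (wAct R w).length = 4
  | [] => rfl
  | _ :: w => by rw [wAct, comp_length, wAct_length]

theorem wEl_acts (ψ : Cent →* G) {x : G} {R : List ℕ} (hx : Acts ψ 0 x R) :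
    ∀ w, Acts ψ 0 (wEl ψ x w) (wAct R w) := by
  intro w
  induction w with
  | nil => exact Acts.one (by omega)
  | cons y w ih =>
    rw [wEl, wAct]
    refine Acts.mul (by omega) ?_ ih (wAct_length R w)
    obtain ⟨-, -, l0, l1⟩ := l_facts (k := 0) (by omega)
    split_ifs
    exacts [acts_Lv ψ (by omega) l0, acts_Lv ψ (by omega) l1, hx]

/-- A complement contains an element acting as the fourth generator. -/
theorem Setting.exists_o (S : Setting t ψ) {A : Subgroup G} (hA : IsComp ψ 0 (by omega) 1 A) :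
    ∃ o ∈ A, Acts ψ 0 o (oAct 0) := by
  have hk : (0 : ℕ) < 2 := by omega
  obtain ⟨hlen, hoM, -⟩ := oact_facts hk
  have hu16 : (oAct 0).getD 0 0 < 16 := by
    have := (hoM 1 (by omega)).1
    rwa [show (1 : ℕ) = 2 ^ 0 from rfl, lin_pow _ (by omega)] at this
  have hu0 : (oAct 0).getD 0 0 ≠ 0 := fun e => by
    have h := (hoM 1 (by omega)).2
    rw [show lin (oAct 0) 1 = 0 by rw [show (1 : ℕ) = 2 ^ 0 from rfl, lin_pow _ (by omega), e], Ev_zero, map_one,
      mul_inv_eq_one, mul_eq_left, Ev_one 0 hk] at h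
    exact tauC_ne_one (Subgroup.subtype_injective _ (h.trans (map_one _).symm))
  obtain ⟨h, hN, ht⟩ := S.transitive hk hu16 hu0
  obtain ⟨T, hT4, hT⟩ := S.norm_acts hk hN
  obtain ⟨a0, a, b, c, rfl⟩ : ∃ a0 a b c, T = [a0, a, b, c] := by
    match T, hT4 with
    | [a0, a, b, c], _ => exact ⟨a0, a, b, c, rfl⟩
  have hlt := acts_lt hT rfl
  have ha0 : a0 = (oAct 0).getD 0 0 := by
    obtain ⟨hl, e⟩ := hT 1 (by omega)
    rw [show lin [a0, a, b, c] 1 = a0 from lin_pow [a0, a, b, c] (i := 0) (by omega), Ev_one 0 hk, S.tau, ht] at e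
    exact (Ev_inj hk hu16 (hlt a0 (by simp)) (S.inj e)).symm
  subst ha0
  have hc := List.all_eq_true.mp (List.all_eq_true.mp (List.all_eq_true.mp coset_ok a
    (List.mem_range.mpr (hlt a (by simp)))) b (List.mem_range.mpr (hlt b (by simp)))) c
    (List.mem_range.mpr (hlt c (by simp)))
  simp only [Enum.force_eq] at hc
  generalize ((Dat.cosetTab.getD a []).getD b []).getD c 0 = v at hc
  split at hc
  · obtain ⟨j, hj, e⟩ := List.any_eq_true.mp hc
    rw [List.mem_range'_1] at hj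
    have h' := (hT j (by omega)).2
    rw [Nat.eq_of_beq_eq_true e, Ev_zero, map_one, mul_inv_eq_one, mul_eq_left, ← map_one ψ] at h'
    have := Ev_inj hk (by omega) (by omega) ((S.inj h').trans (Ev_zero 0).symm)
    omega
  rw [Bool.and_eq_true, Nat.blt_eq, decide_eq_true_eq] at hc
  obtain ⟨hl, hcomp⟩ := hc
  set R := Dat.cosetReps.getD ((v - 1) % 8) []
  set x := h * ψ (Lv 0 ((v - 1) / 8))
  have hx : Acts ψ 0 x R := hcomp ▸ Acts.mul hk hT (acts_Lv ψ hk hl) (lacts_len hk hl)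
  have hw := List.all_eq_true.mp coset_words ((v - 1) % 8) (List.mem_range.mpr (Nat.mod_lt _ (by omega)))
  simp only [Bool.and_eq_true, decide_eq_true_eq] at hw
  obtain ⟨-, hw⟩ := hw
  set w := (Dat.cosetWords.getD ((v - 1) % 8) []).tail
  have hy := wEl_acts ψ hx w
  have hyN : ∀ u, wEl ψ x u ∈ Subgroup.normalizer (Eg ψ 0 hk : Set G) := by
    intro u
    induction u with
    | nil => exact Subgroup.one_mem _
    | cons y u ih =>
      obtain ⟨-, -, l0, l1⟩ := l_facts (k := 0) hk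
      rw [wEl]
      refine Subgroup.mul_mem _ ?_ ih
      split_ifs
      exacts [S.Lv_norm hk l0, S.Lv_norm hk l1, Subgroup.mul_mem _ hN (S.Lv_norm hk hl)]
  split at hw
  · obtain ⟨j, hj, o, ho, e⟩ := hA.split _ (hyN w)
    refine ⟨o, ho, ?_⟩
    have heq : o = ψ (Ev 0 j) * wEl ψ x w := by
      rw [e, ← mul_assoc, ← map_mul, Ev_self hk hj, map_one, one_mul]
    have := Acts.mul hk (acts_Ev ψ hk hj) hy (wAct_length R w)
    rw [← heq, comp_id (acts_lt hy (wAct_length R w))] at this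
    rwa [decide_eq_true_eq.mp hw] at this
  · rw [Bool.and_eq_true, Bool.not_eq_true'] at hw
    obtain ⟨hfix, hbad⟩ := hw
    exfalso
    obtain ⟨-, e⟩ := hy 1 (by omega)
    rw [Nat.eq_of_beq_eq_true hfix, Ev_one 0 hk, S.tau] at e
    obtain ⟨d, hd⟩ := S.pre 0 hk _ (hyN w) (mul_inv_eq_iff_eq_mul.mp e)
    obtain ⟨j, hj, l, hl', e'⟩ := norm_eq hk (S.norm_C hk (c := d) (by rw [hd]; exact hyN w))
    have h2 := Acts.mul hk (acts_Ev ψ hk hj) (acts_Lv ψ hk hl') (lacts_len hk hl')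
    rw [← map_mul, ← e', hd, comp_id (acts_lt (acts_Lv ψ hk hl') (lacts_len hk hl'))] at h2
    have heq := Acts.unique S.inj hk hy h2 (wAct_length R w) (lacts_len hk hl')
    have hlen' : l < (lActs 0).length := (words_k hk).2.2.2.2.2.2.1.symm ▸ hl'
    rw [heq, List.getD_eq_getElem _ _ hlen'] at hbad
    simp [List.getElem_mem] at hbad

end CfsgMcLChar
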