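import Cfsg.Agent.Lib.McLChar.SylowFacts
import Cfsg.Agent.Lib.McLChar.ExtraChecks
import Cfsg.Agent.Lib.McLChar.CosetChecks
import Cfsg.Agent.Lib.Local

/-!
A group with an involution whose centraliser is a copy of the model centraliser and which is fused: fusion and
normalisers of the two groups of order 16.
-/

set_option autoImplicit false
set_option maxRecDepth 100000

namespace CfsgMcLChar

open Subgroup Equiv CfsgLib.McLInvol CfsgPC CfsgLib.Local
open CfsgMcLChar.Enum (evW letG)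

attribute [local irreducible] fixChain invT centGens sylGens sylChain

variable {G : Type*} [Group G] [Finite G]

/-- The image of a group of order 16. -/
noncomputable def Eg (ψ : Cent →* G) (k : ℕ) (hk : k < 2) : Subgroup G := (grp k hk).map ψ

/-- The hypotheses: the centraliser agrees with the model near the groups of order 16. -/
structure Setting (t : G) (ψ : Cent →* G) : Prop where
  inj : Function.Injective ψ
  le : ψ.range ≤ Subgroup.centralizer ({t} : Set G)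
  tau : ψ tauC = t
  fused : ∃ g : G, g * t * g⁻¹ ∈ Subgroup.centralizer ({t} : Set G) ∧ g * t * g⁻¹ ≠ t
  conj : ∀ u : Cent, u * u = 1 → u ≠ 1 → u ≠ tauC → ∀ f : G, f * t = t * f → f * f = 1 → f ≠ 1 → f ≠ t →
    ∃ d : G, d * t = t * d ∧ d * f * d⁻¹ = ψ u
  groups : ∀ X : Subgroup G, Nat.card X = 16 → (∀ x ∈ X, x * x = 1) → t ∈ X →
    ∃ k, ∃ hk : k < 2, ∃ d : G, d * t = t * d ∧ X = (Eg ψ k hk).map (MulAut.conj d).toMonoidHom
  pre : ∀ k, ∀ hk : k < 2, ∀ g : G, g ∈ Subgroup.normalizer (Eg ψ k hk : Set G) → g * t = t * g →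
    ∃ c : Cent, ψ c = g

variable {t : G} {ψ : Cent →* G}

/-- The hypotheses hold when the centraliser is the whole image. -/
theorem Setting.ofRange (inj : Function.Injective ψ) (range : ψ.range = Subgroup.centralizer ({t} : Set G))
    (tau : ψ tauC = t) (fused : ∃ g : G, g * t * g⁻¹ ∈ Subgroup.centralizer ({t} : Set G) ∧ g * t * g⁻¹ ≠ t) :
    Setting t ψ := by
  have hpre : ∀ g : G, g * t = t * g → ∃ c : Cent, ψ c = g := fun g hg =>
    MonoidHom.mem_range.mp (range.symm ▸ Subgroup.mem_centralizer_singleton_iff.mpr hg)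
  have hcom : ∀ c : Cent, ψ c * t = t * ψ c := fun c =>
    Subgroup.mem_centralizer_singleton_iff.mp (range ▸ ⟨c, rfl⟩)
  refine ⟨inj, range.le, tau, fused, fun u h2 h1 hu f hft hff hf1 hfne => ?_, fun X hX h2 ht => ?_, fun k hk g _ hg => hpre g hg⟩
  · obtain ⟨x, rfl⟩ := hpre f hft
    have hx2 : x * x = 1 := inj (by rw [map_mul, hff, map_one])
    obtain ⟨c, hc⟩ := inv_conj hx2 (fun e => hf1 (by rw [e, map_one])) (fun e => hfne (by rw [e, tau]))
    obtain ⟨d, hd⟩ := inv_conj h2 h1 hu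
    refine ⟨ψ (d * c⁻¹), hcom _, ?_⟩
    rw [hc, hd, ← map_inv, ← map_mul, ← map_mul]
    congr 1
    group
  · have hle : X ≤ ψ.range := fun x hx => by
      rw [range, Subgroup.mem_centralizer_singleton_iff]
      have hxi := inv_eq_of_mul_eq_one_right (h2 x hx)
      have := inv_eq_of_mul_eq_one_right (h2 _ (X.mul_mem hx ht))
      rw [mul_inv_rev, hxi, inv_eq_of_mul_eq_one_right (h2 t ht)] at this
      exact this.symm
    have hmap : (X.comap ψ).map ψ = X := Subgroup.map_comap_eq_self hle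
    have hcard : Nat.card (X.comap ψ) = 16 := by
      rw [← hX]
      conv_rhs => rw [← hmap]
      exact (Subgroup.card_map_of_injective inj).symm
    obtain ⟨k, hk, c, hc⟩ := e16_conj hcard (fun x hx => inj (by rw [map_mul, h2 _ hx, map_one]))
      (show ψ tauC ∈ X by rw [tau]; exact ht)
    refine ⟨k, hk, ψ c, hcom c, ?_⟩
    rw [← hmap, hc, Eg, Subgroup.map_map, Subgroup.map_map]
    congr 1
    ext x
    simp [MulAut.conj_apply]

theorem tauC_ne_one : tauC ≠ (1 : Cent) := fun h => absurd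
  (Ev_inj (k := 0) (i := 1) (j := 0) (by omega) (by omega) (by omega) (by rw [Ev_one 0 (by omega), Ev_zero, h]))
  one_ne_zero

theorem Setting.t_ne (S : Setting t ψ) : t ≠ 1 := fun h => tauC_ne_one (S.inj (by rw [S.tau, map_one, h]))

theorem Setting.t_sq (S : Setting t ψ) : t * t = 1 := by
  rw [← S.tau, ← map_mul, show tauC * tauC = 1 from Subtype.ext tau_sq, map_one]

theorem Setting.mem_C (S : Setting t ψ) (c : Cent) : ψ c * t = t * ψ c := by
  have : ψ c ∈ Subgroup.centralizer ({t} : Set G) := S.le ⟨c, rfl⟩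
  exact Subgroup.mem_centralizer_singleton_iff.mp this

theorem mem_Eg {k : ℕ} {hk : k < 2} {g : G} : g ∈ Eg ψ k hk ↔ ∃ j < 16, g = ψ (Ev k j) :=
  ⟨fun ⟨_, ⟨j, hj, e⟩, h⟩ => ⟨j, hj, by rw [← h, e]⟩, fun ⟨j, hj, e⟩ => ⟨Ev k j, ⟨j, hj, rfl⟩, e.symm⟩⟩

theorem Setting.t_mem (S : Setting t ψ) {k : ℕ} (hk : k < 2) : t ∈ Eg ψ k hk :=
  mem_Eg.mpr ⟨1, by omega, by rw [Ev_one k hk, S.tau]⟩

theorem Setting.Eg_sq (_S : Setting t ψ) {k : ℕ} {hk : k < 2} {g : G} (hg : g ∈ Eg ψ k hk) : g * g = 1 := by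
  obtain ⟨j, hj, rfl⟩ := mem_Eg.mp hg
  rw [← map_mul, Ev_self hk hj, map_one]

theorem Setting.card_Eg (S : Setting t ψ) {k : ℕ} (hk : k < 2) : Nat.card (Eg ψ k hk) = 16 :=
  (Subgroup.card_map_of_injective S.inj).trans (card_grp hk)

theorem Setting.conj_t (S : Setting t ψ) {u : Cent} (h2 : u * u = 1) (h1 : u ≠ 1) :
    ∃ g : G, g * t * g⁻¹ = ψ u := by
  obtain ⟨g, hg, hne⟩ := S.fused
  by_cases hu : u = tauC
  · exact ⟨1, by rw [hu, S.tau, one_mul, inv_one, mul_one]⟩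
  have hf2 : g * t * g⁻¹ * (g * t * g⁻¹) = 1 := by
    calc g * t * g⁻¹ * (g * t * g⁻¹) = g * (t * t) * g⁻¹ := by group
      _ = 1 := by rw [S.t_sq, mul_one, mul_inv_cancel]
  have hf1 : g * t * g⁻¹ ≠ 1 := fun e => S.t_ne (conj_eq_one_iff.mp e)
  obtain ⟨d, -, hd⟩ := S.conj u h2 h1 hu _ (Subgroup.mem_centralizer_singleton_iff.mp hg) hf2 hf1 hne
  exact ⟨d * g, by rw [← hd]; group⟩

theorem move_lin {k : ℕ} (hk : k < 2) {j : ℕ} (h2 : 2 ≤ j) (hj : j < 16) :
    ∃ l < 168, lin ((lActs k).getD l []) 2 = j := by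
  have h := List.all_eq_true.mp (List.all_eq_true.mp trans_ok k (List.mem_range.mpr hk)) j
    (List.mem_range'_1.mpr ⟨h2, by omega⟩)
  simp only [List.any_eq_true, List.mem_range, Bool.and_eq_true] at h
  obtain ⟨l, hl, h, -⟩ := h
  exact ⟨l, hl, Nat.eq_of_beq_eq_true h⟩

theorem l_facts {k : ℕ} (hk : k < 2) : Lv k 0 = 1 ∧ (lActs k).getD 0 [] = idAct ∧
    (lWords k).idxOf [0] < 168 ∧ (lWords k).idxOf [2] < 168 := by
  have h := List.all_eq_true.mp l_zero k (List.mem_range.mpr hk)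
  simp only [Bool.and_eq_true, decide_eq_true_eq, Nat.blt_eq] at h
  refine ⟨?_, h.1.1.2, h.1.2, h.2⟩
  rw [Lv, lw, h.1.1.1]
  rfl

theorem Setting.norm_acts (S : Setting t ψ) {k : ℕ} (hk : k < 2) {n : G}
    (hn : n ∈ Subgroup.normalizer (Eg ψ k hk : Set G)) :
    ∃ T : List ℕ, T.length = 4 ∧ Acts ψ k n T := by
  have h : ∀ i < 4, ∃ j < 16, n * ψ (Ev k (2 ^ i)) * n⁻¹ = ψ (Ev k j) := fun i hi => by
    have h2 : 2 ^ i < 16 := by interval_cases i <;> norm_num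
    exact mem_Eg.mp ((Subgroup.mem_normalizer_iff.mp hn _).mp (mem_Eg.mpr ⟨_, h2, rfl⟩))
  obtain ⟨a, ha, ea⟩ := h 0 (by omega)
  obtain ⟨b, hb, eb⟩ := h 1 (by omega)
  obtain ⟨c, hc, ec⟩ := h 2 (by omega)
  obtain ⟨d, hd, ed⟩ := h 3 (by omega)
  refine ⟨[a, b, c, d], rfl, Acts.of_basis hk fun i hi => ?_⟩
  interval_cases i
  exacts [⟨ha, ea⟩, ⟨hb, eb⟩, ⟨hc, ec⟩, ⟨hd, ed⟩]

theorem Setting.norm_C (S : Setting t ψ) {k : ℕ} (hk : k < 2) {c : Cent}
    (hn : ψ c ∈ Subgroup.normalizer (Eg ψ k hk : Set G)) : c ∈ Subgroup.normalizer (grp k hk : Set Cent) := by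
  refine Subgroup.mem_normalizer_iff.mpr fun y => ?_
  have h := Subgroup.mem_normalizer_iff.mp hn (ψ y)
  rw [← map_inv, ← map_mul, ← map_mul, Eg, Subgroup.mem_map_iff_mem S.inj, Subgroup.mem_map_iff_mem S.inj] at h
  exact h

theorem Setting.Eg_cent (S : Setting t ψ) {k : ℕ} (hk : k < 2) {x : G}
    (hx : ∀ e ∈ Eg ψ k hk, x * e = e * x) : x ∈ Eg ψ k hk := by
  obtain ⟨c, rfl⟩ := S.pre k hk x (Subgroup.mem_normalizer_iff.mpr fun e => ⟨fun he => by
      rwa [hx e he, mul_inv_cancel_right], fun he => by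
      have h2 := hx _ he
      rwa [show e = x * e * x⁻¹ from mul_left_cancel (by rw [h2, inv_mul_cancel_right])]⟩) (hx t (S.t_mem hk))
  have hc : ∀ y ∈ grp k hk, c * y = y * c := fun y hy =>
    S.inj (by rw [map_mul, map_mul]; exact hx _ (Subgroup.mem_map_of_mem ψ hy))
  have hn : c ∈ Subgroup.normalizer (grp k hk : Set Cent) := by
    refine Subgroup.mem_normalizer_iff.mpr fun y => ⟨fun hy => ?_, fun hy => ?_⟩
    · rw [hc y hy, mul_inv_cancel_right]; exact hy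
    · have := hc _ hy
      have e : c * y * c⁻¹ = y := by
        have h2 : c * (c * y * c⁻¹) = c * y := by rw [this, inv_mul_cancel_right]
        exact mul_left_cancel h2
      rwa [e] at hy
  obtain ⟨j, hj, l, hl, e⟩ := norm_eq hk hn
  refine mem_Eg.mpr ⟨j, hj, ?_⟩
  have hid : Acts ψ k (ψ (Lv k l)) idAct := Acts.of_basis hk fun i hi => by
    have h2 : 2 ^ i < 16 := by interval_cases i <;> norm_num
    have e2 : idAct.getD i 0 = 2 ^ i := by interval_cases i <;> rfl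
    rw [e2]
    refine ⟨h2, ?_⟩
    rw [← map_inv, ← map_mul, ← map_mul]
    congr 1
    have h3 := hc _ ⟨2 ^ i, h2, rfl⟩
    rw [mul_inv_eq_iff_eq_mul]
    rw [e, mul_assoc (Ev k j)] at h3
    have hcom : Ev k (2 ^ i) * Ev k j = Ev k j * Ev k (2 ^ i) := by
      rw [Ev_mul hk h2 hj, Ev_mul hk hj h2, Nat.xor_comm]
    rw [← mul_assoc (Ev k (2 ^ i)), hcom, mul_assoc (Ev k j)] at h3
    exact mul_left_cancel h3
  obtain ⟨h0, h0a, -, -⟩ := l_facts hk
  have hl0 : l = 0 := lacts_inj hk hl (by omega) ((Acts.unique S.inj hk (acts_Lv ψ hk hl) hid (lacts_len hk hl)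
    rfl).trans h0a.symm)
  rw [e, hl0, h0, mul_one]

/-- The normaliser is transitive on the involutions of a group of order 16. -/
theorem Setting.transitive (S : Setting t ψ) {k : ℕ} (hk : k < 2) {j : ℕ} (hj : j < 16) (h0 : j ≠ 0) :
    ∃ h ∈ Subgroup.normalizer (Eg ψ k hk : Set G), h * t * h⁻¹ = ψ (Ev k j) := by
  classical
  have hLN : ∀ k, ∀ hk : k < 2, ∀ l < 168, ψ (Lv k l) ∈ Subgroup.normalizer (Eg ψ k hk : Set G) := by
    intro k hk l hl
    refine mem_normalizer_of_map_conj_eq (Subgroup.eq_of_le_of_card_ge ?_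
      (Subgroup.card_map_of_injective (MulEquiv.injective _)).ge)
    rintro _ ⟨x, hx, rfl⟩
    obtain ⟨i, hi, rfl⟩ := mem_Eg.mp hx
    obtain ⟨hlt, e⟩ := acts_Lv ψ hk hl i hi
    exact mem_Eg.mpr ⟨_, hlt, e⟩
  have hLt : ∀ k, k < 2 → ∀ l, l < 168 → ψ (Lv k l) * t * (ψ (Lv k l))⁻¹ = t := fun k hk l hl => by
    have h := (acts_Lv ψ hk hl 1 (by omega)).2
    rwa [lin_lact_one hk hl, Ev_one k hk, S.tau] at h
  have two : ∀ k, k < 2 → ∀ i, 2 ≤ i → i < 16 → ∀ i', 2 ≤ i' → i' < 16 → ∀ hk : k < 2,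
      ∃ n ∈ Subgroup.normalizer (Eg ψ k hk : Set G), n * t * n⁻¹ = t ∧
        n * ψ (Ev k i) * n⁻¹ = ψ (Ev k i') := by
    intro k _ i hi hi16 i' hi' hi16' hk
    obtain ⟨l, hl, e⟩ := move_lin hk hi hi16
    obtain ⟨l', hl', e'⟩ := move_lin hk hi' hi16'
    obtain ⟨-, a⟩ := acts_Lv ψ hk hl 2 (by omega)
    obtain ⟨-, a'⟩ := acts_Lv ψ hk hl' 2 (by omega)
    rw [e] at a
    rw [e'] at a'
    refine ⟨ψ (Lv k l') * (ψ (Lv k l))⁻¹, Subgroup.mul_mem _ (hLN k hk l' hl') (Subgroup.inv_mem _ (hLN k hk l hl)),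
      ?_, ?_⟩
    · calc ψ (Lv k l') * (ψ (Lv k l))⁻¹ * t * (ψ (Lv k l') * (ψ (Lv k l))⁻¹)⁻¹
          = ψ (Lv k l') * ((ψ (Lv k l))⁻¹ * t * ψ (Lv k l)) * (ψ (Lv k l'))⁻¹ := by group
        _ = t := by
          rw [show (ψ (Lv k l))⁻¹ * t * ψ (Lv k l) = t by
            rw [mul_assoc, ← S.mem_C, inv_mul_cancel_left], hLt k hk l' hl']
    · rw [← a, ← a']; group
  have split : ∀ i, i < 16 → i ≠ 0 → i ≠ 1 → 2 ≤ i := fun i _ a b => by omega
  by_cases hall : ∀ n ∈ Subgroup.normalizer (Eg ψ k hk : Set G), n * t * n⁻¹ = t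
  swap
  · push Not at hall
    obtain ⟨n, hn, hne⟩ := hall
    obtain ⟨i, hi, e⟩ := mem_Eg.mp ((Subgroup.mem_normalizer_iff.mp hn t).mp (S.t_mem hk))
    have hi0 : i ≠ 0 := fun h => by
      rw [h, Ev_zero, map_one] at e
      exact S.t_ne (by simpa using e)
    have hi1 : i ≠ 1 := fun h => hne (by rw [e, h, Ev_one k hk, S.tau])
    by_cases hj1 : j = 1
    · exact ⟨1, Subgroup.one_mem _, by rw [hj1, Ev_one k hk, S.tau, one_mul, inv_one, mul_one]⟩
    obtain ⟨m, hm, -, em⟩ := two k hk i (split i hi hi0 hi1) hi j (split j hj h0 hj1) hj hk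
    refine ⟨m * n, Subgroup.mul_mem _ hm hn, ?_⟩
    rw [← em, ← e]
    group
  exfalso
  have h2 : (2 : ℕ) < 16 := by omega
  have hne1 : Ev k 2 ≠ 1 := fun h => absurd (Ev_inj hk h2 (by omega) (h.trans (Ev_zero k).symm)) (by omega)
  obtain ⟨g, hg⟩ := S.conj_t (Ev_self hk h2) hne1
  set X := (Eg ψ k hk).map (MulAut.conj g⁻¹).toMonoidHom
  have htX : t ∈ X := ⟨ψ (Ev k 2), mem_Eg.mpr ⟨2, h2, rfl⟩, by
    show g⁻¹ * ψ (Ev k 2) * (g⁻¹)⁻¹ = t
    rw [← hg]; group⟩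
  obtain ⟨k', hk', c, hct, hc⟩ := S.groups X ((Subgroup.card_map_of_injective (MulEquiv.injective _)).trans (S.card_Eg hk))
    (by rintro _ ⟨x, hx, rfl⟩; rw [← map_mul, S.Eg_sq hx, map_one]) htX
  set g' := g * c
  have hmap : (Eg ψ k' hk').map (MulAut.conj g').toMonoidHom = Eg ψ k hk := by
    have h := congrArg (fun H : Subgroup G => H.map (MulAut.conj g).toMonoidHom) hc
    simp only [X, Subgroup.map_map] at h
    rw [show (MulAut.conj g).toMonoidHom.comp (MulAut.conj g⁻¹).toMonoidHom = MonoidHom.id G by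
      ext x; simp [mul_assoc], Subgroup.map_id] at h
    rw [h]
    congr 1
    ext x
    simp [g', mul_assoc]
  have hg' : g' * t * g'⁻¹ = ψ (Ev k 2) := by
    rw [← hg]
    show g * c * t * (g * c)⁻¹ = _
    rw [mul_assoc g c t, hct]
    group
  have ht' : t ∈ (Eg ψ k' hk').map (MulAut.conj g').toMonoidHom := hmap.symm ▸ S.t_mem hk
  obtain ⟨w, hw, hwt⟩ := ht'
  obtain ⟨i, hi, rfl⟩ := mem_Eg.mp hw
  change g' * ψ (Ev k' i) * g'⁻¹ = t at hwt
  have hi0 : i ≠ 0 := fun h => by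
    rw [h, Ev_zero, map_one, mul_one, mul_inv_cancel] at hwt
    exact S.t_ne hwt.symm
  have hi1 : i ≠ 1 := fun h => by
    rw [h, Ev_one k' hk', S.tau, hg'] at hwt
    have := Ev_inj hk h2 (by omega : 1 < 16) (S.inj (by rw [hwt, Ev_one k hk, S.tau]))
    omega
  obtain ⟨n, hn, -, en⟩ := two k' hk' i (split i hi hi0 hi1) hi (if i = 2 then 3 else 2) (by split <;> omega)
    (by split <;> omega) hk'
  have hN : g' * n * g'⁻¹ ∈ Subgroup.normalizer (Eg ψ k hk : Set G) := by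
    refine mem_normalizer_of_map_conj_eq (Subgroup.eq_of_le_of_card_ge ?_
      (Subgroup.card_map_of_injective (MulEquiv.injective _)).ge)
    rintro _ ⟨x, hx, rfl⟩
    rw [← hmap] at hx
    obtain ⟨y, hy, rfl⟩ := hx
    rw [← hmap]
    refine ⟨n * y * n⁻¹, (Subgroup.mem_normalizer_iff.mp hn y).mp hy, ?_⟩
    simp [mul_assoc]
  have h := hall _ hN
  have e : g' * n * g'⁻¹ * t * (g' * n * g'⁻¹)⁻¹ = g' * (n * ψ (Ev k' i) * n⁻¹) * g'⁻¹ := by
    rw [← hwt]; group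
  rw [e, en] at h
  have := (MulAut.conj g').injective (show MulAut.conj g' (ψ (Ev k' (if i = 2 then 3 else 2))) =
    MulAut.conj g' (ψ (Ev k' i)) by rw [MulAut.conj_apply, MulAut.conj_apply, h, hwt])
  have := Ev_inj hk' (by split <;> omega) hi (S.inj this)
  split at this <;> omega

end CfsgMcLChar
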