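import Cfsg.Agent.Lib.McLChar.Model

/-!
Kernel checks in a Sylow 2-subgroup of the centraliser.
-/

set_option autoImplicit false
set_option maxRecDepth 100000
set_option maxHeartbeats 4000000

namespace CfsgMcLChar

open CfsgLib.McLInvol CfsgPC

/-- The action of a product of Sylow elements. -/
def evL (ms : List ℕ) (i : ℕ) : ℕ := ms.foldr ev i

/-- Two products of Sylow elements agree. -/
def eqE (u v : List ℕ) : Bool := bs.all fun b => Nat.beq (evL u b) (evL v b)

/-- The number of the central involution in the Sylow group. -/
def tauM : ℕ := (Dat.sylKnown.getD 0 []).getD 3 0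

/-- A known group contains the three given elements. -/
def inKnown (a b c : ℕ) : Bool :=
  Dat.sylKnown.any fun K => (K.drop 2).contains a && (K.drop 2).contains b && (K.drop 2).contains c

theorem syl_comm : (sylGens.all fun c => (List.range 275).all fun p =>
    Nat.beq (ap c.1 (ap invT.1 p)) (ap invT.1 (ap c.1 p))) = true := by decide +kernel

theorem syl_known : (Dat.sylKnown.all fun K => Nat.blt (K.getD 0 0) 2 && Nat.blt (K.getD 1 0) 15 &&
    decide (K.length = 18) &&
    (List.range 16).all fun j => Nat.blt (K.getD (j + 2) 0) 128 &&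
      bs.all fun b => Nat.beq (ev (K.getD (j + 2) 0) b) (apW (conjEl (K.getD 0 0) (K.getD 1 0) j) b)) = true ∧
    (List.range 275).all (fun b => Nat.beq (ev tauM b) (ap invT.1 b)) = true := by decide +kernel

theorem syl_invs : ((List.range 128).all fun m => Dat.sylInv.contains m || !eqE [m, m] [] || eqE [m] []) = true ∧
    (Dat.sylInv.all fun m => Nat.blt m 128) = true := by decide +kernel

theorem syl_conj : ((List.range Dat.sylInv.length).all fun n =>
    eqE [Dat.sylInv.getD n 0] [tauM] || (cWord (Dat.sylConj.getD n []) &&
      bs.all fun b => Nat.beq (ev (Dat.sylInv.getD n 0) b) (apW (conjW (Dat.sylConj.getD n []) (el 0 2)) b))) = true := by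
  decide +kernel

theorem syl_triples : (Dat.sylInv.all fun a => eqE [a] [tauM] || Dat.sylInv.all fun b =>
    !eqE [a, b] [b, a] || eqE [b] [tauM] || eqE [b] [a] || eqE [b] [tauM, a] ||
      Dat.sylInv.all fun c => !eqE [a, c] [c, a] || !eqE [b, c] [c, b] || eqE [c] [tauM] || eqE [c] [a] ||
        eqE [c] [tauM, a] || eqE [c] [b] || eqE [c] [tauM, b] || eqE [c] [a, b] || eqE [c] [tauM, a, b] ||
        inKnown a b c) = true := by decide +kernel

end CfsgMcLChar
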