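import Cfsg.Agent.Lib.McLChar.Action
import Cfsg.Agent.Lib.McLChar.SylowChecks

/-!
The involutions and the elementary abelian groups of order 16 of the centraliser.
-/

set_option autoImplicit false
set_option maxRecDepth 100000

namespace CfsgMcLChar

open Subgroup Equiv CfsgLib.McLInvol CfsgPC CfsgLeech.Models
open CfsgMcLChar.Enum (evW)

attribute [local irreducible] fixChain invT sylGens sylChain Dat.sylInv Dat.sylKnown Dat.sylConj

/-- A permutation of the Sylow group numbered `m`. -/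
def Num (m : ℕ) (x : Perm (Fin 275)) : Prop := ∀ i : Fin 275, ev m i = (x i : ℕ)

theorem exists_num {x : Perm (Fin 275)} (hx : x ∈ SylTwo) : ∃ m < 128, Num m x := by
  have hmem : x ∈ prodSet 275 sylChain := by rw [syl_eq.1]; exact hx
  obtain ⟨-, hlens, -⟩ := syl_shape
  rcases hsub : sylChain with _ | ⟨L0, _ | ⟨L1, _ | ⟨L2, t⟩⟩⟩ <;> rw [hsub] at hlens <;> simp at hlens
  obtain ⟨h0, h1⟩ := hlens
  rw [hsub] at hmem
  obtain ⟨a, ha, T0, hT0, y, ⟨b, hb, T1, hT1, w, hw, rfl⟩, rfl⟩ := hmem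
  obtain rfl : w = 1 := hw
  refine ⟨2 * a + b, by omega, fun i => ?_⟩
  rw [mul_one, ev, show (2 * a + b) / 2 = a by omega, show (2 * a + b) % 2 = b by omega, hsub]
  show ap (L0.tc a) (ap (L1.tc b) i) = _
  rw [hT1 i, hT0 (T1 i)]
  rfl

theorem syl_le_cent {x : Perm (Fin 275)} (hx : x ∈ SylTwo) : (⟨x, syl_le hx⟩ : McLP) ∈ Cent := by
  refine mem_centralizer_singleton_iff.mpr (Subtype.ext ?_)
  show x * tau.1 = tau.1 * x
  have h : x ∈ Subgroup.centralizer ({tau.1} : Set (Perm (Fin 275))) := by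
    refine (Subgroup.closure_le _).2 ?_ hx
    rintro g ⟨c, hc, hg⟩
    obtain ⟨d, hd, rfl⟩ := List.mem_map.mp hc
    refine Subgroup.mem_centralizer_singleton_iff.mpr (Equiv.ext fun p => Fin.ext ?_)
    rw [Perm.mul_apply, Perm.mul_apply, ← hg, ← tau_ap, ← tau_ap, ← hg]
    exact Nat.eq_of_beq_eq_true (List.all_eq_true.mp (List.all_eq_true.mp syl_comm d hd) p (List.mem_range.mpr p.2))
  exact Subgroup.mem_centralizer_singleton_iff.mp h

/-- The Sylow group inside the centraliser. -/
noncomputable def sylC : Subgroup Cent := SylTwo.comap (McLP.subtype.comp (Subgroup.subtype Cent))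

theorem card_sylC : Nat.card sylC = 128 := by
  rw [← syl_eq.2]
  exact Nat.card_congr
    { toFun := fun g => ⟨g.1.1.1, g.2⟩
      invFun := fun x => ⟨⟨⟨x.1, syl_le x.2⟩, syl_le_cent x.2⟩, x.2⟩
      left_inv := fun _ => rfl
      right_inv := fun _ => rfl }

theorem card_cent : Nat.card Cent = 40320 := by
  obtain ⟨h2, ⟨e⟩, -⟩ := double_cover
  have h := (Subgroup.center Cent).card_mul_index
  rw [h2, Subgroup.index, Nat.card_congr e.toEquiv, nat_card_alternatingGroup, Nat.card_fin] at h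
  rw [← h]
  decide

theorem exists_conj_sylC {H : Subgroup Cent} (hH : IsPGroup 2 H) :
    ∃ c : Cent, H.map (MulAut.conj c).toMonoidHom ≤ sylC := by
  haveI : Fact (Nat.Prime 2) := ⟨Nat.prime_two⟩
  have hf : 2 ^ (Nat.card Cent).factorization 2 = 128 := by
    rw [card_cent, show 40320 = 2 ^ 7 * 315 by norm_num, Nat.factorization_mul (by norm_num) (by norm_num),
      Nat.Prime.factorization_pow Nat.prime_two, Finsupp.add_apply, Finsupp.single_eq_same,
      Nat.factorization_eq_zero_of_not_dvd (by norm_num)]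
    rfl
  let S : Sylow 2 Cent := Sylow.ofCard sylC (card_sylC.trans hf.symm)
  obtain ⟨Q, hQ⟩ := hH.exists_le_sylow
  obtain ⟨u, hu⟩ := MulAction.exists_smul_eq Cent Q S
  refine ⟨u, fun y hy => ?_⟩
  obtain ⟨x, hx, rfl⟩ := hy
  have : MulAut.conj u • x ∈ (u • Q : Sylow 2 Cent).toSubgroup := by
    rw [Sylow.coe_subgroup_smul]
    exact Subgroup.smul_mem_pointwise_smul _ _ _ (hQ hx)
  rw [hu] at this
  exact this

theorem num_of_sylC {x : Cent} (hx : x ∈ sylC) : ∃ m < 128, Num m x.1.1 := exists_num hx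

theorem val_mul (a b : Cent) : (a * b).1.1 = a.1.1 * b.1.1 := rfl

theorem evL_num {ms : List ℕ} {xs : List Cent} (h : List.Forall₂ (fun m (x : Cent) => Num m x.1.1) ms xs)
    (i : Fin 275) : evL ms i = ((xs.prod : Cent).1.1 i : ℕ) := by
  induction h with
  | nil => rfl
  | @cons m x ms xs hm _ ih =>
    show ev m (evL ms i) = _
    rw [ih, hm]
    rfl

theorem eqE_iff {u v : List ℕ} {xs ys : List Cent} (hu : List.Forall₂ (fun m (x : Cent) => Num m x.1.1) u xs)
    (hv : List.Forall₂ (fun m (x : Cent) => Num m x.1.1) v ys) : eqE u v = true ↔ xs.prod = ys.prod := by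
  unfold eqE
  rw [List.all_eq_true]
  constructor
  · intro h
    refine Subtype.ext (Subtype.ext (agree xs.prod.1.2 ys.prod.1.2 fun i hi => Fin.ext ?_))
    rw [← evL_num hu, ← evL_num hv]
    exact Nat.eq_of_beq_eq_true (h i hi)
  · intro h b hb
    have e1 := evL_num hu ⟨b, bs_lt b hb⟩
    have e2 := evL_num hv ⟨b, bs_lt b hb⟩
    rw [h] at e1
    simp only at e1 e2
    rw [e1, e2]
    exact Nat.beq_refl _

theorem num_tau : Num tauM tauC.1.1 := fun i => by
  rw [show tauC.1.1 = tau.1 from rfl, ← tau_ap]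
  exact Nat.eq_of_beq_eq_true (List.all_eq_true.mp syl_known.2 i (List.mem_range.mpr i.2))

theorem conj_tauC (c : Cent) : c * tauC * c⁻¹ = tauC := by
  have h : tauC ∈ Subgroup.center Cent := center_cent ▸ Subgroup.mem_zpowers _
  rw [Subgroup.mem_center_iff.mp h c, mul_inv_cancel_right]

theorem num_pair {a b : ℕ} {x y : Cent} (ha : Num a x.1.1) (hb : Num b y.1.1) :
    List.Forall₂ (fun m (x : Cent) => Num m x.1.1) [a, b] [x, y] := .cons ha (.cons hb .nil)

theorem num_one {a : ℕ} {x : Cent} (ha : Num a x.1.1) :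
    List.Forall₂ (fun m (x : Cent) => Num m x.1.1) [a] [x] := .cons ha .nil

theorem eqE_one {a b : ℕ} {x y : Cent} (ha : Num a x.1.1) (hb : Num b y.1.1) : eqE [a] [b] = true ↔ x = y := by
  rw [eqE_iff (num_one ha) (num_one hb)]; simp

theorem mem_sylInv {x : Cent} {m : ℕ} (hm : m < 128) (hx : Num m x.1.1) (h2 : x * x = 1) (h1 : x ≠ 1) :
    m ∈ Dat.sylInv := by
  have h := List.all_eq_true.mp syl_invs.1 m (List.mem_range.mpr hm)
  simp only [Bool.or_eq_true, Bool.not_eq_true', List.contains_iff_mem] at h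
  rcases h with (h | h) | h
  · exact h
  · exact absurd ((eqE_iff (num_pair hx hx) List.Forall₂.nil).mpr (by simpa using h2)) (by rw [h]; simp)
  · exact absurd (by simpa using (eqE_iff (num_one hx) List.Forall₂.nil).mp h) h1

/-- Every involution of the centraliser other than the central one is conjugate to a fixed one. -/
theorem inv_conj {x : Cent} (h2 : x * x = 1) (h1 : x ≠ 1) (ht : x ≠ tauC) : ∃ c : Cent, x = c * Ev 0 2 * c⁻¹ := by
  obtain ⟨d, hd⟩ := exists_conj_sylC (IsPGroup.of_card (n := 1) (G := Subgroup.zpowers x) (by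
    rw [Nat.card_zpowers, pow_one]; exact orderOf_eq_prime (by rw [pow_two, h2]) h1))
  set y := MulAut.conj d x
  have hy : y ∈ sylC := hd (Subgroup.mem_map_of_mem _ (Subgroup.mem_zpowers x))
  obtain ⟨m, hm, hnum⟩ := num_of_sylC hy
  have hy2 : y * y = 1 := by rw [← map_mul, h2, map_one]
  have hy1 : y ≠ 1 := fun e => h1 ((map_eq_one_iff _ (MulAut.conj d).injective).mp e)
  obtain ⟨n, hn, e⟩ := List.getElem_of_mem (mem_sylInv hm hnum hy2 hy1)
  have h := List.all_eq_true.mp syl_conj n (List.mem_range.mpr hn)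
  rw [List.getD_eq_getElem _ _ hn, e, Bool.or_eq_true, Bool.and_eq_true] at h
  rcases h with h | ⟨hc, hb⟩
  · refine absurd ((MulAut.conj d).injective ?_) ht
    rw [MulAut.conj_apply, MulAut.conj_apply, conj_tauC]
    exact (eqE_one hnum num_tau).mp h
  · have hval : y = evC (conjW (Dat.sylConj.getD n []) (el 0 2)) := by
      refine Subtype.ext (Subtype.ext (agree y.1.2 (evC (conjW (Dat.sylConj.getD n []) (el 0 2))).1.2
        fun i hi => Fin.ext ?_))
      rw [← hnum, evC_val (cWord_conjW hc (cWord_el (by omega) 2)), ← apW_spec]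
      exact Nat.eq_of_beq_eq_true (List.all_eq_true.mp hb i hi)
    rw [evC_conjW] at hval
    refine ⟨d⁻¹ * evC (Dat.sylConj.getD n []), ?_⟩
    calc x = d⁻¹ * y * d := by show x = d⁻¹ * (d * x * d⁻¹) * d; group
      _ = _ := by rw [hval, Ev]; group

theorem generated_card {X : Subgroup Cent} (hX : Nat.card X = 16) {t a b : Cent} (ht : t ∈ X) (ha : a ∈ X)
    (hb : b ∈ X) : ∃ c ∈ X, c ≠ 1 ∧ c ≠ t ∧ c ≠ a ∧ c ≠ t * a ∧ c ≠ b ∧ c ≠ t * b ∧ c ≠ a * b ∧ c ≠ t * a * b := by
  classical
  by_contra hcon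
  push Not at hcon
  let s : Finset Cent := [1, t, a, t * a, b, t * b, a * b, t * a * b].toFinset
  have hsub : ∀ c : X, (c : Cent) ∈ s := fun c => by
    by_contra h
    simp only [s, List.mem_toFinset, List.mem_cons, List.not_mem_nil, or_false, not_or] at h
    obtain ⟨g1, g2, g3, g4, g5, g6, g7, g8⟩ := h
    exact g8 (hcon c c.2 g1 g2 g3 g4 g5 g6 g7)
  have := Nat.card_le_card_of_injective (fun c : X => (⟨(c : Cent), hsub c⟩ : s)) fun x y e =>
    Subtype.ext (congrArg (fun z : s => (z : Cent)) e)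
  rw [hX, Nat.card_eq_finsetCard] at this
  have h8 : s.card ≤ 8 := List.toFinset_card_le _
  omega

/-- Adjoining a commuting involution outside doubles a subgroup. -/
theorem double {H : Subgroup Cent} {x : Cent} (h2 : x * x = 1) (hc : ∀ h ∈ H, x * h = h * x) (hx : x ∉ H) :
    ∃ K : Subgroup Cent, (∀ y, y ∈ K ↔ y ∈ H ∨ x * y ∈ H) ∧ 2 * Nat.card H ≤ Nat.card K := by
  let K : Subgroup Cent :=
    { carrier := {y | y ∈ H ∨ x * y ∈ H}
      one_mem' := Or.inl H.one_mem
      mul_mem' := fun {u v} hu hv => by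
        rcases hu with hu | hu <;> rcases hv with hv | hv
        · exact Or.inl (H.mul_mem hu hv)
        · refine Or.inr ?_
          rw [← mul_assoc, hc u hu, mul_assoc]
          exact H.mul_mem hu hv
        · refine Or.inr ?_
          rw [← mul_assoc]
          exact H.mul_mem hu hv
        · refine Or.inl ?_
          have hu' : u = x * u * x := by rw [← hc _ hu, ← mul_assoc, h2, one_mul]
          rw [hu', mul_assoc (x * u) x v]
          exact H.mul_mem hu hv
      inv_mem' := fun {u} hu => by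
        rcases hu with hu | hu
        · exact Or.inl (H.inv_mem hu)
        · refine Or.inr ?_
          have hxx : x⁻¹ = x := inv_eq_of_mul_eq_one_right h2
          have h3 := H.inv_mem hu
          rw [mul_inv_rev, hxx] at h3
          have h4 := hc _ h3
          rw [mul_assoc u⁻¹, h2, mul_one] at h4
          have e : x * u⁻¹ = u⁻¹ * x := by rw [← h4, ← mul_assoc, h2, one_mul, h4]
          exact e ▸ h3 }
  refine ⟨K, fun y => Iff.rfl, ?_⟩
  rw [show 2 * Nat.card H = Nat.card (Bool × H) by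
    rw [Nat.card_prod, Nat.card_eq_fintype_card (α := Bool), Fintype.card_bool]]
  refine Nat.card_le_card_of_injective (fun p => if p.1 then (⟨x * p.2.1, Or.inr (by
    rw [← mul_assoc, h2, one_mul]; exact p.2.2)⟩ : K) else ⟨p.2.1, Or.inl p.2.2⟩) ?_
  rintro ⟨u, a⟩ ⟨v, b⟩ e
  cases u <;> cases v <;> simp at e ⊢
  · exact e
  · exact hx (by
      have : x = a.1 * (b.1)⁻¹ := by rw [e, mul_inv_cancel_right]
      exact this ▸ H.mul_mem a.2 (H.inv_mem b.2))
  · exact hx (by
      have : x = b.1 * (a.1)⁻¹ := by rw [← e, mul_inv_cancel_right]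
      exact this ▸ H.mul_mem b.2 (H.inv_mem a.2))
  · exact e

/-- The elementary abelian subgroups of order 16 containing the central involution. -/
theorem e16_conj {X : Subgroup Cent} (hX : Nat.card X = 16) (h2 : ∀ x ∈ X, x * x = 1) (htX : tauC ∈ X) :
    ∃ k, ∃ hk : k < 2, ∃ c : Cent, X = (grp k hk).map (MulAut.conj c).toMonoidHom := by
  obtain ⟨d, hd⟩ := exists_conj_sylC (IsPGroup.of_card (n := 4) (G := X) (by rw [hX]; norm_num))
  set Y := X.map (MulAut.conj d).toMonoidHom
  have hY : Nat.card Y = 16 := by rw [← hX]; exact Subgroup.card_map_of_injective (MulEquiv.injective _)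
  have hY2 : ∀ y ∈ Y, y * y = 1 := by
    rintro _ ⟨x, hx, rfl⟩; rw [← map_mul, h2 x hx, map_one]
  have htY : tauC ∈ Y := ⟨tauC, htX, by simp [MulAut.conj_apply, conj_tauC]⟩
  have hcomm : ∀ y ∈ Y, ∀ z ∈ Y, y * z = z * y := fun y hy z hz => by
    have h := hY2 _ (Y.mul_mem hy hz)
    calc y * z = y * (y * z * (y * z)) * z := by rw [h, mul_one]
      _ = y * y * (z * y) * (z * z) := by simp only [mul_assoc]
      _ = z * y := by rw [hY2 y hy, hY2 z hz, one_mul, mul_one]
  obtain ⟨a, ha, ha1, hat, -⟩ := generated_card hY htY htY htY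
  obtain ⟨b, hb, hb1, hbt, hba, hbta, -⟩ := generated_card hY htY ha ha
  obtain ⟨c, hc, hc1, hct, hca, hcta, hcb, hctb, hcab, hctab⟩ := generated_card hY htY ha hb
  obtain ⟨ma, hma, na⟩ := num_of_sylC (hd ha)
  obtain ⟨mb, hmb, nb⟩ := num_of_sylC (hd hb)
  obtain ⟨mc, hmc, nc⟩ := num_of_sylC (hd hc)
  have h := List.all_eq_true.mp syl_triples ma (mem_sylInv hma na (hY2 a ha) ha1)
  rw [Bool.or_eq_true] at h
  replace h := List.all_eq_true.mp (h.resolve_left fun e => hat ((eqE_one na num_tau).mp e)) mb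
    (mem_sylInv hmb nb (hY2 b hb) hb1)
  have tri : ∀ {u v : ℕ} {x y z : Cent}, Num u x.1.1 → Num v y.1.1 →
      ∀ {w : ℕ}, Num w z.1.1 → (eqE [w] [u, v] = true ↔ z = x * y) := fun {u v x y z} hu hv {w} hw => by
    rw [eqE_iff (num_one hw) (num_pair hu hv)]; simp
  have hco : ∀ {u v : ℕ} {x y : Cent}, x ∈ Y → y ∈ Y → Num u x.1.1 → Num v y.1.1 →
      eqE [u, v] [v, u] = true := fun {u v x y} hx hy hu hv =>
    (eqE_iff (num_pair hu hv) (num_pair hv hu)).mpr (by simpa using hcomm x hx y hy)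
  simp only [Bool.or_eq_true, Bool.not_eq_true', hco ha hb na nb, Bool.true_eq_false, false_or] at h
  rcases h with ((h | h) | h) | h
  · exact absurd ((eqE_one nb num_tau).mp h) hbt
  · exact absurd ((eqE_one nb na).mp h) hba
  · exact absurd ((tri num_tau na nb).mp h) hbta
  replace h := List.all_eq_true.mp h mc (mem_sylInv hmc nc (hY2 c hc) hc1)
  simp only [Bool.or_eq_true, Bool.not_eq_true', hco ha hc na nc, hco hb hc nb nc, Bool.true_eq_false, false_or] at h
  have h3 : eqE [mc] [tauM, ma, mb] = true → c = tauC * a * b := fun e => by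
    have := (eqE_iff (num_one nc) (.cons num_tau (num_pair na nb))).mp e
    simpa [mul_assoc] using this
  rcases h with ((((((h | h) | h) | h) | h) | h) | h) | h
  · exact absurd ((eqE_one nc num_tau).mp h) hct
  · exact absurd ((eqE_one nc na).mp h) hca
  · exact absurd ((tri num_tau na nc).mp h) hcta
  · exact absurd ((eqE_one nc nb).mp h) hcb
  · exact absurd ((tri num_tau nb nc).mp h) hctb
  · exact absurd ((tri na nb nc).mp h) hcab
  · exact absurd (h3 h) hctab
  obtain ⟨K, hK, hin⟩ := List.any_eq_true.mp h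
  simp only [Bool.and_eq_true, List.contains_iff_mem] at hin
  have hKc := List.all_eq_true.mp syl_known.1 K hK
  simp only [Bool.and_eq_true, decide_eq_true_eq, List.all_eq_true, List.mem_range, Nat.blt_eq] at hKc
  obtain ⟨⟨⟨hk, hi⟩, hlen⟩, hel⟩ := hKc
  set k := K.getD 0 0
  set i := K.getD 1 0
  set Z := (grp k hk).map (MulAut.conj (Rv k i)).toMonoidHom
  have hZ : ∀ {m : ℕ} {x : Cent}, Num m x.1.1 → m ∈ K.drop 2 → x ∈ Z := fun {m x} hx hm => by
    obtain ⟨j, hj, e⟩ := List.getElem_of_mem hm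
    rw [List.length_drop, hlen] at hj
    rw [List.getElem_drop] at e
    have hb := (hel j (by omega)).2
    rw [List.getD_eq_getElem _ _ (by omega : j + 2 < K.length),
      show K[j + 2] = K[2 + j]'(by omega) by simp only [Nat.add_comm j 2], e] at hb
    refine ⟨Ev k j, ⟨j, by omega, rfl⟩, ?_⟩
    have hw := cWord_conjW (cWord_getD (words_k hk).2.2.1 i) (cWord_el hk j)
    rw [MulEquiv.coe_toMonoidHom, MulAut.conj_apply, Rv, Ev, ← evC_conjW]
    refine Subtype.ext (Subtype.ext (agree (evC _).1.2 x.1.2 fun p hp => Fin.ext ?_))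
    rw [← hx, evC_val hw, ← apW_spec]
    exact (Nat.eq_of_beq_eq_true (hb p hp)).symm
  have htZ : tauC ∈ Z := ⟨tauC, ⟨1, by omega, (Ev_one k hk).symm⟩, by simp [MulAut.conj_apply, conj_tauC]⟩
  have ht1 : tauC ≠ 1 := fun h => absurd
    (Ev_inj (k := 0) (i := 1) (j := 0) (by omega) (by omega) (by omega) (by rw [Ev_one 0 (by omega), Ev_zero, h])) one_ne_zero
  have hsolve : ∀ {u v w : Cent}, u * u = 1 → u * v = w → v = u * w := fun hu h => by
    rw [← h, ← mul_assoc, hu, one_mul]
  have t2 := hY2 _ htY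
  obtain ⟨K1, m1, n1⟩ := double (H := ⊥) t2 (fun h hh => by rw [Subgroup.mem_bot.mp hh, mul_one, one_mul])
    (fun h => ht1 (Subgroup.mem_bot.mp h))
  have k1 : K1 ≤ Y := fun y hy => by
    rcases (m1 y).mp hy with h | h <;> rw [Subgroup.mem_bot] at h
    · exact h ▸ Y.one_mem
    · exact hsolve t2 h ▸ Y.mul_mem htY Y.one_mem
  have in1 : ∀ y ∈ K1, y = 1 ∨ y = tauC := fun y hy => by
    rcases (m1 y).mp hy with h | h <;> rw [Subgroup.mem_bot] at h
    · exact Or.inl h
    · exact Or.inr (by simpa using hsolve t2 h)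
  obtain ⟨K2, m2, n2⟩ := double (hY2 a ha) (fun h hh => hcomm a ha h (k1 hh)) (fun h => by
    rcases in1 a h with e | e
    exacts [ha1 e, hat e])
  have in2 : ∀ y ∈ K2, y = 1 ∨ y = tauC ∨ y = a ∨ y = tauC * a := fun y hy => by
    rcases (m2 y).mp hy with h | h
    · rcases in1 y h with e | e <;> simp [e]
    · rcases in1 _ h with e | e
      · exact Or.inr (Or.inr (Or.inl (by simpa using hsolve (hY2 a ha) e)))
      · exact Or.inr (Or.inr (Or.inr (by rw [hsolve (hY2 a ha) e, hcomm _ ha _ htY])))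
  have k2 : K2 ≤ Y := fun y hy => by
    rcases in2 y hy with e | e | e | e <;> rw [e]
    exacts [Y.one_mem, htY, ha, Y.mul_mem htY ha]
  obtain ⟨K3, m3, n3⟩ := double (hY2 b hb) (fun h hh => hcomm b hb h (k2 hh)) (fun h => by
    rcases in2 b h with e | e | e | e
    exacts [hb1 e, hbt e, hba e, hbta e])
  have in3 : ∀ y ∈ K3, y = 1 ∨ y = tauC ∨ y = a ∨ y = tauC * a ∨ y = b ∨ y = tauC * b ∨ y = a * b ∨
      y = tauC * a * b := fun y hy => by
    rcases (m3 y).mp hy with h | h
    · rcases in2 y h with e | e | e | e <;> simp [e]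
    · have hy' : y = b * (b * y) := by rw [← mul_assoc, hY2 b hb, one_mul]
      rcases in2 _ h with e | e | e | e <;> rw [e] at hy'
      · simp [hy']
      · simp [hy', hcomm b hb _ htY]
      · simp [hy', hcomm b hb _ ha]
      · simp [hy', hcomm b hb _ (Y.mul_mem htY ha)]
  have k3 : K3 ≤ Y ⊓ Z := fun y hy => by
    have za := hZ na hin.1.1
    have zb := hZ nb hin.1.2
    have key : ∀ g, g ∈ Y → g ∈ Z → g ∈ Y ⊓ Z := fun g => And.intro
    rcases in3 y hy with e | e | e | e | e | e | e | e <;> rw [e]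
    exacts [Subgroup.one_mem _, key _ htY htZ, key _ ha za, key _ (Y.mul_mem htY ha) (Z.mul_mem htZ za), key _ hb zb,
      key _ (Y.mul_mem htY hb) (Z.mul_mem htZ zb), key _ (Y.mul_mem ha hb) (Z.mul_mem za zb),
      key _ (Y.mul_mem (Y.mul_mem htY ha) hb) (Z.mul_mem (Z.mul_mem htZ za) zb)]
  obtain ⟨K4, m4, n4⟩ := double (hY2 c hc) (fun h hh => hcomm c hc h (k3 hh).1) (fun h => by
    rcases in3 c h with e | e | e | e | e | e | e | e
    exacts [hc1 e, hct e, hca e, hcta e, hcb e, hctb e, hcab e, hctab e])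
  have k4 : K4 ≤ Y ⊓ Z := fun y hy => by
    rcases (m4 y).mp hy with h | h
    · exact k3 h
    · have := (Y ⊓ Z).mul_mem (show c ∈ Y ⊓ Z from ⟨hc, hZ nc hin.2⟩) (k3 h)
      rwa [← mul_assoc, hY2 c hc, one_mul] at this
  have h16 : 16 ≤ Nat.card K4 := by
    rw [Subgroup.card_bot] at n1
    omega
  have hZ16 : Nat.card Z = 16 := (Subgroup.card_map_of_injective (MulEquiv.injective _)).trans (card_grp hk)
  have e1 : K4 = Y := Subgroup.eq_of_le_of_card_ge (k4.trans inf_le_left) (hY.trans_le h16)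
  have e2 : K4 = Z := Subgroup.eq_of_le_of_card_ge (k4.trans inf_le_right) (hZ16.trans_le h16)
  refine ⟨k, hk, d⁻¹ * Rv k i, ?_⟩
  have hXY : X = Y.map (MulAut.conj d⁻¹).toMonoidHom := by
    rw [Subgroup.map_map]
    convert (Subgroup.map_id X).symm using 2
    ext x
    simp [mul_assoc]
  rw [hXY, ← e1, e2, Subgroup.map_map]
  congr 1

end CfsgMcLChar
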